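import Groth.Prelude.Def_WeilRes
import Mathlib.CategoryTheory.Monoidal.Cartesian.Grp

/-!
# The group structure on the Weil restriction of a group scheme
-/

set_option autoImplicit false
universe v u w
open CategoryTheory MonoidalCategory CartesianMonoidalCategory MonObj GrpObj AlgebraicGeometry Limits Opposite

namespace K490.WeilGrp

/-- the product of two points for the group structure defined by a representation -/
lemma ofRepresentableBy_mul {𝒞 : Type*} [Category 𝒞] [CartesianMonoidalCategory 𝒞] {Z : 𝒞}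
    (F : 𝒞ᵒᵖ ⥤ GrpCat.{w}) (r : (F ⋙ forget _).RepresentableBy Z) {Y : 𝒞} (f g : Y ⟶ Z) :
    letI := GrpObj.ofRepresentableBy Z F r
    (r.homEquiv (f * g) : F.obj (op Y)) = (r.homEquiv f : F.obj (op Y)) * (r.homEquiv g : F.obj (op Y)) := by
  let := GrpObj.ofRepresentableBy Z F r
  have h0 : (r.homEquiv μ[Z] : F.obj (op (Z ⊗ Z))) =
      (r.homEquiv (fst Z Z) : F.obj (op (Z ⊗ Z))) * (r.homEquiv (snd Z Z) : F.obj (op (Z ⊗ Z))) :=
    r.homEquiv.apply_symm_apply _
  have h1 : f * g = lift f g ≫ μ[Z] := Hom.mul_def f g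
  rw [h1, r.homEquiv_comp]
  have h2 : (r.homEquiv f : F.obj (op Y)) = (F.map (lift f g).op) (r.homEquiv (fst Z Z) : F.obj (op (Z ⊗ Z))) := by
    have := r.homEquiv_comp (lift f g) (fst Z Z)
    rw [lift_fst] at this
    exact this
  have h3 : (r.homEquiv g : F.obj (op Y)) = (F.map (lift f g).op) (r.homEquiv (snd Z Z) : F.obj (op (Z ⊗ Z))) := by
    have := r.homEquiv_comp (lift f g) (snd Z Z)
    rw [lift_snd] at this
    exact this
  rw [h2, h3, ← map_mul, ← h0]
  rfl

/-- A morphism out of the image of a monoid object under a cartesian monoidal functor is a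
homomorphism if it is compatible with the product of the two universal points. -/
theorem isMonHom_of_map {𝒞 𝒟 : Type*} [Category 𝒞] [Category 𝒟] [CartesianMonoidalCategory 𝒞]
    [CartesianMonoidalCategory 𝒟] (F : 𝒞 ⥤ 𝒟) [F.Monoidal] {Z : 𝒞} [GrpObj Z] {X : 𝒟} [GrpObj X]
    (q : F.obj Z ⟶ X)
    (h : letI := Functor.grpObjObj (F := F) (G := Z)
      (F.map (fst Z Z * snd Z Z)) ≫ q = (F.map (fst Z Z) ≫ q) * (F.map (snd Z Z) ≫ q)) :
    letI := Functor.grpObjObj (F := F) (G := Z)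
    IsMonHom q := by
  let := Functor.grpObjObj (F := F) (G := Z)
  have h1 : (fst (F.obj Z) (F.obj Z) * snd (F.obj Z) (F.obj Z)) ≫ q =
      (fst (F.obj Z) (F.obj Z) ≫ q) * (snd (F.obj Z) (F.obj Z) ≫ q) := by
    have e1 : Functor.LaxMonoidal.μ F Z Z ≫ F.map (fst Z Z) = fst (F.obj Z) (F.obj Z) := by simp
    have e2 : Functor.LaxMonoidal.μ F Z Z ≫ F.map (snd Z Z) = snd (F.obj Z) (F.obj Z) := by simp
    rw [← e1, ← e2, ← comp_mul, Category.assoc, ← Functor.map_mul, h, comp_mul, Category.assoc,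
      Category.assoc]
  have hmul : μ[F.obj Z] ≫ q = (q ⊗ₘ q) ≫ μ[X] := by
    have e3 : μ[F.obj Z] = fst (F.obj Z) (F.obj Z) * snd (F.obj Z) (F.obj Z) := by
      rw [Hom.mul_def, lift_fst_snd, Category.id_comp]
    rw [e3, h1, Hom.mul_def]
    congr 1
    ext <;> simp
  refine ⟨?_, hmul⟩
  -- the unit
  have h2 : η[F.obj Z] ≫ q = (η[F.obj Z] ≫ q) * (η[F.obj Z] ≫ q) := by
    have e4 : lift η[F.obj Z] η[F.obj Z] ≫ (fst (F.obj Z) (F.obj Z) * snd (F.obj Z) (F.obj Z)) = η[F.obj Z] := by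
      rw [comp_mul, lift_fst, lift_snd]
      have : η[F.obj Z] = (1 : 𝟙_ _ ⟶ F.obj Z) := MonObj.one_eq_one _
      rw [this, _root_.one_mul]
    have e5 := congr(lift η[F.obj Z] η[F.obj Z] ≫ $h1)
    rw [← Category.assoc, e4, comp_mul, lift_fst_assoc, lift_snd_assoc] at e5
    exact e5
  have h3 : η[F.obj Z] ≫ q = 1 := by
    have := mul_left_cancel (a := η[F.obj Z] ≫ q) (b := η[F.obj Z] ≫ q) (c := 1) (by rw [← h2, _root_.mul_one])
    exact this
  rw [h3]
  exact (MonObj.one_eq_one _).symm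

variable {S S' : Scheme.{u}} (f : S' ⟶ S)

/-- The Weil restriction of a group scheme is a group scheme. -/
theorem exists_grp {X' : Over S'} [GrpObj X'] {W : Over S} {q : Red.bc f W ⟶ X'}
    (h : WeilRes.IsWeilRes f X' W q) : ∃ (_ : GrpObj W), IsMonHom q := by
  let F : (Over S)ᵒᵖ ⥤ GrpCat := (Over.pullback f).op ⋙ yonedaGrpObj X'
  let r : (F ⋙ forget _).RepresentableBy W := h.representableBy
  let hW : GrpObj W := GrpObj.ofRepresentableBy W F r
  refine ⟨hW, ?_⟩
  refine isMonHom_of_map (Over.pullback f) q ?_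
  exact ofRepresentableBy_mul F r (fst W W) (snd W W)

end K490.WeilGrp
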