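import Mathlib.AlgebraicGeometry.Pullbacks
import Mathlib.CategoryTheory.Comma.Over.Pullback

/-!
# Maps between base changes

`pullback_map_eq_iff`: two morphisms of `S`-schemes have the same base change along `h` iff they agree
after the projection.
-/

set_option autoImplicit false
universe u
open CategoryTheory CategoryTheory.Limits AlgebraicGeometry

namespace K490.PullMap

lemma pullback_map_left_fst {S T : Scheme.{u}} (h : T ⟶ S) {X Y : Over S} (a : X ⟶ Y) :
    ((Over.pullback h).map a).left ≫ pullback.fst Y.hom h = pullback.fst X.hom h ≫ a.left :=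
  pullback.lift_fst _ _ _

lemma pullback_map_left_snd {S T : Scheme.{u}} (h : T ⟶ S) {X Y : Over S} (a : X ⟶ Y) :
    ((Over.pullback h).map a).left ≫ pullback.snd Y.hom h = pullback.snd X.hom h :=
  pullback.lift_snd _ _ _

lemma pullback_map_eq_iff {S T : Scheme.{u}} (h : T ⟶ S) {X Y : Over S} (a b : X ⟶ Y) :
    (Over.pullback h).map a = (Over.pullback h).map b ↔
      pullback.fst X.hom h ≫ a.left = pullback.fst X.hom h ≫ b.left := by
  constructor
  · intro hab
    rw [← pullback_map_left_fst, ← pullback_map_left_fst, hab]
  · intro hab
    ext1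
    apply pullback.hom_ext
    · rw [pullback_map_left_fst, pullback_map_left_fst, hab]
    · rw [pullback_map_left_snd, pullback_map_left_snd]

end K490.PullMap
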