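import Groth.Prelude.Def_Neron
import Groth.Prelude.Def_SGA7IX
import Groth.Agent.Dix.GenFibre
import Groth.Agent.Sga7.H760.FibreFlat
import Groth.Agent.Sga7.H760.KerBc
import Groth.Agent.S18485

/-!
# Isogenies on the generic fibre: quasi-finite ↔ flat

`R` Dedekind, `A`, `B` smooth group schemes of finite type over `Spec R`, `φ : A ⟶ B` with
`φ_K` an isogeny.
-/

set_option autoImplicit false
universe u
open CategoryTheory MonoidalCategory CartesianMonoidalCategory MonObj GrpObj AlgebraicGeometry Limits

namespace K490.IsogFlat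

open Groth.Agent.Dix.GenFibre Groth.Agent.Sga7.H760 Groth.Agent.Sga3C.FlatPt

variable {R : Type u} [CommRing R]

section

variable [IsDomain R]

/-- The generic point of `Spec R`. -/
def gpt (R : Type u) [CommRing R] [IsDomain R] : ↥(Spec (CommRingCat.of R)) := (⊥ : PrimeSpectrum R)

theorem gpt_specializes (s : ↥(Spec (CommRingCat.of R))) : gpt R ⤳ s :=
  (PrimeSpectrum.le_iff_specializes _ _).mp bot_le

theorem surjective_fibreHom {A B : Over (Spec (CommRingCat.of R))} (u : A ⟶ B)
    [Surjective ((Neron.genericFibre R).map u).left] :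
    Surjective (SGA7.fibreHom (gpt R) u).left := by
  constructor
  intro y
  let t := gpt R
  let jB := pullback.fst B.hom ((Spec (CommRingCat.of R)).fromSpecResidueField t)
  let jA := pullback.fst A.hom ((Spec (CommRingCat.of R)).fromSpecResidueField t)
  have hjB : IsPreimmersion jB :=
    MorphismProperty.pullback_fst (P := @IsPreimmersion) _ _ inferInstance
  have hb : B.hom (jB y) = t := by
    have h1 : jB y ∈ Set.range jB := ⟨y, rfl⟩
    rw [Scheme.Pullback.range_fst, Scheme.range_fromSpecResidueField] at h1
    exact h1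
  obtain ⟨z, hz⟩ := exists_genι_eq B (jB y) (by rw [hb]; rfl)
  obtain ⟨w, hw⟩ := ((Neron.genericFibre R).map u).left.surjective z
  have h2 : u.left (genι A w) = jB y := by
    rw [← Scheme.Hom.comp_apply, ← genι_naturality, Scheme.Hom.comp_apply, hw, hz]
  have h3 : A.hom (genι A w) = t := by
    rw [← hb, ← h2, ← Scheme.Hom.comp_apply u.left B.hom, Over.w]
  have h4 : genι A w ∈ Set.range jA := by
    rw [Scheme.Pullback.range_fst, Scheme.range_fromSpecResidueField]
    exact h3
  obtain ⟨a, ha⟩ := h4
  refine ⟨a, jB.isEmbedding.injective ?_⟩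
  rw [← Scheme.Hom.comp_apply, FibreFlat.fibreHom_fst, Scheme.Hom.comp_apply, ← h2]
  exact congrArg _ ha

/-- `u` quasi-finite and surjective on the generic fibre is flat. -/
theorem flat_of_lqf {A B : Over (Spec (CommRingCat.of R))} [GrpObj A] [GrpObj B]
    [Flat A.hom] [LocallyOfFinitePresentation A.hom] [QuasiCompact A.hom] [Smooth B.hom] (u : A ⟶ B)
    [IsMonHom u] [LocallyQuasiFinite u.left] [Surjective ((Neron.genericFibre R).map u).left] :
    Flat u.left := by
  have h1 := surjective_fibreHom u
  have hq : ∀ s : ↥(Spec (CommRingCat.of R)), LocallyQuasiFinite (SGA7.fibreHom s u).left := fun s =>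
    MorphismProperty.of_isPullback (P := @LocallyQuasiFinite)
      (Groth.Agent.Sga3C.ActBase.isPullback_map_left ((Spec (CommRingCat.of R)).fromSpecResidueField s) u).flip
      inferInstance
  have h2 : ∀ s : ↥(Spec (CommRingCat.of R)), Flat (SGA7.fibreHom s u).left := fun s =>
    FibreFlat.flat_fibreHom u (gpt_specializes s)
  refine flat_of_forall_isFlatAt _ fun x => ?_
  exact FibreFlat.isFlatAt_of_flat_fibreHom u (A.hom x) x rfl

end

section

variable [IsDedekindDomain R]

theorem isPullback_left_of_isKernel {S : Scheme.{u}} {A B N : Over S} [GrpObj B] {u : A ⟶ B}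
    {i : N ⟶ A} (hN : AlgGrp.IsKernel i u) : IsPullback i.left N.hom u.left (Ker.unit B) := by
  have h1 := hN.map (Over.forget _)
  have h2 : (toUnit N).left = N.hom := by
    have := Over.w (toUnit N)
    rw [Over.tensorUnit_hom] at this
    exact (Category.comp_id _).symm.trans this
  have h3 : (Over.forget S).map (toUnit N) = N.hom := h2
  rw [h3] at h1
  exact h1

/-- the kernel of a flat isogeny is locally quasi-finite -/
theorem lqf_ker {A B : Over (Spec (CommRingCat.of R))} [GrpObj A] [GrpObj B] (u : A ⟶ B)
    [IsMonHom u] [LocallyOfFiniteType u.left] [Flat u.left]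
    (hφ : SGA7.IsIsogenyOver ((Neron.genericFibre R).map u))
    {N : Over (Spec (CommRingCat.of R))} {i : N ⟶ A} (hN : AlgGrp.IsKernel i u) :
    LocallyQuasiFinite N.hom ∧ Flat N.hom := by
  have hsq := isPullback_left_of_isKernel hN
  have h1 : Flat N.hom := MorphismProperty.of_isPullback (P := @Flat) hsq inferInstance
  have h2 : LocallyOfFiniteType N.hom :=
    MorphismProperty.of_isPullback (P := @LocallyOfFiniteType) hsq inferInstance
  have h3 : IsFinite ((Neron.genericFibre R).obj N).hom :=
    hφ.2 _ _ (KerBc.isKernel_bc (Neron.genPt R) hN)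
  have h4 : LocallyQuasiFinite ((Neron.genericFibre R).obj N).hom := inferInstance
  exact ⟨Groth.Agent.S18485.result R N, h1⟩

theorem lqf_of_flat {A B : Over (Spec (CommRingCat.of R))} [GrpObj A] [GrpObj B] (u : A ⟶ B)
    [IsMonHom u] [LocallyOfFiniteType u.left] [QuasiCompact u.left] [Flat u.left]
    (hφ : SGA7.IsIsogenyOver ((Neron.genericFibre R).map u)) : LocallyQuasiFinite u.left := by
  have := (lqf_ker u hφ (Ker.isKernel_ker u)).1
  exact Ker.lqf_left u

end

end K490.IsogFlat
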