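import Groth.Agent.Neron.K446.Local
import Groth.Agent.Neron.K485.DivExtMain
import Groth.Agent.Neron.K485.PowExt

/-!
# The two extension statements used by the local theory
-/

set_option autoImplicit false
universe u

open IsLocalRing CategoryTheory CategoryTheory.Limits AlgebraicGeometry MonObj
open MonoidalCategory CartesianMonoidalCategory

namespace K490.AsHyp

open Groth.Agent.Sga67.TorsionLift (sp spMap spMap_comp)
open Groth.Agent.Neron.K446.Local

/-- `Spec R` over itself. -/
noncomputable def idSp (R : Type u) [CommRing R] : sp R R ⟶ Over.mk (𝟙 (Spec (CommRingCat.of R))) :=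
  Over.homMk (𝟙 _) (by
    change 𝟙 _ ≫ 𝟙 _ = Spec.map (CommRingCat.ofHom (algebraMap R R))
    rw [Category.id_comp]
    exact (Spec.map_id _).symm)

theorem spMap_idSp (R T : Type u) [CommRing R] [CommRing T] [Algebra R T] :
    spMap (Algebra.ofId R T) ≫ idSp R = (Over.homMk (Spec.map (CommRingCat.ofHom (algebraMap R T))) :
      Over.mk (Spec.map (CommRingCat.ofHom (algebraMap R T))) ⟶ Over.mk (𝟙 (Spec (CommRingCat.of R)))) := by
  ext1
  change Spec.map (CommRingCat.ofHom (algebraMap R T)) ≫ 𝟙 _ = Spec.map (CommRingCat.ofHom (algebraMap R T))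
  rw [Category.comp_id]

theorem divExt : DivExt.{u} := by
  intro R _ _ _ _ x hx 𝒜 _ _ _ _ _ hsab hconn hprop c hc
  obtain ⟨c', hc'⟩ := K485.DivExtMain.exists_extend_of_divisible x hx 𝒜 hsab hconn (Localization.Away x) hprop c hc
  refine ⟨idSp R ≫ c', ?_⟩
  rw [← Category.assoc, spMap_idSp]
  exact hc'

theorem powExt : PowExt.{u} := by
  intro V K _ _ _ _ _ _ _ _ _ 𝒜 _ _ _ _ _ hsab hconn hprop
  obtain ⟨m, hm, H⟩ := K485.PowExt.exists_pow_extend (K := K) 𝒜 hsab hconn hprop
  refine ⟨m, hm, fun c => ?_⟩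
  obtain ⟨c', hc'⟩ := H c
  refine ⟨idSp V ≫ c', ?_⟩
  rw [← Category.assoc, spMap_idSp]
  exact hc'

end K490.AsHyp
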