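import Groth.Agent.Neron.K446.Nmp
import Groth.Agent.Neron.K490.AsHyp
import Groth.Agent.Sga4h.ChartGeo

/-!
# The local Néron models at points of a regular divisor: charts
-/

set_option autoImplicit false
universe u

open IsLocalRing CategoryTheory CategoryTheory.Limits AlgebraicGeometry MonObj
open MonoidalCategory CartesianMonoidalCategory

namespace K490.AsChart

open Groth.Agent.Sga67.TorsionLift (sp spMap spMap_comp)
open Groth.Agent.Neron.K446.Local

/-- Strict henselizations of localizations are ind-étale. -/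
theorem isIndEtale_strict (A : Type u) [CommRing A] (q : Ideal A) [q.IsPrime] (R : Type u) [CommRing R] [IsLocalRing R]
    [Algebra (Localization.AtPrime q) R] [IsLocalHom (algebraMap (Localization.AtPrime q) R)]
    [Hensel.IsStrictHenselization (Localization.AtPrime q) R] [Algebra A R]
    [IsScalarTower A (Localization.AtPrime q) R] : EtPBC.IsIndEtale A R := by
  refine Groth.Agent.Proet.IndEtale.isIndEtale_trans A (Localization.AtPrime q) R ?_ ?_
  · rw [Groth.Agent.Proet.IndEtale.isIndEtale_iff_factor]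
    intro Z _ _ hZ g
    obtain ⟨E, i1, i2, hE, ψ, χ, h⟩ := Groth.Agent.CalgC.IndEtale.isIndEtale_of_isLocalization
      q.primeCompl (Localization.AtPrime q) Z g
    exact ⟨E, i1, i2, ψ, χ, hE, h⟩
  · rw [Groth.Agent.Proet.IndEtale.isIndEtale_iff_factor]
    intro Z _ _ hZ g
    obtain ⟨E, i1, i2, hE, ψ, χ, h⟩ :=
      (Groth.Agent.Hensel.Exist.isHull_of_isStrictHenselization (Localization.AtPrime q) R).lazard Z g
    exact ⟨E, i1, i2, ψ, χ, hE, h⟩

/-- The local model at a point (existence, in terms of étale neighbourhoods). -/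
def LocEx {S : Scheme.{u}} (U : S.Opens) (𝒜 : Over S) (s : S) : Prop :=
  ∃ (S' : Scheme.{u}) (g : S' ⟶ S) (_ : Etale g) (s' : S') (_ : g s' = s) (N : Scheme.{u}) (n : N ⟶ S')
    (_ : Smooth n) (_ : IsSeparated n) (U' : Scheme.{u}) (j : U' ⟶ S') (_ : IsOpenImmersion j)
    (_ : Set.range j = g ⁻¹' (U : Set S)) (P : Scheme.{u}) (p₁ : P ⟶ N) (p₂ : P ⟶ U') (q : P ⟶ 𝒜.left),
    IsPullback p₁ p₂ n j ∧ IsPullback q p₂ 𝒜.hom (j ≫ g) ∧
      ∀ {Y : Scheme.{u}} (p : Y ⟶ S'), Smooth p → K486.NMP.ExtU (g ⁻¹ᵁ U) p n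

variable {S : Scheme.{u}} (U : S.Opens) (𝒜 : Over S) [GrpObj 𝒜] {A : Type u} [CommRing A]
  (i : Spec (CommRingCat.of A) ⟶ S) (x : A)

/-- The standing hypotheses for the base change to a chart. -/
theorem sa_chart [Smooth 𝒜.hom] (hsab : SGA7.FibresUnipotentRankZero 𝒜)
    (hconn : ∀ (L : Type u) [Field L] (t : Spec (CommRingCat.of L) ⟶ S), ConnectedSpace ↑(pullback 𝒜.hom t))
    (hprop : IsProper (Limits.pullback.snd 𝒜.hom U.ι)) (hunits : ∀ n : ℕ, 0 < n → IsUnit (n : A))
    (hU : ∀ z : Spec (CommRingCat.of A), i z ∈ U ↔ x ∉ (show PrimeSpectrum A from z).asIdeal) :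
    SA x (Red.bc i 𝒜) where
  units := hunits
  sab := Groth.Agent.Sga7.H738.RankZeroBc.fibresUnipotentRankZero_bc Groth.Agent.Sga7.H738.S4057Comm.l2 i 𝒜 hsab
  conn L _ t := by
    have h1 := hconn L (t ≫ i)
    have h2 : IsPullback _ _ (pullback.snd 𝒜.hom i) t := isPullback_snd 𝒜.hom i t
    exact (Scheme.homeoOfIso h2.isoPullback).surjective.connectedSpace
      (Scheme.homeoOfIso h2.isoPullback).continuous
  prop := by
    let r : Spec (CommRingCat.of (Localization.Away x)) ⟶ S := st A (Localization.Away x) ≫ i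
    have hr : Set.range r ⊆ Set.range U.ι := by
      rintro _ ⟨z, rfl⟩
      rw [Scheme.Opens.range_ι]
      change i (st A (Localization.Away x) z) ∈ U
      rw [hU]
      have h1 := PrimeSpectrum.localization_away_comap_range (Localization.Away x) x
      have h2 : PrimeSpectrum.comap (algebraMap A (Localization.Away x)) z ∈
        Set.range (PrimeSpectrum.comap (algebraMap A (Localization.Away x))) := ⟨z, rfl⟩
      rw [h1] at h2
      exact h2
    let l : Spec (CommRingCat.of (Localization.Away x)) ⟶ U.toScheme := IsOpenImmersion.lift U.ι r hr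
    have hl : l ≫ U.ι = r := IsOpenImmersion.lift_fac _ _ _
    have h1 : IsProper (pullback.snd 𝒜.hom (l ≫ U.ι)) :=
      MorphismProperty.of_isPullback (P := @IsProper) (isPullback_snd 𝒜.hom U.ι l) hprop
    rw [hl] at h1
    have h2 := isPullback_snd 𝒜.hom i (st A (Localization.Away x))
    have h4 : pullback.snd (pullback.snd 𝒜.hom i) (st A (Localization.Away x)) =
        h2.isoPullback.inv ≫ pullback.snd 𝒜.hom (st A (Localization.Away x) ≫ i) := by
      rw [h2.isoPullback_inv_snd]
    change IsProper (pullback.snd (pullback.snd 𝒜.hom i) (st A (Localization.Away x)))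
    rw [h4]
    have h5 : IsProper (pullback.snd 𝒜.hom (st A (Localization.Away x) ≫ i)) := h1
    infer_instance

theorem locEx_of_chart [IsLocallyNoetherian S] (hUd : CInt.IsSchematicallyDense U) [IsCommMonObj 𝒜]
    [Smooth 𝒜.hom] [IsSeparated 𝒜.hom] [QuasiCompact 𝒜.hom] [IsOpenImmersion i] (hG : SA x (Red.bc i 𝒜)) (hA : RegPair A x)
    (hU : ∀ z : Spec (CommRingCat.of A), i z ∈ U ↔ x ∉ (show PrimeSpectrum A from z).asIdeal)
    (z : Spec (CommRingCat.of A)) (hz : x ∈ (show PrimeSpectrum A from z).asIdeal) : LocEx U 𝒜 (i z) := by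
  let G : Over (Spec (CommRingCat.of A)) := Red.bc i 𝒜
  have hGs : Smooth G.hom := inferInstanceAs (Smooth (pullback.snd 𝒜.hom i))
  have hGsep : IsSeparated G.hom := inferInstanceAs (IsSeparated (pullback.snd 𝒜.hom i))
  have hGqc : QuasiCompact G.hom := inferInstanceAs (QuasiCompact (pullback.snd 𝒜.hom i))
  have hGc : IsCommMonObj G := inferInstance
  let q : Ideal A := (show PrimeSpectrum A from z).asIdeal
  have hq : q.IsPrime := (show PrimeSpectrum A from z).isPrime
  obtain ⟨R, _, _, _, _, hR⟩ := Groth.Agent.S0537.result (Localization.AtPrime q)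
  let algAR : Algebra A R := ((algebraMap (Localization.AtPrime q) R).comp
    (algebraMap A (Localization.AtPrime q))).toAlgebra
  have htR : IsScalarTower A (Localization.AtPrime q) R := IsScalarTower.of_algebraMap_eq fun _ => rfl
  obtain ⟨h1, h2, h3, h4, h5⟩ := hA.par q hz R
  have hind : EtPBC.IsIndEtale A R := isIndEtale_strict A q R
  obtain ⟨A', _, _, hA', χ, -, -, I, _, _, m, b, hgood⟩ :=
    SA.exists_nbhd_aux AsHyp.divExt AsHyp.powExt hG hA R ⟨h4, h5⟩ hind
  obtain ⟨N, φ, j, hgl⟩ := exists_glued G b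
  have hjo := hgl.isOpenImmersion_j
  have hreg' := (hA.of_smooth A').reg
  have hsep := hgl.isSeparated' hG hA hgood
  let g : Spec (CommRingCat.of A') ⟶ S := st A A' ≫ i
  have het : Etale (st A A') := by
    rw [HasRingHomProperty.Spec_iff (P := @Etale)]
    exact RingHom.etale_algebraMap.2 hA'
  have hg : Etale g := inferInstance
  -- the point
  let z' : Spec (CommRingCat.of A') := Spec.map (CommRingCat.ofHom (χ : A' →+* R)) (closedPoint R)
  have hz' : st A A' z' = z := by
    rw [← Scheme.Hom.comp_apply, ← Spec.map_comp, ← CommRingCat.ofHom_comp]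
    have h6 : (χ : A' →+* R).comp (algebraMap A A') = algebraMap A R := by
      ext a
      exact χ.commutes a
    rw [h6]
    apply PrimeSpectrum.ext
    change (maximalIdeal R).comap (algebraMap A R) = q
    have h7 : (maximalIdeal R).comap (algebraMap (Localization.AtPrime q) R) =
        maximalIdeal (Localization.AtPrime q) :=
      congrArg PrimeSpectrum.asIdeal (IsLocalRing.comap_closedPoint (algebraMap (Localization.AtPrime q) R))
    rw [IsScalarTower.algebraMap_eq A (Localization.AtPrime q) R, ← Ideal.comap_comap, h7]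
    exact Localization.AtPrime.under_maximalIdeal
  have hrange : Set.range (st A' (Rx x A')) = g ⁻¹' (U : Set S) := by
    ext w
    rw [mem_range_st_iff]
    change _ ↔ i (st A A' w) ∈ U
    rw [hU]
    rfl
  have hpb1 := hgl.isPullback_j
  have hpb2 : IsPullback ((fst G (Yx x A')).left ≫ pullback.fst 𝒜.hom i) (snd G (Yx x A')).left 𝒜.hom
      (st A' (Rx x A') ≫ g) := by
    have h8 : IsPullback (fst G (Yx x A')).left (snd G (Yx x A')).left G.hom (st A (Rx x A')) :=
      IsPullback.of_hasPullback G.hom (st A (Rx x A'))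
    have h9 : IsPullback (pullback.fst 𝒜.hom i) G.hom 𝒜.hom i := IsPullback.of_hasPullback 𝒜.hom i
    have h10 := h8.paste_horiz h9
    rwa [← st_comp A A' (Rx x A'), Category.assoc] at h10
  refine ⟨Spec (CommRingCat.of A'), g, hg, z', by rw [Scheme.Hom.comp_apply, hz'], N.left, N.hom, hgl.smooth, hsep,
    Spec (CommRingCat.of (Rx x A')), st A' (Rx x A'), inferInstance, hrange, _, j.left, (snd G (Yx x A')).left,
    _, hpb1, hpb2, ?_⟩
  intro Y p hp
  refine hgl.extU hA hgood (g ⁻¹ᵁ U) ?_ ?_ p
  · rw [hrange]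
    rfl
  · exact Groth.Agent.S3844.result g U hUd

end K490.AsChart
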