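import Groth.Agent.Neron.K490.AsChart
import Groth.Agent.Neron.K491.AsQuot
import Groth.Agent.Neron.K491.AsBuild
import Groth.Agent.S13207
import Groth.Agent.CalgA.TwoGlue

/-!
# Gluing local Néron models over étale neighbourhoods: disjoint unions
-/

set_option autoImplicit false
universe u

open CategoryTheory CategoryTheory.Limits AlgebraicGeometry

namespace K490.AsGlue

open K490.AsChart K486.NMP Groth.Agent.S13207

/-- A local model over a scheme étale over `S`. -/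
structure Piece {S : Scheme.{u}} (U : S.Opens) (𝒜 : Over S) where
  B : Scheme.{u}
  b : B ⟶ S
  et : Etale b
  N : Scheme.{u}
  n : N ⟶ B
  sm : Smooth n
  sep : IsSeparated n
  Y : Scheme.{u}
  v : Y ⟶ B
  ov : IsOpenImmersion v
  rv : Set.range v = b ⁻¹' (U : Set S)
  P : Scheme.{u}
  p : P ⟶ N
  s : P ⟶ Y
  t : P ⟶ 𝒜.left
  pb1 : IsPullback p s n v
  pb2 : IsPullback t s 𝒜.hom (v ≫ b)
  ext : ∀ {T : Scheme.{u}} (q : T ⟶ B), Smooth q → ExtU (b ⁻¹ᵁ U) q n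

variable {S : Scheme.{u}} {U : S.Opens} {𝒜 : Over S}

theorem exists_piece {s : S} (h : LocEx U 𝒜 s) : ∃ Q : Piece U 𝒜, s ∈ Set.range Q.b := by
  obtain ⟨B, b, h1, s', h2, N, n, h3, h4, Y, v, h5, h6, P, p, r, t, h7, h8, h9⟩ := h
  exact ⟨⟨B, b, h1, N, n, h3, h4, Y, v, h5, h6, P, p, r, t, h7, h8, h9⟩, s', h2⟩

/-! ### Coproducts -/

theorem sigma_of_target (P : MorphismProperty Scheme.{u}) [IsZariskiLocalAtTarget P] {I : Type u}
    (B N : I → Scheme.{u}) (f : ∀ i, N i ⟶ B i) (h : ∀ i, P (f i)) : P (Limits.Sigma.map f) := by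
  rw [IsZariskiLocalAtTarget.iff_of_openCover (P := P) (sigmaOpenCover B)]
  intro i
  change I at i
  change P (pullback.snd (Limits.Sigma.map f) (Sigma.ι B i))
  have h1 := isPullback_sigma B N f i
  rw [← h1.isoPullback_inv_snd]
  exact (P.cancel_left_of_respectsIso _ _).2 (h i)

theorem sigma_of_source (P : MorphismProperty Scheme.{u}) [IsZariskiLocalAtSource P] {I : Type u}
    (B : I → Scheme.{u}) {T : Scheme.{u}} (f : ∀ i, B i ⟶ T) (h : ∀ i, P (f i)) : P (Sigma.desc f) := by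
  refine (IsZariskiLocalAtSource.iff_of_openCover (P := P) (sigmaOpenCover B)).2 fun i => ?_
  change P (Sigma.ι B i ≫ Sigma.desc f)
  rw [Sigma.ι_desc]
  exact h i

theorem range_sigma {I : Type u} (B Y : I → Scheme.{u}) (v : ∀ i, Y i ⟶ B i) (b : ∀ i, B i ⟶ S)
    (h : ∀ i, Set.range (v i) = b i ⁻¹' (U : Set S)) :
    Set.range (Limits.Sigma.map v) = (Sigma.desc b) ⁻¹' (U : Set S) := by
  ext z
  obtain ⟨i, y, hy⟩ := (sigmaOpenCover B).exists_eq z
  change I at i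
  change B i at y
  change Sigma.ι B i y = z at hy
  subst hy
  have h1 : (Sigma.desc b) (Sigma.ι B i y) = b i y := by
    rw [← Scheme.Hom.comp_apply, Sigma.ι_desc]
  have h2 : Sigma.ι B i y ∈ (Sigma.desc b) ⁻¹' (U : Set S) ↔ y ∈ Set.range (v i) := by
    rw [h i, Set.mem_preimage, Set.mem_preimage, h1]
  rw [h2]
  constructor
  · rintro ⟨w, hw⟩
    obtain ⟨k, w', hw'⟩ := (sigmaOpenCover Y).exists_eq w
    change I at k
    change Y k at w'
    change Sigma.ι Y k w' = w at hw'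
    subst hw'
    have h3 : Sigma.ι B k (v k w') = Sigma.ι B i y := by
      rw [← hw, ← Scheme.Hom.comp_apply, ← Scheme.Hom.comp_apply, Limits.Sigma.ι_map]
    obtain ⟨rfl, h4⟩ := Sigma.mk.inj_iff.1 ((sigmaι_eq_iff B k i _ _).1 h3)
    exact ⟨w', eq_of_heq h4⟩
  · rintro ⟨w, rfl⟩
    refine ⟨Sigma.ι Y i w, ?_⟩
    rw [← Scheme.Hom.comp_apply, ← Scheme.Hom.comp_apply, Limits.Sigma.ι_map]

theorem isPullback_sigma_map {I : Type u} (P N Y B : I → Scheme.{u}) (p : ∀ i, P i ⟶ N i) (s : ∀ i, P i ⟶ Y i)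
    (n : ∀ i, N i ⟶ B i) (v : ∀ i, Y i ⟶ B i) (h : ∀ i, IsPullback (p i) (s i) (n i) (v i)) :
    IsPullback (Limits.Sigma.map p) (Limits.Sigma.map s) (Limits.Sigma.map n) (Limits.Sigma.map v) := by
  refine Groth.Agent.CalgA.TwoGlue.isPullback_of_cover ?_ (sigmaOpenCover N) P (fun i => Sigma.ι P i) p
    (fun i => isPullback_sigma N P p i) (fun i => ?_)
  · refine Sigma.hom_ext _ _ fun i => ?_
    simp only [Limits.Sigma.ι_map_assoc, Limits.Sigma.ι_map]
    rw [reassoc_of% (h i).w]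
  · change I at i
    have h1 := (h i).paste_vert (isPullback_sigma B Y v i).flip
    change IsPullback (p i) (Sigma.ι P i ≫ Limits.Sigma.map s) (Sigma.ι N i ≫ Limits.Sigma.map n) (Limits.Sigma.map v)
    rw [Limits.Sigma.ι_map, Limits.Sigma.ι_map]
    exact h1

theorem isPullback_sigma_desc {I : Type u} (P Y : I → Scheme.{u}) {A T : Scheme.{u}} (a : A ⟶ T)
    (t : ∀ i, P i ⟶ A) (s : ∀ i, P i ⟶ Y i) (c : ∀ i, Y i ⟶ T) (h : ∀ i, IsPullback (t i) (s i) a (c i)) :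
    IsPullback (Sigma.desc t) (Limits.Sigma.map s) a (Sigma.desc c) := by
  refine (Groth.Agent.CalgA.TwoGlue.isPullback_of_cover (fst := Limits.Sigma.map s) (snd := Sigma.desc t)
    (f := Sigma.desc c) (g := a) ?_ (sigmaOpenCover Y) P (fun i => Sigma.ι P i) s
    (fun i => isPullback_sigma Y P s i) (fun i => ?_)).flip
  · refine Sigma.hom_ext _ _ fun i => ?_
    simp only [Limits.Sigma.ι_map_assoc, Sigma.ι_desc_assoc, Sigma.ι_desc]
    exact (h i).w.symm
  · change I at i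
    change IsPullback (s i) (Sigma.ι P i ≫ Sigma.desc t) (Sigma.ι Y i ≫ Sigma.desc c) a
    rw [Sigma.ι_desc, Sigma.ι_desc]
    exact (h i).flip

theorem extU_sigma {I : Type u} (B N : I → Scheme.{u}) (f : ∀ i, N i ⟶ B i) (V : (∐ B).Opens)
    (h : ∀ i, ∀ {T : Scheme.{u}} (q : T ⟶ B i), Smooth q → ExtU ((Sigma.ι B i) ⁻¹ᵁ V) q (f i))
    {T : Scheme.{u}} (q : T ⟶ ∐ B) (hq : Smooth q) : ExtU V q (Limits.Sigma.map f) := by
  refine extU_of_cover V _ _ ((sigmaOpenCover B).pullback₁ q) ?_ ?_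
  · intro i
    change I at i
    change ExtU V (pullback.fst q (Sigma.ι B i) ≫ q) (Limits.Sigma.map f)
    rw [pullback.condition, ← extU_iff_of_isPullback V (isPullback_sigma B N f i)]
    exact h i _ inferInstance
  · intro i k
    change I at i k
    change UniqU V (pullback.fst (pullback.fst q (Sigma.ι B i))
      (pullback.fst q (Sigma.ι B k)) ≫ pullback.fst q (Sigma.ι B i) ≫ q) _
    rw [pullback.condition, ← Category.assoc]
    have := isOpenImmersion_ι B k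
    have hsm2 : Smooth (pullback.fst (pullback.fst q (Sigma.ι B i))
      (pullback.fst q (Sigma.ι B k)) ≫ pullback.snd q (Sigma.ι B i)) := inferInstance
    exact ((extU_iff _ _ _).1 ((extU_iff_of_isPullback V (isPullback_sigma B N f i)).1 (h i _ hsm2))).1

/-- The disjoint union of local models. -/
noncomputable def Piece.sigma {I : Type u} (Q : I → Piece U 𝒜) : Piece U 𝒜 where
  B := ∐ fun i => (Q i).B
  b := Sigma.desc fun i => (Q i).b
  et := sigma_of_source @Etale _ _ fun i => (Q i).et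
  N := ∐ fun i => (Q i).N
  n := Limits.Sigma.map fun i => (Q i).n
  sm := sigma_of_target @Smooth _ _ _ fun i => (Q i).sm
  sep := sigma_of_target @IsSeparated _ _ _ fun i => (Q i).sep
  Y := ∐ fun i => (Q i).Y
  v := Limits.Sigma.map fun i => (Q i).v
  ov := sigma_of_target @IsOpenImmersion _ _ _ fun i => (Q i).ov
  rv := range_sigma _ _ _ _ fun i => (Q i).rv
  P := ∐ fun i => (Q i).P
  p := Limits.Sigma.map fun i => (Q i).p
  s := Limits.Sigma.map fun i => (Q i).s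
  t := Sigma.desc fun i => (Q i).t
  pb1 := isPullback_sigma_map _ _ _ _ _ _ _ _ fun i => (Q i).pb1
  pb2 := by
    have h := isPullback_sigma_desc (fun i => (Q i).P) (fun i => (Q i).Y) 𝒜.hom (fun i => (Q i).t)
      (fun i => (Q i).s) (fun i => (Q i).v ≫ (Q i).b) fun i => (Q i).pb2
    have h1 : (Limits.Sigma.map fun i => (Q i).v) ≫ (Sigma.desc fun i => (Q i).b) =
        Sigma.desc fun i => (Q i).v ≫ (Q i).b := by
      refine Sigma.hom_ext _ _ fun i => ?_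
      simp
    rw [h1]
    exact h
  ext q hq := by
    refine extU_sigma _ _ _ _ (fun i T q hq => ?_) q hq
    have h1 : (Sigma.ι (fun i => (Q i).B) i) ⁻¹ᵁ ((Sigma.desc fun i => (Q i).b) ⁻¹ᵁ U) = (Q i).b ⁻¹ᵁ U := by
      rw [← Scheme.Hom.comp_preimage, Sigma.ι_desc]
    rw [h1]
    exact (Q i).ext q hq

/-- The trivial model over `U`. -/
noncomputable def Piece.triv (U : S.Opens) (𝒜 : Over S) [Smooth 𝒜.hom] [IsSeparated 𝒜.hom] : Piece U 𝒜 where
  B := U.toScheme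
  b := U.ι
  et := inferInstance
  N := pullback 𝒜.hom U.ι
  n := pullback.snd 𝒜.hom U.ι
  sm := inferInstance
  sep := inferInstance
  Y := U.toScheme
  v := 𝟙 _
  ov := inferInstance
  rv := by
    ext z
    simp only [Scheme.Hom.id_base, TopCat.hom_id, ContinuousMap.id_apply, Set.mem_range, exists_eq, Set.mem_preimage,
      true_iff]
    exact z.2
  P := pullback 𝒜.hom U.ι
  p := 𝟙 _
  s := pullback.snd 𝒜.hom U.ι
  t := pullback.fst 𝒜.hom U.ι
  pb1 := IsPullback.of_horiz_isIso ⟨by simp⟩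
  pb2 := by
    rw [Category.id_comp]
    exact IsPullback.of_hasPullback _ _
  ext {T} q hq := by
    have h1 : IsIso (q ⁻¹ᵁ (U.ι ⁻¹ᵁ U)).ι := by
      have h2 : q ⁻¹ᵁ (U.ι ⁻¹ᵁ U) = ⊤ := by
        ext z
        simp only [TopologicalSpace.Opens.coe_top, Set.mem_univ, iff_true]
        exact (q z).2
      rw [h2]
      exact inferInstanceAs (IsIso (Scheme.topIso T).hom)
    intro h hh
    refine ⟨inv (q ⁻¹ᵁ (U.ι ⁻¹ᵁ U)).ι ≫ h, ⟨?_, ?_⟩, ?_⟩
    · rw [Category.assoc, hh, IsIso.inv_hom_id_assoc]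
    · rw [IsIso.hom_inv_id_assoc]
    · rintro g ⟨-, hg⟩
      rw [← hg, IsIso.inv_hom_id_assoc]

/-- Algebraic spaces from a surjective local model. -/
theorem exists_algSpace [IsLocallyNoetherian S] (hUd : CInt.IsSchematicallyDense U) [GrpObj 𝒜] [Smooth 𝒜.hom]
    [IsSeparated 𝒜.hom] (Q : Piece U 𝒜) (hQ : Surjective Q.b) :
    ∃ (N : AlgSp.Sp S) (_ : AlgSp.IsAlgSpace N) (π : N ⟶ (AlgSp.yon S).obj (Over.mk (𝟙 S)))
      (e : N ⨯ (AlgSp.yon S).obj (Over.mk U.ι : Over S) ≅ (AlgSp.yon S).obj (Over.mk (Limits.pullback.snd 𝒜.hom U.ι ≫ U.ι) : Over S)),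
      AlgSp.LocP @Smooth π ∧ AlgSp.IsSeparatedMor π ∧
      e.hom ≫ (AlgSp.yon S).map (Over.homMk (U := (Over.mk (Limits.pullback.snd 𝒜.hom U.ι ≫ U.ι) : Over S)) (V := (Over.mk U.ι : Over S)) (Limits.pullback.snd 𝒜.hom U.ι) rfl) = Limits.prod.snd ∧
      ∀ (T : Over S), Smooth T.hom →
        (∀ φ₁ φ₂ : (AlgSp.yon S).obj T ⟶ N,
          Limits.prod.map φ₁ (𝟙 ((AlgSp.yon S).obj (Over.mk U.ι : Over S))) ≫ e.hom = Limits.prod.map φ₂ (𝟙 ((AlgSp.yon S).obj (Over.mk U.ι : Over S))) ≫ e.hom → φ₁ = φ₂) ∧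
        (∀ g : (AlgSp.yon S).obj T ⨯ (AlgSp.yon S).obj (Over.mk U.ι : Over S) ⟶ (AlgSp.yon S).obj (Over.mk (Limits.pullback.snd 𝒜.hom U.ι ≫ U.ι) : Over S),
          g ≫ (AlgSp.yon S).map (Over.homMk (U := (Over.mk (Limits.pullback.snd 𝒜.hom U.ι ≫ U.ι) : Over S)) (V := (Over.mk U.ι : Over S)) (Limits.pullback.snd 𝒜.hom U.ι) rfl) = Limits.prod.snd →
          ∃ φ : (AlgSp.yon S).obj T ⟶ N, Limits.prod.map φ (𝟙 ((AlgSp.yon S).obj (Over.mk U.ι : Over S))) ≫ e.hom = g) := by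
  have het := Q.et
  have hsm := Q.sm
  have hsep := Q.sep
  have hov := Q.ov
  let g : Q.B ⟶ S := Q.b
  let a : pullback 𝒜.hom U.ι ⟶ U.toScheme := pullback.snd 𝒜.hom U.ι
  let N' : Over Q.B := Over.mk Q.n
  have hr : Set.range Q.v = Set.range (g ⁻¹ᵁ U).ι := by
    rw [Q.rv, Scheme.Opens.range_ι]
    rfl
  let θ : Q.Y ≅ (g ⁻¹ᵁ U).toScheme := IsOpenImmersion.isoOfRangeEq Q.v (g ⁻¹ᵁ U).ι hr
  have hθ : θ.hom ≫ (g ⁻¹ᵁ U).ι = Q.v := IsOpenImmersion.isoOfRangeEq_hom_fac _ _ _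
  -- first square
  have sq1 : IsPullback Q.p (Q.s ≫ θ.hom) N'.hom (g ⁻¹ᵁ U).ι := by
    have h1 := Q.pb1
    rw [← hθ] at h1
    exact h1.of_iso (Iso.refl _) (Iso.refl _) θ (Iso.refl _) (by simp) (by simp) (by simp [N']) (by simp)
  have sq2 : IsPullback Q.t (Q.s ≫ θ.hom) 𝒜.hom ((g ∣_ U) ≫ U.ι) := by
    have h1 := Q.pb2
    rw [← hθ] at h1
    refine h1.of_iso (Iso.refl _) (Iso.refl _) θ (Iso.refl _) (by simp) (by simp) (by simp) ?_
    rw [Iso.refl_hom, Category.comp_id, Category.assoc, morphismRestrict_ι]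
  have sq3 : IsPullback (pullback.lift Q.t ((Q.s ≫ θ.hom) ≫ (g ∣_ U)) (by rw [Category.assoc, sq2.w]))
      (Q.s ≫ θ.hom) a (g ∣_ U) :=
    IsPullback.of_right (by rw [pullback.lift_fst]; exact sq2) (pullback.lift_snd _ _ _)
      (IsPullback.of_hasPullback 𝒜.hom U.ι)
  let e' : pullback N'.hom (g ⁻¹ᵁ U).ι ≅ pullback a (g ∣_ U) := sq1.isoPullback.symm ≪≫ sq3.isoPullback
  have he' : e'.hom ≫ pullback.snd a (g ∣_ U) = pullback.snd N'.hom (g ⁻¹ᵁ U).ι := by
    rw [Iso.trans_hom, Category.assoc, sq3.isoPullback_hom_snd, Iso.symm_hom, sq1.isoPullback_inv_snd]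
  have hN' : ∀ Y' : Over Q.B, Smooth Y'.hom →
      Function.Bijective (fun f : Y' ⟶ N' => (Over.pullback (g ⁻¹ᵁ U).ι).map f) := by
    intro Y' hY'
    rw [bijective_iff_extU]
    exact Q.ext Y'.hom hY'
  have hsm' : Smooth N'.hom := hsm
  have hsep' : IsSeparated N'.hom := hsep
  have hg : Smooth g := inferInstance
  have hgs : Surjective g := hQ
  let D := K491.AsBuild.data g U a N' e' he' hUd hN'
  refine ⟨D.N, D.isAlgSpace, D.π, D.e, D.locP_smooth_π, D.isSeparatedMor_π, ?_, fun T hT => ⟨?_, ?_⟩⟩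
  · exact D.yon_sub _ _
  · intro φ₁ φ₂ h
    exact D.uniq_of_smooth hT φ₁ φ₂ h
  · intro γ _
    exact D.exists_of_smooth hT γ

end K490.AsGlue
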