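import Groth.Agent.Neron.K490.AsChart
import Groth.Agent.Sga67.BlowReg
import Groth.Agent.AlgSp.K647.Compl

/-!
# The local Néron models at points of a regular divisor
-/

set_option autoImplicit false
universe u

open IsLocalRing CategoryTheory CategoryTheory.Limits AlgebraicGeometry MonObj

namespace K490.AsPoint

open Groth.Agent.Neron.K446.Local K490.AsChart

variable {S : Scheme.{u}}

/-- Schematic density of the complement of an effective Cartier divisor. -/
theorem dense (D : S.IdealSheafData) (hD : BlowUp.IsEffCartierIdeal D) (U : S.Opens)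
    (hU : (U : Set ↥S) = (D.support : Set ↥S)ᶜ) : CInt.IsSchematicallyDense U := by
  have h : U = D.support.compl := TopologicalSpace.Opens.ext hU
  rw [h]
  exact K647.Compl.isSchematicallyDense_compl hD

/-- If all residue fields of `S` have characteristic zero the positive integers are units on affine opens. -/
theorem isUnit_natCast (hchar : ∀ s : S, CharZero (S.residueField s)) {V : S.Opens} (hV : IsAffineOpen V) (n : ℕ)
    (hn : 0 < n) : IsUnit (n : Γ(S, V)) := by
  by_contra h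
  obtain ⟨m, hm, hnm⟩ := exists_max_ideal_of_mem_nonunits h
  obtain ⟨z, hz⟩ := Groth.Agent.Sga67.BlowReg.exists_primeIdealOf_eq hV ⟨m, hm.isPrime⟩
  have h1 : (n : Γ(S, V)) ∈ (hV.primeIdealOf z).asIdeal := by
    rw [hz]
    exact hnm
  have h2 : (z : S) ∉ S.basicOpen (n : Γ(S, V)) := fun h3 =>
    (Groth.Agent.Ega1.LocNoethNhd.mem_basicOpen_iff_notMem_primeIdealOf hV z _).1 h3 h1
  rw [← Scheme.evaluation_eq_zero_iff_notMem_basicOpen (hx := z.2), map_natCast] at h2
  have := hchar z.1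
  exact (Nat.cast_ne_zero.2 hn.ne') h2

theorem locEx [IsLocallyNoetherian S]
    (hreg : ∀ s : S, IsRegularLocalRing (S.presheaf.stalk s))
    (hchar : ∀ s : S, CharZero (S.residueField s))
    (D : S.IdealSheafData) (hD : BlowUp.IsEffCartierIdeal D)
    (hDreg : ∀ y : ↥D.subscheme, IsRegularLocalRing (D.subscheme.presheaf.stalk y))
    (U : S.Opens) (hU : (U : Set ↥S) = (D.support : Set ↥S)ᶜ)
    (𝒜 : Over S) [GrpObj 𝒜] [IsCommMonObj 𝒜] [Smooth 𝒜.hom] [IsSeparated 𝒜.hom] [QuasiCompact 𝒜.hom]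
    (hsab : SGA7.FibresUnipotentRankZero 𝒜)
    (hconn : ∀ (L : Type u) [Field L] (t : Spec (CommRingCat.of L) ⟶ S), ConnectedSpace ↑(pullback 𝒜.hom t))
    (hprop : IsProper (Limits.pullback.snd 𝒜.hom U.ι)) (s : S) (hs : s ∉ U) : LocEx U 𝒜 s := by
  obtain ⟨V, hsV, x, hx, hVx⟩ := hD s
  have hN : IsNoetherianRing Γ(S, V.1) := IsLocallyNoetherian.component_noetherian V
  have h1 : IsRegularRing Γ(S, V.1) := Groth.Agent.Sga67.BlowReg.isRegularRing_of_stalks V.2 fun y _ => hreg y
  have h2 := Groth.Agent.Sga67.BlowReg.isRegularRing_quotient_ker D.subschemeι V fun y _ => hDreg y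
  rw [Scheme.IdealSheafData.ker_subschemeι, hVx] at h2
  have hA : RegPair Γ(S, V.1) x := ⟨h1, h2, hx⟩
  let i : Spec (CommRingCat.of Γ(S, V.1)) ⟶ S := V.2.fromSpec
  have hio : IsOpenImmersion i := inferInstanceAs (IsOpenImmersion V.2.fromSpec)
  have hUz : ∀ z : Spec (CommRingCat.of Γ(S, V.1)), i z ∈ U ↔
      x ∉ (show PrimeSpectrum Γ(S, V.1) from z).asIdeal := by
    intro z
    have hz : V.2.fromSpec z ∈ V.1 := by
      have : V.2.fromSpec z ∈ Set.range V.2.fromSpec := ⟨z, rfl⟩
      rwa [V.2.range_fromSpec] at this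
    change V.2.fromSpec z ∈ (U : Set S) ↔ _
    rw [hU, Set.mem_compl_iff, not_iff_not]
    rw [SetLike.mem_coe, Scheme.IdealSheafData.mem_support_iff_of_mem hz, hVx, Scheme.zeroLocus_span,
      Scheme.mem_zeroLocus_iff]
    have h3 : V.2.primeIdealOf ⟨V.2.fromSpec z, hz⟩ = z := by
      apply V.2.fromSpec.isOpenEmbedding.injective
      exact V.2.fromSpec_primeIdealOf ⟨V.2.fromSpec z, hz⟩
    have h4 := Groth.Agent.Ega1.LocNoethNhd.mem_basicOpen_iff_notMem_primeIdealOf V.2 ⟨V.2.fromSpec z, hz⟩ x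
    rw [h3] at h4
    constructor
    · intro h5
      by_contra h6
      exact h5 x rfl (h4.2 h6)
    · rintro h5 f hf
      rw [Set.mem_singleton_iff] at hf
      subst hf
      exact fun h6 => h4.1 h6 h5
  have hG : SA x (Red.bc i 𝒜) := sa_chart U 𝒜 i x hsab hconn hprop (isUnit_natCast hchar V.2) hUz
  let z : Spec (CommRingCat.of Γ(S, V.1)) := V.2.primeIdealOf ⟨s, hsV⟩
  have hz : i z = s := V.2.fromSpec_primeIdealOf ⟨s, hsV⟩
  rw [← hz]
  refine locEx_of_chart U 𝒜 i x (dense D hD U hU) hG hA hUz z ?_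
  by_contra h
  apply hs
  rw [← hz]
  exact (hUz z).2 h

end K490.AsPoint
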