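import Groth.Agent.Neron.K490.BGTors
import Groth.Agent.AlgSt.K745.ClassSm
import Groth.Agent.AlgSt.K742.Nice
import Groth.Agent.ResProp.K863.QuotDiag
import Groth.Agent.AlgSp.K597.Affine
import Groth.Agent.AlgSp.K597.Proper
import Groth.Agent.S18310
import Groth.Agent.S13571
import Groth.Agent.S0528
import Groth.Agent.S5038
import Groth.Agent.AlgSp.K651.Hens2

/-!
# Lifting torsors along `R → R/a` for `R` henselian local and `G` affine, flat and of finite presentation
-/

set_option autoImplicit false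
set_option backward.isDefEq.respectTransparency false
set_option backward.isDefEq.respectTransparency.types false
universe u

open CategoryTheory CategoryTheory.Limits MonoidalCategory CartesianMonoidalCategory MonObj GrpObj AlgebraicGeometry
open NonAbH1 AlgSt

namespace K490.BGLift

section

variable {S : Scheme.{u}} {Z : Over S} [GrpObj Z] {Q : Over S}

/-- the total space of the torsor of a smooth chart of `BZ` is smooth -/
theorem smooth_total (x : FibCat.overCat Q ⥤ᵇ BG Scheme.fppfPrecoverage Z)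
    (hx : RepByAlgSpWith (AlgSp.LocP @Smooth) x) : Smooth (K744.QuotFp.tors x).P.hom := by
  have h1 := K734.Rep.repByAlgSpWith_fpFst _ x (K745.ClassSm.pt0 Z) hx
  obtain ⟨e, he, -, h2⟩ := K744.QuotFp.exists_isEquivOver_overCat x
  have h3 : RepByAlgSpWith (AlgSp.LocP @Smooth) (K744.IsomFp.ovMap (K744.QuotFp.tors x).φ) :=
    (K735.Rep.repByAlgSpWith_iff_of_sq _ (FibCat.fpFst (K745.ClassSm.pt0 Z) x)
      (K744.IsomFp.ovMap (K744.QuotFp.tors x).φ)
      (BasedFunctor.comp e (K734.Fib.fpSwap x (K745.ClassSm.pt0 Z))) (BasedFunctor.id _)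
      (K734.Fib.isEquivOver_comp he (K734.Fib.isEquivOver_fpSwap x (K745.ClassSm.pt0 Z)))
      (K734.Fib.isEquivOver_refl _) (eqToIso h2.symm)).1 h1
  have h4 : Smooth (K744.QuotFp.tors x).φ.left := (K742.nice_smooth.overMap_iff (K744.QuotFp.tors x).φ).1 h3
  have hφ : (K744.QuotFp.tors x).φ = toUnit _ := toUnit_unique _ _
  rw [hφ, K745.ClassSm.left_toUnit] at h4
  exact h4

/-- the source of a smooth chart of `BZ` is smooth -/
theorem smooth_base [Flat Z.hom] [LocallyOfFinitePresentation Z.hom]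
    (x : FibCat.overCat Q ⥤ᵇ BG Scheme.fppfPrecoverage Z)
    (hx : RepByAlgSpWith (AlgSp.LocP @Smooth) x) : Smooth Q.hom := by
  have h1 := smooth_total x hx
  have hw : (K744.QuotFp.strU x).left ≫ Q.hom = (K744.QuotFp.tors x).P.hom := Over.w (K744.QuotFp.strU x)
  exact K629.SchDesc.smooth (K744.QuotFp.strU x).left Q.hom
    (K863.QuotDiag.prop_strU @Flat (fun A => K744.TorsProp.flat_of_torsor A) x)
    (K863.QuotDiag.prop_strU @LocallyOfFinitePresentation (fun A => K744.TorsProp.lfp_of_torsor A) x)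
    (K863.QuotDiag.prop_strU @Surjective (fun A => K744.TorsProp.surjective_of_torsor A) x) (by rw [hw]; exact h1)

theorem sep_diag (G : Over S) [GrpObj G] [IsAffineHom G.hom] [Flat G.hom] [LocallyOfFinitePresentation G.hom] :
    RepByAlgSpWith AlgSp.IsSeparatedMor (FibCat.diag (FibCat.toSelf (BG Scheme.fppfPrecoverage G))) := by
  have := Groth.Agent.Desc.MorDescent.descendsAlong_isAffineHom.{u}
  have h0 : IsAffineHom (pullback.diagonal (𝟙_ (Over S)).hom) :=
    inferInstanceAs (IsAffineHom (pullback.diagonal (𝟙 S)))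
  have h := K863.QuotDiag.repByAlgSpWith_diag_quotSt G (𝟙_ (Over S)) (trivAction G) @IsAffineHom
      K628.Props.isAffineHom_le (fun f hf => hf) h0
  exact K735.Rep.AlgSt_RepByAlgSpWith_mono (fun _ _ f hf =>
    K597.Proper.isSeparatedMor_of_isAffineMor (K597.Affine.isAffineMor_iff.2 hf)) h

end

/-- sections of smooth affine schemes lift -/
theorem exists_section (R : Type u) [CommRing R] [HenselianLocalRing R] (a : Ideal R) (ha : a ≠ ⊤)
    {Z : Scheme.{u}} [IsAffine Z] (q : Z ⟶ Spec (CommRingCat.of R)) [Smooth q]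
    (g : Spec (CommRingCat.of (R ⧸ a)) ⟶ Z)
    (hg : g ≫ q = Spec.map (CommRingCat.ofHom (Ideal.Quotient.mk a))) :
    ∃ w : Spec (CommRingCat.of R) ⟶ Z, w ≫ q = 𝟙 _ ∧
      Spec.map (CommRingCat.ofHom (Ideal.Quotient.mk a)) ≫ w = g := by
  have h0 : HenselianRing R (IsLocalRing.maximalIdeal R) := inferInstance
  have hH : HenselianRing R a := ((Groth.Agent.S0528.result R a (IsLocalRing.maximalIdeal R)
    (IsLocalRing.le_maximalIdeal ha)).1 h0).1
  have : Smooth (Z.isoSpec.inv ≫ q) := inferInstance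
  obtain ⟨w, hw1, hw2⟩ := Groth.Agent.S5038.lift_affine R a _ (Z.isoSpec.inv ≫ q) (g ≫ Z.isoSpec.hom)
    (by rw [Category.assoc, Iso.hom_inv_id_assoc]; exact hg)
  refine ⟨w ≫ Z.isoSpec.inv, by rw [Category.assoc]; exact hw1, ?_⟩
  rw [← Category.assoc, hw2, Category.assoc, Iso.hom_inv_id, Category.comp_id]

theorem exists_lift (R : Type u) [CommRing R] [HenselianLocalRing R] (a : Ideal R) (ha : a ≠ ⊤)
    (G : Over (Spec (CommRingCat.of R))) [GrpObj G]
    [IsAffineHom G.hom] [Flat G.hom] [LocallyOfFinitePresentation G.hom]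
    (P : TorsorSch (Red.bc (Spec.map (CommRingCat.ofHom (Ideal.Quotient.mk a))) G) Scheme.fppfPrecoverage) :
    ∃ Y : TorsorSch G Scheme.fppfPrecoverage,
      H1Sch.bcMap (Spec.map (CommRingCat.ofHom (Ideal.Quotient.mk a))) G Scheme.fppfPrecoverage Y.cl = P.cl := by
  have hq : HenselianLocalRing (R ⧸ a) := K651.Hens.henselianLocalRing_quotient R a ha
  let i : Spec (CommRingCat.of (R ⧸ a)) ⟶ Spec (CommRingCat.of R) :=
    Spec.map (CommRingCat.ofHom (Ideal.Quotient.mk a))
  let A := BGTors.obj i P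
  have hF : FibCat.IsFibGrpd (BG Scheme.fppfPrecoverage G).p := K744.QuotFib.isFibGrpd
  obtain ⟨z, e, he⟩ := K734.Fib.exists_yo hF A (rfl : (BG Scheme.fppfPrecoverage G).p.obj A = Over.mk i)
  obtain ⟨Z, hZ, p, g, hp, ⟨φ⟩⟩ := Groth.Agent.S18310.result (BG Scheme.fppfPrecoverage G)
    (Groth.Agent.S13571.result G _ _) (sep_diag G) (R ⧸ a) i z
  have hsm : Smooth Z.hom := smooth_base p hp
  obtain ⟨w, hw1, hw2⟩ := exists_section R a ha Z.hom g.left (Over.w g)
  let s : Over.mk (𝟙 (Spec (CommRingCat.of R))) ⟶ Z := Over.homMk w hw1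
  let ii : Over.mk i ⟶ Over.mk (𝟙 (Spec (CommRingCat.of R))) := Over.homMk i (Category.comp_id _)
  have hg : ii ≫ s = g := by ext; exact hw2
  have hB : (p.obj (Over.mk s)).base = Over.mk (𝟙 _) := p.w_obj (Over.mk s)
  let f3 : (overMap g).obj (Over.mk (𝟙 (Over.mk i))) ⟶ Over.mk s :=
    Over.homMk ii (by
      change ii ≫ s = 𝟙 _ ≫ g
      rw [hg, Category.id_comp])
  exact ⟨BGTors.tors _ hB, BGTors.cl_bc_eq hB (e.inv ≫ φ.inv.toNatTrans.app (Over.mk (𝟙 (Over.mk i))) ≫ p.map f3)⟩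

/-- over the empty scheme all torsors are isomorphic -/
theorem one_eq_cl {D : Scheme.{u}} [IsEmpty D] {G : Over D} [GrpObj G] {K : Precoverage Scheme.{u}} [K.HasIsos]
    (P : TorsorSch G K) : (1 : H1Sch G K) = P.cl := by
  have h1 : ∀ X : Over D, IsEmpty X.left := fun X => ⟨fun x => IsEmpty.false (X.hom x)⟩
  have h2 : ∀ (X Y : Over D) (f g : X ⟶ Y), f = g := fun X Y f g => by
    have := h1 X
    ext
    exact (isInitialOfIsEmpty (X := X.left)).hom_ext _ _
  have h3 : ∀ (X Y : Over D), Nonempty (X ⟶ Y) := fun X Y => by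
    have := h1 X
    exact ⟨Over.homMk ((isInitialOfIsEmpty (X := X.left)).to _) ((isInitialOfIsEmpty (X := X.left)).hom_ext _ _)⟩
  obtain ⟨f⟩ := h3 G P.X
  obtain ⟨g⟩ := h3 P.X G
  exact Quot.sound ⟨⟨⟨f, g, h2 _ _ _ _, h2 _ _ _ _⟩, h2 _ _ _ _⟩⟩

end K490.BGLift
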