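import Groth.Agent.NonAbH1.K552.Push
import Groth.Prelude.Def_AlgSt5

/-!
# Torsors over `D ⟶ S` under the base change of an `S`-group as objects of the classifying stack `BG`

* `K490.BGTors.obj d P`: the object over `D ⟶ S` of `AlgSt.BG K G` attached to a torsor `P` under `G ×_S D`.
* `K490.BGTors.tors B h`: the `G`-torsor over `S` attached to an object `B` of `BG` over `S` itself.
* `K490.BGTors.cl_bc_eq`: a morphism `obj d P ⟶ B` shows that `P` is the base change of `tors B`.
-/

set_option autoImplicit false
set_option backward.isDefEq.respectTransparency false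
set_option backward.isDefEq.respectTransparency.types false
universe v u

open CategoryTheory CategoryTheory.Limits MonoidalCategory CartesianMonoidalCategory MonObj GrpObj AlgebraicGeometry
open Groth.Agent.Books.BorelOrb K552.Push NonAbH1 AlgSt

namespace K490.BGTors

theorem isPullback_of {C : Type*} [Category C] {P X Y Z : C} {a : P ⟶ X} {b : P ⟶ Y} {f : X ⟶ Z} {g : Y ⟶ Z}
    (w : a ≫ f = b ≫ g)
    (h : ∀ (T : C) (x : T ⟶ X) (y : T ⟶ Y), x ≫ f = y ≫ g → ∃! p : T ⟶ P, p ≫ a = x ∧ p ≫ b = y) :
    IsPullback a b f g :=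
  ⟨⟨w⟩, ⟨PullbackCone.IsLimit.mk w (fun s => (h s.pt s.fst s.snd s.condition).choose)
    (fun s => (h s.pt s.fst s.snd s.condition).choose_spec.1.1)
    (fun s => (h s.pt s.fst s.snd s.condition).choose_spec.1.2)
    (fun s m h1 h2 => (h s.pt s.fst s.snd s.condition).choose_spec.2 m ⟨h1, h2⟩)⟩⟩

variable {S D : Scheme.{u}} {G : Over S} [GrpObj G] {K : Precoverage Scheme.{u}}

/-- the object of `BG` over `D ⟶ S` attached to a torsor under `G ×_S D` -/
noncomputable def obj (d : D ⟶ S) (P : TorsorSch (Red.bc d G) K) : QuotObj K G (trivAction G) where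
  base := Over.mk d
  P := (Over.map d).obj P.X
  act := push P.act
  π := proj d P.X
  cart := by
    refine isPullback_of ?_ (fun T x y hxy => ?_)
    · have := sm_push_proj P.act (fst G ((Over.map d).obj P.X)) (snd G ((Over.map d).obj P.X))
      rw [sm, lift_fst_snd, Category.id_comp] at this
      exact this
    · obtain ⟨g, hg, hu⟩ := existsUnique_push P.isTorsor.1 x y hxy
      refine ⟨lift g y, ⟨hg, lift_snd _ _⟩, fun p hp => ?_⟩
      apply CartesianMonoidalCategory.hom_ext
      · rw [lift_fst]
        apply hu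
        change lift (p ≫ fst G _) y ≫ (push P.act).act = x
        rw [← hp.2, ← comp_lift, lift_fst_snd, Category.comp_id]
        exact hp.1
      · rw [lift_snd]; exact hp.2
  loc := P.isTorsor.2
  φ := toUnit _
  eqv := toUnit_unique _ _

theorem isTorsorFor_of {P : Over S} (act : AlgGrp.Action G P) (π : P ⟶ Over.mk (𝟙 S))
    (cart : IsPullback act.act (snd G P) π π) (loc : IsLocallyTrivialFor K (Over.mk π.left : Over S)) :
    IsTorsorFor K act := by
  refine ⟨?_, ?_⟩
  · rw [K554.Fpqc.isPseudoTorsorSch_iff]
    intro Y x x'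
    have hw : x ≫ π = x' ≫ π := Over.mkIdTerminal.hom_ext _ _
    refine ⟨cart.lift x x' hw ≫ fst G P, ?_, fun g hg => ?_⟩
    · change lift _ x' ≫ act.act = x
      have : lift (cart.lift x x' hw ≫ fst G P) x' = cart.lift x x' hw := by
        apply CartesianMonoidalCategory.hom_ext
        · rw [lift_fst]
        · rw [lift_snd]; exact (cart.lift_snd x x' hw).symm
      rw [this]
      exact cart.lift_fst x x' hw
    · have : lift g x' = cart.lift x x' hw := by
        apply cart.hom_ext
        · rw [cart.lift_fst]; exact hg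
        · rw [cart.lift_snd, lift_snd]
      rw [← this, lift_fst]
  · obtain ⟨R, hR, h⟩ := loc
    refine ⟨R, hR, fun S' f hf => ?_⟩
    obtain ⟨s, hs⟩ := h f hf
    refine ⟨s, ?_⟩
    have h1 : π.left ≫ 𝟙 S = P.hom := Over.w π
    have h2 : π.left = P.hom := (Category.comp_id _).symm.trans h1
    exact (congrArg (s ≫ ·) h2.symm).trans hs

/-- the torsor over `S` attached to an object of `BG` over `S` -/
noncomputable def tors (B : QuotObj K G (trivAction G)) (h : B.base = Over.mk (𝟙 S)) : TorsorSch G K :=
  ⟨B.P, B.act, by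
    obtain ⟨base, P, act, π, cart, loc, φ, eqv⟩ := B
    obtain rfl : base = Over.mk (𝟙 S) := h
    exact isTorsorFor_of act π cart loc⟩

/-- A morphism in `BG` from the object of the torsor `P` over `D` to an object over `S` shows that `P` is a
base change. -/
theorem cl_bc_eq [K.IsStableUnderBaseChange] [K.toGrothendieck.Subcanonical] {d : D ⟶ S} {P : TorsorSch (Red.bc d G) K}
    {B : QuotObj K G (trivAction G)} (h : B.base = Over.mk (𝟙 S)) (f : obj d P ⟶ B) :
    H1Sch.bcMap d G K (tors B h).cl = P.cl := by
  let f' : (Over.map d).obj P.X ⟶ B.P := f.top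
  let θ : P.X ⟶ Red.bc d B.P := up f'
  have hθ : (Over.map d).map θ ≫ bcProj d B.P = f' := by
    rw [map_bcProj, dn_up]
  have heq : AlgGrp.Action.IsEquivariant P.act (B.act.bc d) θ := by
    rw [isEquivariant_push_iff]
    intro T g z
    apply hom_ext_bc
    · rw [Category.assoc, hθ, sm_push_bc, Category.assoc, hθ]
      have := f.eqv
      change (push P.act).act ≫ f' = (G ◁ f') ≫ B.act.act at this
      rw [sm, Category.assoc, this, lift_whiskerLeft_assoc, sm]
    · rw [Category.assoc, map_proj, sm_push_proj, sm_push_proj, Category.assoc, map_proj]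
  have hiso : IsIso θ := K554.Fpqc.isIso_of_isEquivariant K P.act (B.act.bc d) P.isTorsor
    (isPseudoTorsorSch_bc d (tors B h).isTorsor.1) θ heq
  exact (Quot.sound ⟨⟨asIso θ, heq⟩⟩).symm

end K490.BGTors
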