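import Mathlib.AlgebraicGeometry.Morphisms.ClosedImmersion
import Mathlib.AlgebraicGeometry.Morphisms.SchemeTheoreticallyDominant

/-!
# Factoring through a closed immersion over a scheme-theoretically dominant morphism
-/

set_option autoImplicit false
universe u
open CategoryTheory CategoryTheory.Limits AlgebraicGeometry

namespace K490.ClosedLift

/-- If `ι : W ⟶ Y` is scheme-theoretically dominant and `ι ≫ u` factors through the closed immersion `i`,
then so does `u`. -/
theorem exists_lift {W Y G X : Scheme.{u}} (ι : W ⟶ Y) [IsSchemeTheoreticallyDominant ι]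
    (i : G ⟶ X) [IsClosedImmersion i] (u : Y ⟶ X) (w : W ⟶ G) (h : ι ≫ u = w ≫ i) :
    ∃ v : Y ⟶ G, v ≫ i = u ∧ ι ≫ v = w := by
  let j := pullback.fst u i
  let t : W ⟶ pullback u i := pullback.lift ι w h
  have ht : t ≫ j = ι := pullback.lift_fst _ _ _
  have hker : j.ker = ⊥ := by
    have h1 := t.le_ker_comp j
    rw [ht, ι.ker_eq_bot] at h1
    exact le_bot_iff.mp h1
  have hiso : IsIso j := IsClosedImmersion.isIso_iff_ker_eq_bot.mpr hker
  have hv : (inv j ≫ pullback.snd u i) ≫ i = u := by
    rw [Category.assoc, ← pullback.condition, IsIso.inv_hom_id_assoc]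
  refine ⟨inv j ≫ pullback.snd u i, hv, ?_⟩
  rw [← cancel_mono i, Category.assoc, hv, h]

end K490.ClosedLift
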