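import Groth.Agent.Sga7.H740.Comm
import Groth.Prelude.Def_Red

/-!
# Commutativity of a Néron model from that of its generic fibre
-/

set_option autoImplicit false
universe v u
open CategoryTheory MonoidalCategory CartesianMonoidalCategory MonObj GrpObj AlgebraicGeometry Limits

namespace K490.CommGen

theorem isCommMonObj_of_mono {C : Type u} [Category.{v} C] [CartesianMonoidalCategory C]
    [BraidedCategory C] {G P : C} [GrpObj G] [GrpObj P] [IsCommMonObj P] (e : G ⟶ P) [IsMonHom e]
    [Mono e] : IsCommMonObj G := by
  apply Groth.Agent.Sga7.H740.Comm.isCommMonObj_of_fst_snd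
  rw [← cancel_mono e, MonObj.mul_comp, MonObj.mul_comp]
  exact Hom.commGroup.mul_comm _ _

/-- A flat separated group scheme whose generic fibre is isomorphic to a commutative group is commutative. -/
theorem isCommMonObj (R K : Type u) [CommRing R] [IsDomain R] [Field K] [Algebra R K] [IsFractionRing R K]
    {N : Over (Spec (CommRingCat.of R))} [GrpObj N] [Flat N.hom] [IsSeparated N.hom]
    {P : Over (Spec (CommRingCat.of K))} [GrpObj P] [IsCommMonObj P]
    (e : Red.bc (Spec.map (CommRingCat.ofHom (algebraMap R K))) N ≅ P) [IsMonHom e.hom] :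
    IsCommMonObj N := by
  apply Groth.Agent.Sga7.H740.Comm.isCommMonObj_of_generic R K N
  exact isCommMonObj_of_mono e.hom

end K490.CommGen
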