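import Groth.Prelude.Def_Neron
import Groth.Prelude.Def_SGA7IX
import Groth.Agent.Sga7.H760.FieldHom
import Groth.Agent.Sga7.H760.L2
import Groth.Agent.Sga3.H794.PowReduced
import Groth.Agent.Grpsch.KerMul
import Mathlib.AlgebraicGeometry.Sites.Fpqc

/-!
# The complementary isogeny and the degree

Over a field `K`: if `u : C ⟶ A` is a homomorphism of group schemes of finite type which is
surjective with finite kernel of rank `n`, `C` commutative, `A` reduced, then there is
`v : A ⟶ C` with `u ≫ v = n`.
-/

set_option autoImplicit false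
universe u
open CategoryTheory MonoidalCategory CartesianMonoidalCategory MonObj GrpObj AlgebraicGeometry Limits

namespace K490.Degree

open Groth.Agent.Sga7.H760

section

variable {K : Type u} [Field K] {C A : Over (Spec (CommRingCat.of K))} [GrpObj C] [GrpObj A]

theorem flat_of_surjective [LocallyOfFiniteType C.hom] [QuasiCompact C.hom]
    [LocallyOfFiniteType A.hom] [IsReduced A.left] (u : C ⟶ A) [IsMonHom u] [Surjective u.left] :
    Flat u.left := by
  have := FieldHom.quasiCompact_left u
  obtain ⟨D, _, p, i, h1, h2, h3, h4, h5, h6, h7, h8, h9⟩ := FieldHom.exists_fact u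
  have h10 : Surjective i.left := by
    have : Surjective (p.left ≫ i.left) := by rw [← Over.comp_left, h3]; infer_instance
    exact Surjective.of_comp p.left i.left
  have h11 : IsIso i.left := isIso_of_isClosedImmersion_of_surjective i.left
  rw [← h3, Over.comp_left]
  infer_instance

/-- A finite group scheme over a field is killed by its order. -/
theorem pow_finrank_eq_one (F : Over (Spec (CommRingCat.of K))) [GrpObj F] [IsFinite F.hom]
    (x : ↥(Spec (CommRingCat.of K))) : (𝟙 F : F ⟶ F) ^ (F.hom.finrank x) = 1 := by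
  have hsub : Subsingleton ↥(Spec (CommRingCat.of K)) :=
    inferInstanceAs (Subsingleton (PrimeSpectrum K))
  have hfl : Flat F.hom := inferInstance
  have hlfp : LocallyOfFinitePresentation F.hom := by
    have : IsNoetherianRing (CommRingCat.of K) := inferInstanceAs (IsNoetherianRing K)
    infer_instance
  refine Groth.Agent.Sga3.H794.PowReduced.pow_eq_one_affine K F _ ⟨⟨‹_›, hfl, hlfp⟩, ?_⟩
  intro z
  rw [Subsingleton.elim z x]

/-- Existence of the complementary isogeny. -/
theorem exists_rev [IsCommMonObj C] [LocallyOfFiniteType C.hom] [QuasiCompact C.hom]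
    [LocallyOfFiniteType A.hom] [IsReduced A.left] (u : C ⟶ A) [IsMonHom u]
    (hu : SGA7.IsIsogenyOver u) {F : Over (Spec (CommRingCat.of K))} {i : F ⟶ C}
    (hF : AlgGrp.IsKernel i u) (x : ↥(Spec (CommRingCat.of K))) :
    ∃ v : A ⟶ C, u ≫ v = (𝟙 C) ^ (F.hom.finrank x) := by
  obtain ⟨hsurj, hker⟩ := hu
  obtain ⟨F', _, i', hi, hF'⟩ := Groth.Agent.Grpsch.KerMul.exists_kernel u
  have hfin : IsFinite F'.hom := hker F' i' hF'
  let e : F ≅ F' := IsPullback.isoIsPullback _ _ hF hF'
  have hn : F'.hom.finrank x = F.hom.finrank x := by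
    have h1 : e.hom.left ≫ F'.hom = F.hom := Over.w e.hom
    rw [← h1]
    have h2 : IsIso e.hom.left := inferInstance
    rw [Scheme.Hom.finrank_comp_left_of_isIso]
  rw [← hn]
  set n := F'.hom.finrank x
  have hpow : (𝟙 F' : F' ⟶ F') ^ n = 1 := pow_finrank_eq_one F' x
  have hqc := FieldHom.quasiCompact_left u
  have hfl := flat_of_surjective u
  -- two points with the same image under `u` have the same `n`-th power
  have key : ∀ {Z : Over (Spec (CommRingCat.of K))} (a b : Z ⟶ C), a ≫ u = b ≫ u →
      a ≫ (𝟙 C) ^ n = b ≫ (𝟙 C) ^ n := by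
    intro Z a b hab
    have h1 : (a * b⁻¹) ≫ u = toUnit Z ≫ η[A] := by
      rw [MonObj.mul_comp, GrpObj.inv_comp, hab, mul_inv_cancel]
      rfl
    let k : Z ⟶ F' := hF'.lift (a * b⁻¹) (toUnit Z) h1
    have hk : k ≫ i' = a * b⁻¹ := hF'.lift_fst _ _ _
    have h2 : (a * b⁻¹) ^ n = 1 := by
      rw [← hk, ← MonObj.pow_comp]
      have h3 : k ^ n = 1 := by
        have h4 : k ≫ (𝟙 F') ^ n = k ^ n := by rw [MonObj.comp_pow, Category.comp_id]
        rw [← h4, hpow, MonObj.comp_one]
      rw [h3, MonObj.one_comp]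
    rw [MonObj.comp_pow, MonObj.comp_pow, Category.comp_id, Category.comp_id]
    have hc : Commute a b⁻¹ := by
      have : a * b⁻¹ = b⁻¹ * a := Hom.commGroup.mul_comm _ _
      exact this
    rw [hc.mul_pow, inv_pow] at h2
    exact mul_inv_eq_one.1 h2
  exact GaQuot.exists_desc u ((𝟙 C) ^ n) (fun T a b hab => key a b hab)

end

end K490.Degree
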