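import Groth.Agent.Neron.K490.Degree
import Groth.Agent.Neron.K490.IsogFlat
import Groth.Agent.Sga7.H751.PowEtale
import Groth.Agent.Sga7.H740.Comm
import Groth.Agent.Flat2E.Thick
import Mathlib.AlgebraicGeometry.Morphisms.Etale

/-!
# The complementary homomorphism on Néron models

`A`, `B` Néron models of abelian varieties over the fraction field of a Dedekind domain `R`,
`φ : A ⟶ B` with `φ_K` an isogeny of degree `n`: there is `ψ : B ⟶ A` with `φ ≫ ψ = n`.
If `n` is a unit in `R` then `φ` is étale.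
-/

set_option autoImplicit false
universe u
open CategoryTheory MonoidalCategory CartesianMonoidalCategory MonObj GrpObj AlgebraicGeometry Limits

namespace K490.DualIsog

open Groth.Agent.Dix.GenFibre Groth.Agent.Sga7.H760

attribute [local instance] Functor.grpObjObj

theorem map_pow_one {S S' : Scheme.{u}} (f : S' ⟶ S) (A : Over S) [GrpObj A] (n : ℕ) :
    (Over.pullback f).map ((𝟙 A : A ⟶ A) ^ n) =
      (𝟙 ((Over.pullback f).obj A) : (Over.pullback f).obj A ⟶ (Over.pullback f).obj A) ^ n := by
  rw [← CategoryTheory.Functor.map_id]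
  exact map_pow (Functor.homMonoidHom (Over.pullback f) (X := A) (M := A)) (𝟙 A) n

variable {R : Type u} [CommRing R]

section

variable [IsDomain R]

theorem exists_dual {A B : Over (Spec (CommRingCat.of R))} [GrpObj A] [GrpObj B]
    (hA : Neron.IsNeronModelOf R A ((Neron.genericFibre R).obj A) (Iso.refl _))
    (hB : Smooth B.hom)
    [IsProper ((Neron.genericFibre R).obj A).hom] [GeometricallyIntegral ((Neron.genericFibre R).obj A).hom]
    [LocallyOfFiniteType ((Neron.genericFibre R).obj B).hom]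
    [GeometricallyIntegral ((Neron.genericFibre R).obj B).hom]
    (φ : A ⟶ B) [IsMonHom φ] (hφ : SGA7.IsIsogenyOver ((Neron.genericFibre R).map φ))
    {N : Over (Spec (CommRingCat.of R))} {i : N ⟶ A} (hN : AlgGrp.IsKernel i φ)
    (x : ↥(Spec (CommRingCat.of (FractionRing R)))) :
    ∃ ψ : B ⟶ A, φ ≫ ψ = (𝟙 A) ^ (((Neron.genericFibre R).obj N).hom.finrank x) := by
  have hNK := KerBc.isKernel_bc (Neron.genPt R) hN
  have hI : IsIntegral ((Neron.genericFibre R).obj B).left :=
    GeometricallyIntegral.isIntegral_of_subsingleton ((Neron.genericFibre R).obj B).hom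
  have hC : IsCommMonObj ((Neron.genericFibre R).obj A) :=
    isCommMonObj_of_isProper_of_geometricallyIntegral _
  obtain ⟨ψK, hψK⟩ := K490.Degree.exists_rev ((Neron.genericFibre R).map φ) hφ hNK x
  obtain ⟨ψ, hψ⟩ := (hA.2.2.2.2 B hB).2 ψK
  have hψ' : (Neron.genericFibre R).map ψ = ψK := by simpa using hψ
  refine ⟨ψ, ?_⟩
  have h1 := (hA.2.2.2.2 A hA.1).1
  apply h1
  change (Neron.genericFibre R).map (φ ≫ ψ) ≫ 𝟙 _ = (Neron.genericFibre R).map (𝟙 A ^ _) ≫ 𝟙 _
  rw [Category.comp_id, Category.comp_id, Functor.map_comp, hψ', hψK, map_pow_one]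

theorem locallyQuasiFinite_of_etale {X Y : Scheme.{u}} (f : X ⟶ Y) [Etale f] :
    LocallyQuasiFinite f where
  quasiFinite_appLE {U} hU {V} hV e := by
    have h := HasRingHomProperty.appLE @Etale f ‹_› ⟨U, hU⟩ ⟨V, hV⟩ e
    algebraize [(f.appLE U V e).hom]
    change Algebra.QuasiFinite Γ(Y, U) Γ(X, V)
    infer_instance

omit [IsDomain R] in
/-- A natural number which is a unit in `R` is non-zero in the residue fields. -/
theorem natCast_residueField_ne_zero {n : ℕ} (hn : IsUnit (n : R)) (s : ↥(Spec (CommRingCat.of R))) :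
    (n : (Spec (CommRingCat.of R)).residueField s) ≠ 0 := by
  have hs : s ∈ (⊤ : (Spec (CommRingCat.of R)).Opens) := trivial
  let f : CommRingCat.of R ⟶ (Spec (CommRingCat.of R)).residueField s :=
    (Scheme.ΓSpecIso (CommRingCat.of R)).inv ≫ (Spec (CommRingCat.of R)).presheaf.germ ⊤ s hs ≫
      (Spec (CommRingCat.of R)).residue s
  have h1 : IsUnit (f.hom (n : R)) := hn.map f.hom
  rw [map_natCast] at h1
  exact h1.ne_zero

/-- If `φ ≫ ψ = n` with `n` a unit then `φ` is étale. -/
theorem etale_of_comp_eq_pow {A B : Over (Spec (CommRingCat.of R))} [GrpObj A] [GrpObj B]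
    [Smooth A.hom] [Smooth B.hom] [IsSeparated A.hom] [QuasiCompact A.hom]
    [IsProper ((Neron.genericFibre R).obj A).hom] [GeometricallyIntegral ((Neron.genericFibre R).obj A).hom]
    (φ : A ⟶ B) [IsMonHom φ] [Surjective ((Neron.genericFibre R).map φ).left]
    (ψ : B ⟶ A) (n : ℕ) (hn : IsUnit (n : R)) (h : φ ≫ ψ = (𝟙 A) ^ n) : Etale φ.left := by
  have hC : IsCommMonObj A :=
    Groth.Agent.Sga7.H740.Comm.isCommMonObj_of_abelian R (FractionRing R) A
  have h1 : Etale ((𝟙 A : A ⟶ A) ^ n).left :=
    Groth.Agent.Sga7.H751.PowEtale.etale_pow A n fun s => natCast_residueField_ne_zero hn s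
  rw [← h, Over.comp_left] at h1
  have h2 : FormallyUnramified φ.left := .of_comp φ.left ψ.left
  have h3' : LocallyQuasiFinite (φ.left ≫ ψ.left) := locallyQuasiFinite_of_etale _
  have h3 : LocallyQuasiFinite φ.left := .of_comp φ.left ψ.left
  have h4 : Flat φ.left := K490.IsogFlat.flat_of_lqf φ
  have h5 : LocallyOfFinitePresentation φ.left := by
    have h6 : LocallyOfFinitePresentation (φ.left ≫ B.hom) := by rw [Over.w]; infer_instance
    exact Groth.Agent.Flat2E.Thick.locallyOfFinitePresentation_of_comp φ.left B.hom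
  exact Etale.of_formallyUnramified_of_flat φ.left

end

end K490.DualIsog
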