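import Groth.Agent.Neron.K490.WeilSmAlg
import Groth.Agent.WeilRes.K933.WRFinite
import Groth.Agent.Neron.K487.WeilOpen
import Mathlib.AlgebraicGeometry.Morphisms.Smooth

/-!
# Weil restrictions of smooth schemes along finite free universal homeomorphisms are smooth
-/

set_option autoImplicit false
universe u

open CategoryTheory CategoryTheory.Limits AlgebraicGeometry Opposite TensorProduct

namespace K490.WeilSm

open Groth.Agent.Sga3B.RepDescent K933.WRSheaf K933.WRAffine K933.WRFinite K490.WeilSmAlg

variable (A A' : Type u) [CommRing A] [CommRing A'] [Algebra A A']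

/-- The Weil restriction of an affine scheme along a finite free extension of rings is
representable. -/
theorem representableBy_spec {E : Type u}
    [CommRing E] [Algebra A' E] {P : Type u} [CommRing P] [Algebra A P] {π : E →+* P ⊗[A] A'}
    (h : IsUniv A A' E P π) :
    Nonempty ((WeilRes.functor (fA A A')
      (Over.mk (Spec.map (CommRingCat.ofHom (algebraMap A' E))))).RepresentableBy (spO A P)) := by
  have hπ := h.alg
  have huniv := h.univ
  let X' : Over (Spec (CommRingCat.of A')) :=
    Over.mk (Spec.map (CommRingCat.ofHom (algebraMap A' E)))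
  let q : Red.bc (fA A A') (spO A P) ⟶ X' :=
    Over.homMk ((io A A' P).inv ≫ Spec.map (CommRingCat.ofHom π)) (by
      change ((io A A' P).inv ≫ Spec.map (CommRingCat.ofHom π)) ≫
        Spec.map (CommRingCat.ofHom (algebraMap A' E)) = pullback.snd (spO A P).hom (fA A A')
      rw [Category.assoc, ← Spec.map_comp, Iso.inv_comp_eq]
      refine Eq.trans ?_ (pullbackSpecIso_inv_snd A P A').symm
      congr 1
      ext a
      exact hπ a)
  have hq : (io A A' P).hom ≫ q.left = Spec.map (CommRingCat.ofHom π) := by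
    change (io A A' P).hom ≫ (io A A' P).inv ≫ Spec.map (CommRingCat.ofHom π) = _
    rw [Iso.hom_inv_id_assoc]
  refine representableBy_of_spec (isEtSheaf_functor (fA A A') X') (spO A P) q ?_
  intro B t
  obtain ⟨t', rfl⟩ := Spec.map_surjective (R := CommRingCat.of A) (S := B) t
  let : Algebra A B := t'.hom.toAlgebra
  have key : ∀ (φ : P →ₐ[A] B) (m : spO A B ⟶ spO A P),
      m.left = Spec.map (CommRingCat.ofHom φ.toRingHom) →
      (io A A' B).hom ≫ ((Over.pullback (fA A A')).map m ≫ q).left =
        Spec.map (CommRingCat.ofHom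
          ((Algebra.TensorProduct.map φ (AlgHom.id A A')).toRingHom.comp π)) := by
    intro φ m hm
    rw [Over.comp_left, ← Category.assoc, io_naturality A A' φ m hm, Category.assoc, hq,
      ← Spec.map_comp]
    rfl
  change Function.Bijective (fun m : spO A B ⟶ spO A P => (Over.pullback (fA A A')).map m ≫ q)
  constructor
  · intro m₁ m₂ h
    obtain ⟨φ₁, h₁⟩ := exists_algHom m₁
    obtain ⟨φ₂, h₂⟩ := exists_algHom m₂
    have e₁ := key φ₁ m₁ h₁
    have e₂ := key φ₂ m₂ h₂
    have h3 : (Over.pullback (fA A A')).map m₁ ≫ q = (Over.pullback (fA A A')).map m₂ ≫ q := h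
    rw [h3, e₂] at e₁
    have h4 := congrArg CommRingCat.Hom.hom (Spec.map_injective e₁)
    have h5 : ∀ x, Algebra.TensorProduct.map φ₂ (AlgHom.id A A') (π x) =
        Algebra.TensorProduct.map φ₁ (AlgHom.id A A') (π x) := fun x => DFunLike.congr_fun h4 x
    have h6 : φ₁ = φ₂ := by
      refine (huniv B ((Algebra.TensorProduct.map φ₁ (AlgHom.id A A')).toRingHom.comp π)
        (fun a => ?_)).unique (fun x => rfl) (fun x => h5 x)
      change Algebra.TensorProduct.map φ₁ (AlgHom.id A A') (π (algebraMap A' E a)) = _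
      rw [hπ]
      simp
    apply Over.OverMorphism.ext
    rw [h₁, h₂, h6]
  · intro y
    obtain ⟨e, he⟩ := Spec.map_surjective (R := CommRingCat.of E)
      (S := CommRingCat.of (B ⊗[A] A')) ((io A A' B).hom ≫ Over.Hom.left y)
    have hw : Over.Hom.left y ≫ Spec.map (CommRingCat.ofHom (algebraMap A' E)) =
      pullback.snd (spO A B).hom (fA A A') := Over.w y
    have hsnd : (io A A' B).hom ≫ pullback.snd (spO A B).hom (fA A A') =
      Spec.map (CommRingCat.ofHom
        (Algebra.TensorProduct.includeRight : A' →ₐ[A] B ⊗[A] A').toRingHom) :=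
      pullbackSpecIso_inv_snd A B A'
    have h1 : CommRingCat.ofHom (algebraMap A' E) ≫ e = CommRingCat.ofHom
        (Algebra.TensorProduct.includeRight : A' →ₐ[A] B ⊗[A] A').toRingHom := by
      apply Spec.map_injective
      rw [Spec.map_comp, he, Category.assoc, hw, hsnd]
    obtain ⟨φ, hφ, -⟩ := huniv B e.hom
      (fun a => DFunLike.congr_fun (congrArg CommRingCat.Hom.hom h1) a)
    let m : spO A B ⟶ spO A P := Over.homMk (Spec.map (CommRingCat.ofHom φ.toRingHom)) (by
      change Spec.map (CommRingCat.ofHom φ.toRingHom) ≫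
        Spec.map (CommRingCat.ofHom (algebraMap A P)) =
          Spec.map (CommRingCat.ofHom (algebraMap A B))
      rw [← Spec.map_comp]
      congr 1
      ext a
      exact φ.commutes a)
    refine ⟨m, ?_⟩
    apply Over.OverMorphism.ext
    rw [← cancel_epi (io A A' B).hom]
    refine (key φ m rfl).trans (Eq.trans ?_ he)
    congr 1
    ext x
    exact hφ x


section smooth

variable [IsNoetherianRing A] [Module.Finite A A'] [Module.Free A A']

/-- The Weil restriction of a smooth affine scheme is smooth. -/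
theorem exists_smooth_affine (X' : Over (Spec (CommRingCat.of A'))) [IsAffine X'.left]
    [Smooth X'.hom] :
    ∃ W : Over (Spec (CommRingCat.of A)), Smooth W.hom ∧
      Nonempty ((WeilRes.functor (fA A A') X').RepresentableBy W) := by
  obtain ⟨φ, hφ⟩ := Spec.map_surjective (R := CommRingCat.of A') (S := Γ(X'.left, ⊤))
    (X'.left.isoSpec.inv ≫ X'.hom)
  let : Algebra A' Γ(X'.left, ⊤) := φ.hom.toAlgebra
  have hsm : Algebra.Smooth A' Γ(X'.left, ⊤) := by
    have h1 : Smooth (Spec.map φ) := by
      rw [hφ]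
      exact MorphismProperty.comp_mem @Smooth _ _ inferInstance inferInstance
    rw [HasRingHomProperty.Spec_iff (P := @Smooth)] at h1
    exact h1
  obtain ⟨P, _, _, π, hπ, huniv⟩ := K933.WRAlg.exists_weil A A' Γ(X'.left, ⊤)
  have hU : IsUniv A A' Γ(X'.left, ⊤) P π := ⟨hπ, huniv⟩
  have h1 : Algebra.FormallySmooth A P := formallySmooth hU
  have h2 : Algebra.FiniteType A P := finiteType hU
  have h3 : Algebra.FinitePresentation A P := Algebra.FinitePresentation.of_finiteType.mp h2
  have h4 : Algebra.Smooth A P := ⟨h1, h3⟩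
  obtain ⟨r⟩ := representableBy_spec A A' hU
  let e : Over.mk (Spec.map (CommRingCat.ofHom (algebraMap A' Γ(X'.left, ⊤)))) ≅ X' :=
    Over.isoMk X'.left.isoSpec.symm (by
      change X'.left.isoSpec.inv ≫ X'.hom = Spec.map φ
      rw [hφ])
  refine ⟨spO A P, ?_, ⟨r.ofIso (functorIso _ e)⟩⟩
  change Smooth (Spec.map (CommRingCat.ofHom (algebraMap A P)))
  rw [HasRingHomProperty.Spec_iff (P := @Smooth)]
  exact RingHom.smooth_algebraMap.mpr h4

/-- The Weil restriction of a smooth scheme along a finite free universal homeomorphism is smooth. -/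
theorem smooth_weil {X' : Over (Spec (CommRingCat.of A'))} [Smooth X'.hom]
    {W : Over (Spec (CommRingCat.of A))} {q : Red.bc (fA A A') W ⟶ X'}
    (hW : WeilRes.IsWeilRes (fA A A') X' W q) (hf : IsHomeomorph (pullback.fst W.hom (fA A A'))) :
    Smooth W.hom := by
  have key : ∀ w : W.left, ∃ (V : Scheme.{u}) (v : V ⟶ W.left), IsOpenImmersion v ∧
      w ∈ Set.range v ∧ Smooth (v ≫ W.hom) := by
    intro w
    obtain ⟨z₀, hz₀⟩ := hf.surjective w
    obtain ⟨U, hU, hsU, -⟩ : ∃ U : X'.left.Opens, IsAffineOpen U ∧ q.left z₀ ∈ U ∧ True := by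
      obtain ⟨U, hU, hsU, -⟩ := exists_isAffineOpen_mem_and_subset (x := q.left z₀) (U := ⊤) trivial
      exact ⟨U, hU, hsU, trivial⟩
    let N₀ : Over (Spec (CommRingCat.of A')) := Over.mk (U.ι ≫ X'.hom)
    let j : N₀ ⟶ X' := Over.homMk U.ι rfl
    have hj : IsOpenImmersion j.left := inferInstanceAs (IsOpenImmersion U.ι)
    have haff : IsAffine N₀.left := hU
    have hsm : Smooth N₀.hom := inferInstanceAs (Smooth (U.ι ≫ X'.hom))
    obtain ⟨W₀, hW₀s, ⟨r⟩⟩ := exists_smooth_affine A A' N₀
    have hW₀ := WeilRes.IsWeilRes.of_representableBy r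
    obtain ⟨h1, h2⟩ := K487.WeilOpen.weil_open j hW hW₀ hf.isClosedMap
    refine ⟨W₀.left, (hW.lift W₀ (r.homEquiv (𝟙 W₀) ≫ j)).left, h1, ?_, ?_⟩
    · rw [h2]
      intro v hv
      rw [hf.injective (hv.trans hz₀.symm)]
      change q.left z₀ ∈ Set.range U.ι
      rw [Scheme.Opens.range_ι]
      exact hsU
    · rw [Over.w]
      exact hW₀s
  choose V v hv hw hs using key
  let 𝒰 : W.left.OpenCover := Scheme.Cover.mkOfCovers W.left V v (fun x => by
    obtain ⟨y, hy⟩ := hw x
    exact ⟨x, y, hy⟩) hv
  exact (IsZariskiLocalAtSource.iff_of_openCover (P := @Smooth) 𝒰).mpr fun x => hs x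

end smooth

end K490.WeilSm
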