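import Groth.Agent.Neron.K490.PullMap
import Groth.Agent.Neron.K490.WeilGrp
import Groth.Agent.Neron.K490.WeilSm
import Groth.Agent.Neron.K489.PurInsep
import Groth.Agent.Models.WeilChart
import Groth.Agent.S17692
import Groth.Prelude.Def_SGA7IX
import Mathlib.CategoryTheory.Comma.Over.Pullback

/-!
# The Weil restriction of an abelian scheme along a purely inseparable extension of dvr's is Néron
-/

set_option autoImplicit false
universe v u w
open CategoryTheory MonoidalCategory CartesianMonoidalCategory MonObj GrpObj AlgebraicGeometry Limits Opposite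

namespace K490.WeilNeron

/-- Two objects which are universal for each other are isomorphic. -/
theorem nonempty_iso {C : Type u} [Category.{v} C] (Φ : Cᵒᵖ ⥤ Type w) {X Y : C} (β : Φ.obj (op X))
    (c : Φ.obj (op Y)) (hXX : Function.Injective (fun g : X ⟶ X => Φ.map g.op β))
    (hYX : Function.Surjective (fun g : Y ⟶ X => Φ.map g.op β))
    (hXY : Function.Surjective (fun g : X ⟶ Y => Φ.map g.op c))
    (hYY : Function.Injective (fun g : Y ⟶ Y => Φ.map g.op c)) : Nonempty (X ≅ Y) := by
  obtain ⟨φ, hφ⟩ := hYX c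
  obtain ⟨ψ, hψ⟩ := hXY β
  refine ⟨⟨ψ, φ, hXX ?_, hYY ?_⟩⟩
  · change Φ.map (ψ ≫ φ).op β = Φ.map (𝟙 X).op β
    rw [op_comp, Functor.map_comp_apply, op_id, Functor.map_id_apply]
    exact (congrArg (Φ.map ψ.op) hφ).trans hψ
  · change Φ.map (φ ≫ ψ).op c = Φ.map (𝟙 Y).op c
    rw [op_comp, Functor.map_comp_apply, op_id, Functor.map_id_apply]
    exact (congrArg (Φ.map φ.op) hψ).trans hφ

/-- The Néron mapping property of a proper group scheme over a Dedekind domain. -/
theorem bijective_generic (S L : Type u) [CommRing S] [IsDedekindDomain S] [Field L] [Algebra S L]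
    [IsFractionRing S L] (N : Over (Spec (CommRingCat.of S))) [GrpObj N] [IsProper N.hom]
    (Y : Over (Spec (CommRingCat.of S))) [Smooth Y.hom] :
    Function.Bijective (fun g : Y ⟶ N =>
      (Over.pullback (Spec.map (CommRingCat.ofHom (algebraMap S L)))).map g) := by
  have hG : GrpObj (Over.mk N.hom) := inferInstanceAs (GrpObj N)
  refine ⟨?_, ?_⟩
  · intro f g hfg
    have h1 := (K490.PullMap.pullback_map_eq_iff _ f g).mp hfg
    obtain ⟨u, -, hu⟩ := Groth.Agent.Models.WeilChart.existsUnique_extension N.hom Y.hom L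
      (pullback.fst Y.hom _ ≫ f.left) (by rw [Category.assoc, Over.w f])
    ext1
    rw [hu f.left ⟨Over.w f, rfl⟩, hu g.left ⟨Over.w g, h1.symm⟩]
  · intro φ
    obtain ⟨u, ⟨hu1, hu2⟩, -⟩ := Groth.Agent.Models.WeilChart.existsUnique_extension N.hom Y.hom L
      (φ.left ≫ pullback.fst N.hom _) (by
        have h1 := Over.w φ
        change φ.left ≫ pullback.snd N.hom _ = pullback.snd Y.hom _ at h1
        rw [Category.assoc, pullback.condition, reassoc_of% h1, pullback.condition])
    refine ⟨Over.homMk u hu1, ?_⟩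
    ext1
    apply pullback.hom_ext
    · rw [K490.PullMap.pullback_map_left_fst]
      exact hu2
    · rw [K490.PullMap.pullback_map_left_snd]
      exact (Over.w φ).symm

/-- Base change along equal morphisms. -/
noncomputable def pbCongr {X Y : Scheme.{u}} {f g : X ⟶ Y} (h : f = g) : Over.pullback f ≅ Over.pullback g :=
  h ▸ Iso.refl _

/-- Base change along the two sides of a commutative square. -/
noncomputable def sqIso {S R L K : Scheme.{u}} (f : S ⟶ R) (b : L ⟶ S) (g : L ⟶ K) (a : K ⟶ R)
    (h : b ≫ f = g ≫ a) : Over.pullback f ⋙ Over.pullback b ≅ Over.pullback a ⋙ Over.pullback g :=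
  (Over.pullbackComp b f).symm ≪≫ pbCongr h ≪≫ Over.pullbackComp g a

section

variable {S R L K : Scheme.{u}} {f : S ⟶ R} {b : L ⟶ S} {g : L ⟶ K} {a : K ⟶ R}

/-- If `W` is a Weil restriction of `A` and `N` represents the same functor on a class of schemes to
which both belong, then `W ≅ N`. -/
theorem iso_of_weil (h : b ≫ f = g ≫ a) (Pr : Over R → Prop)
    {A : Over S} {W : Over R} {q : Red.bc f W ⟶ A} (hW : WeilRes.IsWeilRes f A W q)
    (hA : ∀ Y : Over R, Pr Y → Function.Bijective (fun y : (Over.pullback f).obj Y ⟶ A => (Over.pullback b).map y))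
    {P : Over K} {q' : Red.bc g P ⟶ Red.bc b A} (hP : WeilRes.IsWeilRes g (Red.bc b A) P q')
    {N : Over R} (hN : ∀ Y : Over R, Pr Y → Function.Bijective (fun y : Y ⟶ N => (Over.pullback a).map y))
    (e : (Over.pullback a).obj N ≅ P) (hWP : Pr W) (hNP : Pr N) : Nonempty (W ≅ N) := by
  let Φ : (Over R)ᵒᵖ ⥤ Type u :=
    (Over.pullback f ⋙ Over.pullback b).op ⋙ yoneda.obj ((Over.pullback b).obj A)
  let β : Φ.obj (op W) := (Over.pullback b).map q
  let i := sqIso f b g a h
  let c : Φ.obj (op N) := i.hom.app N ≫ (Over.pullback g).map e.hom ≫ q'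
  have hβ : ∀ Y : Over R, Pr Y → Function.Bijective (fun y : Y ⟶ W => Φ.map y.op β) := by
    intro Y hY
    have h1 := (hA Y hY).comp (hW Y)
    change Function.Bijective (fun y : Y ⟶ W => (Over.pullback b).map ((Over.pullback f).map y) ≫
      (Over.pullback b).map q)
    have h2 : (fun y : Y ⟶ W => (Over.pullback b).map ((Over.pullback f).map y) ≫ (Over.pullback b).map q) =
        (fun y : (Over.pullback f).obj Y ⟶ A => (Over.pullback b).map y) ∘ WeilRes.restr f q Y := by
      funext y
      change (Over.pullback b).map ((Over.pullback f).map y) ≫ (Over.pullback b).map q =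
        (Over.pullback b).map ((Over.pullback f).map y ≫ q)
      rw [Functor.map_comp]
    rw [h2]
    exact h1
  have hc : ∀ Y : Over R, Pr Y → Function.Bijective (fun y : Y ⟶ N => Φ.map y.op c) := by
    intro Y hY
    have h1 : Function.Bijective (fun z : (Over.pullback g).obj ((Over.pullback a).obj Y) ⟶ (Over.pullback b).obj A =>
        i.hom.app Y ≫ z) := (i.app Y).homFromEquiv.symm.bijective
    have h2 : Function.Bijective (fun z : (Over.pullback a).obj Y ⟶ (Over.pullback a).obj N => z ≫ e.hom) :=
      e.homToEquiv.bijective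
    have h3 := h1.comp ((hP _).comp (h2.comp (hN Y hY)))
    change Function.Bijective (fun y : Y ⟶ N => (Over.pullback b).map ((Over.pullback f).map y) ≫
      i.hom.app N ≫ (Over.pullback g).map e.hom ≫ q')
    have h5 : (fun y : Y ⟶ N => (Over.pullback b).map ((Over.pullback f).map y) ≫
        i.hom.app N ≫ (Over.pullback g).map e.hom ≫ q') =
        (fun y : Y ⟶ N => i.hom.app Y ≫ (Over.pullback g).map ((Over.pullback a).map y ≫ e.hom) ≫ q') := by
      funext y
      have h4 := i.hom.naturality y
      change (Over.pullback b).map ((Over.pullback f).map y) ≫ i.hom.app N =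
        i.hom.app Y ≫ (Over.pullback g).map ((Over.pullback a).map y) at h4
      rw [reassoc_of% h4, Functor.map_comp, Category.assoc]
    rw [h5]
    exact h3
  exact nonempty_iso Φ β c (hβ W hWP).1 (hβ N hNP).2 (hc W hWP).2 (hc N hNP).1

end

end K490.WeilNeron
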