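import Groth.Agent.S0075
import Groth.Agent.S0076
import Groth.Agent.Neron.K490.WeilNeron

/-!
# Extending points of étale schemes to Néron models after a universal homeomorphism

`b ≫ f = c ≫ a` a commutative square of schemes, `f`, `c` universal homeomorphisms, `N` over the
target of `f` with the mapping property for étale schemes.
-/

set_option autoImplicit false
universe v u
open CategoryTheory MonoidalCategory CartesianMonoidalCategory MonObj GrpObj AlgebraicGeometry Limits

namespace K490.EtExt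

/-- Étale schemes descend along universal homeomorphisms. -/
theorem exists_descend {X Y : Scheme.{u}} (f : X ⟶ Y) [IsIntegralHom f] [UniversallyInjective f]
    [Surjective f] (W : Over X) [Etale W.hom] :
    ∃ W₀ : Over Y, Etale W₀.hom ∧ Nonempty ((Over.pullback f).obj W₀ ≅ W) := by
  have he := Groth.Agent.S0075.result f
  let V : X.Etale := Scheme.Etale.mk W.hom
  let V₀ := (EtCoh.bc f).objPreimage V
  let e : (EtCoh.bc f).obj V₀ ≅ V := (EtCoh.bc f).objObjPreimageIso V
  refine ⟨Over.mk V₀.hom, V₀.prop, ⟨?_⟩⟩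
  exact (MorphismProperty.Over.forget _ _ X).mapIso e

open K490.WeilNeron

variable {S S' T T' : Scheme.{u}} {f : S' ⟶ S} {b : T' ⟶ S'} {c : T' ⟶ T} {a : T ⟶ S}

theorem exists_ext (h : b ≫ f = c ≫ a) [IsIntegralHom f] [UniversallyInjective f] [Surjective f]
    [IsIntegralHom c] [UniversallyInjective c] [Surjective c] {P : Over T} {N : Over S}
    (hN : ∀ Y : Over S, Etale Y.hom → Function.Surjective (fun y : Y ⟶ N => (Over.pullback a).map y))
    (e : (Over.pullback a).obj N ≅ P) {D : Over T} [Etale D.hom] (j : D ⟶ P)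
    (W : Over S') [Etale W.hom] (w : (Over.pullback b).obj W ⟶ (Over.pullback c).obj D) :
    ∃ x : W ⟶ (Over.pullback f).obj N,
      (Over.pullback b).map x ≫ (sqIso f b c a h).hom.app N ≫ (Over.pullback c).map e.hom =
        w ≫ (Over.pullback c).map j := by
  obtain ⟨W₀, hW₀, ⟨θ⟩⟩ := exists_descend f W
  let i := sqIso f b c a h
  let w' : (Over.pullback c).obj ((Over.pullback a).obj W₀) ⟶ (Over.pullback c).obj D :=
    i.inv.app W₀ ≫ (Over.pullback b).map θ.hom ≫ w
  obtain ⟨p₀, hp₀⟩ := (Groth.Agent.S0076.result c D ((Over.pullback a).obj W₀)).2 w'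
  have hp₀' : (Over.pullback c).map p₀ = w' := hp₀
  obtain ⟨x₀, hx₀⟩ := hN W₀ hW₀ (p₀ ≫ j ≫ e.inv)
  have hx₀' : (Over.pullback a).map x₀ = p₀ ≫ j ≫ e.inv := hx₀
  refine ⟨θ.inv ≫ (Over.pullback f).map x₀, ?_⟩
  have h4 : (Over.pullback b).map ((Over.pullback f).map x₀) ≫ i.hom.app N =
      i.hom.app W₀ ≫ (Over.pullback c).map ((Over.pullback a).map x₀) := i.hom.naturality x₀
  change (Over.pullback b).map (θ.inv ≫ (Over.pullback f).map x₀) ≫ i.hom.app N ≫ (Over.pullback c).map e.hom = _
  rw [Functor.map_comp, Category.assoc, reassoc_of% h4, ← Functor.map_comp, hx₀', Category.assoc,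
    Category.assoc, Iso.inv_hom_id, Category.comp_id, Functor.map_comp, hp₀']
  change (Over.pullback b).map θ.inv ≫ i.hom.app W₀ ≫ (i.inv.app W₀ ≫ (Over.pullback b).map θ.hom ≫ w) ≫
    (Over.pullback c).map j = _
  have h5 : i.hom.app W₀ ≫ i.inv.app W₀ = 𝟙 _ := i.hom_inv_id_app W₀
  rw [Category.assoc, Category.assoc, reassoc_of% h5, ← Functor.map_comp_assoc, Iso.inv_hom_id,
    CategoryTheory.Functor.map_id]
  exact Category.id_comp _

end K490.EtExt
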