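import Groth.Agent.Neron.K490.SecNhd
import Groth.Agent.Sga3C.QFlatOpen
import Mathlib.AlgebraicGeometry.Morphisms.FlatMono

/-!
# Flat morphisms which are monomorphisms over a schematically dense open are local isomorphisms

`isOpenImmersion_of_flat`: a flat separated morphism `g : W ⟶ S` locally of finite presentation which is a
monomorphism over the open `U` with `g ⁻¹ U` schematically dense in `W` is an open immersion.
-/

set_option autoImplicit false
universe u
open CategoryTheory CategoryTheory.Limits AlgebraicGeometry TopologicalSpace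

namespace K490.FlatNhd

open K490.SecNhd

theorem isOpenImmersion_of_flat {W S : Scheme.{u}} (g : W ⟶ S) [Flat g] [LocallyOfFinitePresentation g]
    [IsSeparated g] (U : S.Opens)
    (hmono : ∀ (T : Scheme.{u}) (a b : T ⟶ W), a ≫ g = b ≫ g → (∀ t : T, g (a t) ∈ U) → a = b)
    (hdense : CInt.IsSchematicallyDense (g ⁻¹ᵁ U)) :
    IsOpenImmersion g := by
  have hd := Groth.Agent.Ega4late.H537.SchDensePull.isSchematicallyDense_preimage
    (pullback.fst g g) (g ⁻¹ᵁ U) hdense
  have h1 : pullback.fst g g = pullback.snd g g := by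
    refine Groth.Agent.Ega4dB.SchDense.ext_of_isSchematicallyDense g pullback.condition _ hd ?_
    refine hmono _ _ _ ?_ ?_
    · rw [Category.assoc, Category.assoc, pullback.condition]
    · intro t
      exact t.2
  have hmono : Mono g := by
    constructor
    intro Z a b hab
    rw [← pullback.lift_fst a b hab, h1, pullback.lift_snd]
  exact IsOpenImmersion.of_flat_of_mono g

/-- The restriction of `f` to an open on which it is flat at all points is flat. -/
theorem flat_ι_comp {X S : Scheme.{u}} (f : X ⟶ S) (W : X.Opens)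
    (h : ∀ y ∈ W, (f.stalkMap y).hom.Flat) : Flat (W.ι ≫ f) := by
  refine Flat.of_stalkMap _ fun y => ?_
  have h1 : (f.stalkMap (W.ι y)).hom.Flat := h (W.ι y) y.2
  have h2 : (W.ι.stalkMap y).hom.Flat := RingHom.Flat.of_bijective
    (ConcreteCategory.bijective_of_isIso (W.ι.stalkMap y))
  have h3 : (f.stalkMap (W.ι y) ≫ W.ι.stalkMap y).hom.Flat := RingHom.Flat.comp h1 h2
  rw [Scheme.Hom.stalkMap_comp]
  exact h3

theorem exists_affine_nhd {X S : Scheme.{u}} [IsLocallyNoetherian S] (f : X ⟶ S)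
    [LocallyOfFiniteType f] (x : X) (hx : (f.stalkMap x).hom.Flat) :
    ∃ W : X.Opens, x ∈ W ∧ Flat (W.ι ≫ f) ∧ IsSeparated (W.ι ≫ f) := by
  obtain ⟨F, hF⟩ : ∃ F : X.Opens, ∀ y : X, y ∈ F ↔ (f.stalkMap y).hom.Flat :=
    ⟨⟨{x : X | (f.stalkMap x).hom.Flat}, Groth.Agent.Sga3C.QFlatOpen.isOpen_flatLocus f⟩,
      fun y => Iff.rfl⟩
  obtain ⟨V₀, hV₀, hxV₀, -⟩ := exists_isAffineOpen_mem_and_subset (x := f x) (U := ⊤) trivial
  obtain ⟨W, hW, hxW, hWF⟩ := exists_isAffineOpen_mem_and_subset (x := x) (U := F ⊓ f ⁻¹ᵁ V₀)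
    ⟨(hF x).mpr hx, hxV₀⟩
  have hWV : W ≤ f ⁻¹ᵁ V₀ := fun y hy => (hWF hy).2
  have h1 : IsAffine W := hW
  have h2 : IsAffine V₀ := hV₀
  refine ⟨W, hxW, flat_ι_comp f W fun y hy => (hF y).mp (hWF hy).1, ?_⟩
  have h0 : W.ι ≫ f = f.resLE V₀ W hWV ≫ V₀.ι := by rw [Scheme.Hom.resLE_comp_ι]
  rw [h0]
  infer_instance

/-- Over a locally Noetherian base, flatness at a point implies that `f` is an open immersion near
the point, if `f` is a monomorphism over an open whose preimage is schematically dense. -/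
theorem exists_nhd_of_flatAt {X S : Scheme.{u}} [IsLocallyNoetherian S] (f : X ⟶ S)
    [LocallyOfFiniteType f] (U : S.Opens) [Mono (f ∣_ U)]
    (hdense : CInt.IsSchematicallyDense (f ⁻¹ᵁ U)) (x : X) (hx : (f.stalkMap x).hom.Flat) :
    ∃ W : X.Opens, x ∈ W ∧ IsOpenImmersion (W.ι ≫ f) := by
  have hlfp : LocallyOfFinitePresentation f := inferInstance
  obtain ⟨W, hxW, hfl, hsep⟩ := exists_affine_nhd f x hx
  have hd : CInt.IsSchematicallyDense ((W.ι ≫ f) ⁻¹ᵁ U) := by
    rw [Scheme.Hom.comp_preimage]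
    exact isSchematicallyDense_restrict W _ hdense
  refine ⟨W, hxW, isOpenImmersion_of_flat (W.ι ≫ f) U (fun T a b hab ht => ?_) hd⟩
  rw [← cancel_mono W.ι]
  refine eq_of_comp_eq_of_mono_restrict f U _ _ (by simpa only [Category.assoc] using hab) fun t => ?_
  have h1 := ht t
  rw [Scheme.Hom.comp_apply] at h1
  rw [Scheme.Hom.comp_apply]
  exact h1

end K490.FlatNhd
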