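import Groth.Agent.Dix.GenExtUniq
import Groth.Agent.Neron.K490.PullMap

/-!
# Restriction to the generic fibre, as morphisms of schemes over the whole base

For a scheme `Y` over a domain `R`, `gen Y` is the generic fibre of `Y` viewed as an `R`-scheme and
`gi Y : gen Y ⟶ Y` the projection.  The Néron mapping property of `N` for `Y` says that
`(Y ⟶ N) → (gen Y ⟶ N)`, `g ↦ gi Y ≫ g` is a bijection (`bijective_iff`).
-/

set_option autoImplicit false
universe u

open CategoryTheory CategoryTheory.Limits AlgebraicGeometry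
open Groth.Agent.Dix.GenFibre

namespace K490.GenRes

variable {R : Type u} [CommRing R]

/-- The generic fibre of `Y` as a scheme over `Spec R`. -/
noncomputable def gen (Y : Over (Spec (CommRingCat.of R))) : Over (Spec (CommRingCat.of R)) :=
  Over.mk (genι Y ≫ Y.hom)

/-- The projection from the generic fibre. -/
noncomputable def gi (Y : Over (Spec (CommRingCat.of R))) : gen Y ⟶ Y := Over.homMk (genι Y) rfl

@[simp] lemma gi_left (Y : Over (Spec (CommRingCat.of R))) : (gi Y).left = genι Y := rfl

/-- Functoriality of the generic fibre. -/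
noncomputable def genMap {Y Z : Over (Spec (CommRingCat.of R))} (f : Y ⟶ Z) : gen Y ⟶ gen Z :=
  Over.homMk ((Neron.genericFibre R).map f).left (by
    change ((Neron.genericFibre R).map f).left ≫ genι Z ≫ Z.hom = genι Y ≫ Y.hom
    rw [genι_naturality_assoc, Over.w f])

@[reassoc]
lemma genMap_gi {Y Z : Over (Spec (CommRingCat.of R))} (f : Y ⟶ Z) : genMap f ≫ gi Z = gi Y ≫ f := by
  ext1
  exact genι_naturality f

lemma genMap_comp {Y Z W : Over (Spec (CommRingCat.of R))} (f : Y ⟶ Z) (g : Z ⟶ W) :
    genMap (f ≫ g) = genMap f ≫ genMap g := by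
  ext1
  change ((Neron.genericFibre R).map (f ≫ g)).left = ((Neron.genericFibre R).map f).left ≫ _
  rw [Functor.map_comp]
  rfl

/-- The structure morphism of the generic fibre factors through the generic point. -/
lemma exists_factor (Y : Over (Spec (CommRingCat.of R))) :
    ∃ q : (gen Y).left ⟶ Spec (CommRingCat.of (FractionRing R)), (gen Y).hom = q ≫ Neron.genPt R :=
  ⟨pullback.snd Y.hom (Neron.genPt R), pullback.condition⟩

/-- A morphism to `Y` from a scheme over the generic point factors through `gen Y`. -/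
lemma exists_lift_gen {T Y : Over (Spec (CommRingCat.of R))} (t : T ⟶ Y)
    (q : T.left ⟶ Spec (CommRingCat.of (FractionRing R))) (hq : T.hom = q ≫ Neron.genPt R) :
    ∃ w : T ⟶ gen Y, w ≫ gi Y = t := by
  have h1 : t.left ≫ Y.hom = q ≫ Neron.genPt R := (Over.w t).trans hq
  have h2 : pullback.lift t.left q h1 ≫ pullback.fst Y.hom (Neron.genPt R) = t.left :=
    pullback.lift_fst _ _ _
  have h3 : pullback.lift t.left q h1 ≫ (pullback.fst Y.hom (Neron.genPt R) ≫ Y.hom) = T.hom := by
    rw [← Category.assoc, h2]
    exact Over.w t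
  refine ⟨(Over.homMk (pullback.lift t.left q h1) h3 : T ⟶ gen Y), ?_⟩
  ext1
  exact h2

/-- Morphisms of `R`-schemes from the generic fibre of `Y` are morphisms of generic fibres. -/
noncomputable def homEquiv (Y N : Over (Spec (CommRingCat.of R))) :
    (gen Y ⟶ N) ≃ ((Neron.genericFibre R).obj Y ⟶ (Neron.genericFibre R).obj N) where
  toFun f := Over.homMk (pullback.lift f.left (pullback.snd Y.hom (Neron.genPt R)) (by
      have h1 : f.left ≫ N.hom = genι Y ≫ Y.hom := Over.w f
      exact h1.trans pullback.condition)) (pullback.lift_snd _ _ _)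
  invFun φ := Over.homMk (φ.left ≫ genι N) (by
      have h1 : φ.left ≫ pullback.snd N.hom (Neron.genPt R) = pullback.snd Y.hom (Neron.genPt R) :=
        Over.w φ
      change (φ.left ≫ pullback.fst N.hom (Neron.genPt R)) ≫ N.hom =
        pullback.fst Y.hom (Neron.genPt R) ≫ Y.hom
      rw [Category.assoc, pullback.condition, reassoc_of% h1, pullback.condition])
  left_inv f := by
    ext1
    exact pullback.lift_fst _ _ _
  right_inv φ := by
    ext1
    apply pullback.hom_ext
    · exact pullback.lift_fst _ _ _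
    · refine (pullback.lift_snd _ _ _).trans ?_
      exact (Over.w φ).symm

lemma homEquiv_gi (Y N : Over (Spec (CommRingCat.of R))) (g : Y ⟶ N) :
    homEquiv Y N (gi Y ≫ g) = (Neron.genericFibre R).map g := by
  rw [← Equiv.eq_symm_apply]
  ext1
  exact (genι_naturality g).symm

variable [IsDomain R]

omit [IsDomain R] in
/-- The Néron mapping property of `N` for `Y` in terms of restriction along `gi Y`. -/
theorem bijective_iff (Y N : Over (Spec (CommRingCat.of R))) :
    Function.Bijective (fun g : Y ⟶ N => (Neron.genericFibre R).map g ≫ (Iso.refl _).hom) ↔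
      Function.Bijective (fun g : Y ⟶ N => gi Y ≫ g) := by
  have h1 : (fun g : Y ⟶ N => (Neron.genericFibre R).map g ≫ (Iso.refl _).hom) =
      (homEquiv Y N) ∘ (fun g : Y ⟶ N => gi Y ≫ g) := by
    funext g
    simp only [Function.comp_apply, homEquiv_gi, Iso.refl_hom, Category.comp_id]
  rw [h1]
  exact (Equiv.comp_bijective _ _)

instance mono_gi (Y : Over (Spec (CommRingCat.of R))) : Mono (gi Y) := by
  have h1 : Mono (gi Y).left := inferInstanceAs (Mono (genι Y))
  exact Over.mono_of_mono_left (gi Y)

/-- Morphisms to a separated scheme from a flat scheme agree if they agree on the generic fibre. -/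
theorem ext_gi {Y N : Over (Spec (CommRingCat.of R))} [Flat Y.hom] [IsSeparated N.hom] {f g : Y ⟶ N}
    (h : gi Y ≫ f = gi Y ≫ g) : f = g := by
  apply Groth.Agent.Dix.GenExtUniq.ext_of_genericFibre
  rw [← homEquiv_gi, ← homEquiv_gi, h]

/-- The mapping property from existence of extensions. -/
theorem isNeronModelOf_of {N : Over (Spec (CommRingCat.of R))} (h1 : Smooth N.hom) (h2 : IsSeparated N.hom)
    (h3 : QuasiCompact N.hom)
    (h : ∀ Y : Over (Spec (CommRingCat.of R)), Smooth Y.hom → ∀ f : gen Y ⟶ N, ∃ g : Y ⟶ N, gi Y ≫ g = f) :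
    Neron.IsNeronModelOf R N ((Neron.genericFibre R).obj N) (Iso.refl _) := by
  refine ⟨h1, h2, inferInstance, h3, fun Y hY => ?_⟩
  rw [bijective_iff]
  exact ⟨fun f g hfg => ext_gi hfg, fun f => h Y hY f⟩

theorem exists_extension {N : Over (Spec (CommRingCat.of R))}
    (h : Neron.IsNeronModelOf R N ((Neron.genericFibre R).obj N) (Iso.refl _))
    {Y : Over (Spec (CommRingCat.of R))} (hY : Smooth Y.hom) (f : gen Y ⟶ N) :
    ∃ g : Y ⟶ N, gi Y ≫ g = f :=
  ((bijective_iff Y N).mp (h.2.2.2.2 Y hY)).2 f

end K490.GenRes
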