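import Groth.Agent.Neron.K485.DvrPow

/-!
# Interface for S13761: points of a semi-abelian scheme up to torsion

`PhiStmt`: `O → O2` strictly henselian regular local rings of residue characteristic zero, `x ∈ m ∖ m²` with image in
`m2 ∖ m2²`, `𝒜` semi-abelian over `O` and proper over `O[1/x]`: every point of `𝒜` over `O2[1/x]` is the product of a
point over `O2` and a torsion point over `O[1/x]`.
-/

set_option autoImplicit false
universe u

open CategoryTheory Limits AlgebraicGeometry MonoidalCategory CartesianMonoidalCategory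
open scoped MonObj

namespace K490.PhiIface

open K485.DvrPow

/-- The statement (Phi). -/
def PhiStmt : Prop :=
  ∀ (O O2 C C2 : Type u) [CommRing O] [IsRegularLocalRing O] [HenselianLocalRing O]
    [CharZero (IsLocalRing.ResidueField O)] [IsSepClosed (IsLocalRing.ResidueField O)]
    [CommRing O2] [IsRegularLocalRing O2] [HenselianLocalRing O2]
    [CharZero (IsLocalRing.ResidueField O2)] [IsSepClosed (IsLocalRing.ResidueField O2)]
    (j : O →+* O2) (x : O)
    (_ : x ∈ IsLocalRing.maximalIdeal O) (_ : x ∉ IsLocalRing.maximalIdeal O ^ 2)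
    (_ : j x ∈ IsLocalRing.maximalIdeal O2) (_ : j x ∉ IsLocalRing.maximalIdeal O2 ^ 2)
    [CommRing C] [Algebra O C] [IsLocalization.Away x C]
    [CommRing C2] [Algebra O2 C2] [IsLocalization.Away (j x) C2]
    (k : C →+* C2) (hk : k.comp (algebraMap O C) = (algebraMap O2 C2).comp j)
    (𝒜 : Over (Spec (CommRingCat.of O))) [GrpObj 𝒜] [IsCommMonObj 𝒜] [Smooth 𝒜.hom]
    [IsSeparated 𝒜.hom] [QuasiCompact 𝒜.hom]
    (_ : SGA7.FibresUnipotentRankZero 𝒜)
    (_ : ∀ (L : Type u) [Field L] (t : Spec (CommRingCat.of L) ⟶ Spec (CommRingCat.of O)),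
      ConnectedSpace ↑(pullback 𝒜.hom t))
    (_ : IsProper (pullback.snd 𝒜.hom (Spec.map (CommRingCat.ofHom (algebraMap O C)))))
    (φ : pt ((algebraMap O2 C2).comp j) ⟶ 𝒜),
    ∃ (ψ : pt j ⟶ 𝒜) (τ : pt (algebraMap O C) ⟶ 𝒜) (m : ℕ), 0 < m ∧ τ ^ m = 1 ∧
      φ = ((Over.homMk (Spec.map (CommRingCat.ofHom (algebraMap O2 C2))) (by
            simp only [Over.mk_hom, ← Spec.map_comp, ← CommRingCat.ofHom_comp])) ≫ ψ) *
          ((Over.homMk (Spec.map (CommRingCat.ofHom k)) (by
            simp only [Over.mk_hom, ← Spec.map_comp, ← CommRingCat.ofHom_comp, hk])) ≫ τ)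

end K490.PhiIface
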