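import Groth.Agent.S5687
import Groth.Agent.Fga.EulerLEAdd
import Groth.Agent.Etcore.DimBaseChange

/-!
# Smoothness of the Picard scheme of a curve

`f : X ⟶ S` proper and flat with fibres of dimension at most one, `P` representing the étale-sheafified relative
Picard functor, locally of finite type: then `P` is smooth.
-/

set_option autoImplicit false
universe u
open CategoryTheory CategoryTheory.Limits AlgebraicGeometry MonObj MonoidalCategory CartesianMonoidalCategory

namespace K490.PicSm

/-- The Picard scheme of a family of curves is smooth. -/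
theorem smooth_of_fibres {X S : Scheme.{u}} [IsLocallyNoetherian S] (f : X ⟶ S) [IsProper f] [Flat f]
    (hdim : ∀ s : S, topologicalKrullDim ↥(pullback f (S.fromSpecResidueField s)) ≤ 1)
    (P : Over S) [LocallyOfFiniteType P.hom] (hP : PicRel.RepresentedBy f P) : Smooth P.hom := by
  have key : ∀ s : S, ∃ U : S.Opens, s ∈ U ∧ Smooth ((P.hom ⁻¹ᵁ U).ι ≫ P.hom) := by
    intro s
    refine Groth.Agent.S5687.result f P hP s ?_
    have hn : IsNoetherianRing (S.residueField s) := inferInstance
    have hln : IsLocallyNoetherian (pullback f (S.fromSpecResidueField s)) :=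
      LocallyOfFiniteType.isLocallyNoetherian (pullback.snd f (S.fromSpecResidueField s))
    have hc : CompactSpace ↥(pullback f (S.fromSpecResidueField s)) :=
      QuasiCompact.compactSpace_of_compactSpace (pullback.snd f (S.fromSpecResidueField s))
    have hN : IsNoetherian (pullback f (S.fromSpecResidueField s)) := {}
    exact Groth.Agent.Fga.EulerLEAdd.subsingleton_HH _ 1 (by exact_mod_cast hdim s) _ 2 (by norm_num)
  choose U hsU hU using key
  have hcov : (⨆ s, U s) = ⊤ := by
    ext s
    simp only [TopologicalSpace.Opens.coe_iSup, Set.mem_iUnion, SetLike.mem_coe, TopologicalSpace.Opens.coe_top,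
      Set.mem_univ, iff_true]
    exact ⟨s, hsU s⟩
  refine (IsZariskiLocalAtSource.iff_of_iSup_eq_top (P := @Smooth) (f := P.hom) (fun s => P.hom ⁻¹ᵁ U s) ?_).mpr ?_
  · rw [← Scheme.Hom.preimage_iSup, hcov]
    rfl
  · intro s
    exact hU s

/-- The Picard scheme of a proper scheme of dimension at most one over a field is smooth. -/
theorem smooth_of_dim_le_one {K : CommRingCat.{u}} (hK : IsField K) {X : Scheme.{u}}
    (f : X ⟶ Spec K) [IsProper f] (hdim : topologicalKrullDim X ≤ 1)
    (P : Over (Spec K)) [LocallyOfFiniteType P.hom] (hP : PicRel.RepresentedBy f P) : Smooth P.hom := by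
  have hn : IsNoetherianRing K := by
    let _ : Field K := hK.toField
    exact (inferInstance : IsNoetherianRing (CommRingCat.of K))
  have hfl : Flat f := by
    let _ : Field K := hK.toField
    exact (inferInstance : Flat (show X ⟶ Spec (CommRingCat.of K) from f))
  refine smooth_of_fibres f (fun s => ?_) P hP
  have h1 := Groth.Agent.Etcore.DimBaseChange.topologicalKrullDim_eq (K := K) (L := (Spec K).residueField s) hK
    (Field.toIsField _) f (pullback.snd f ((Spec K).fromSpecResidueField s)) (pullback.fst _ _)
    ((Spec K).fromSpecResidueField s) (IsPullback.of_hasPullback _ _)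
  rw [h1]
  exact hdim

end K490.PicSm
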