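import Groth.Agent.Neron.K490.SecUnit
import Groth.Agent.Neron.K490.DualIsog
import Groth.Agent.Neron.K489.GenExt

/-!
# Extensions of a group killed by a power of `p` by a subgroup, and Néron models

`0 → E → P → V → 0` commutative over a field with `V` killed by `p ^ N`.
* `exists_f` : `f : P ⟶ E` with `f ≫ jE = p ^ N` and `jE ≫ f = p ^ N`.
* `exists_lift_of_pow` : torsion points of `P` of order prime to `p` come from `E`.
-/

set_option autoImplicit false
set_option linter.unusedSectionVars false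
set_option linter.unusedVariables false
universe v u
open CategoryTheory MonoidalCategory CartesianMonoidalCategory MonObj GrpObj AlgebraicGeometry Limits

namespace K490.PseudoNeron

section cat

variable {C : Type u} [Category.{v} C] [CartesianMonoidalCategory C]

theorem comp_id_pow {T P : C} [GrpObj P] (t : T ⟶ P) (n : ℕ) : t ≫ (𝟙 P) ^ n = t ^ n := by
  rw [MonObj.comp_pow, Category.comp_id]

theorem id_pow_comp {P V : C} [GrpObj P] [GrpObj V] (f : P ⟶ V) [IsMonHom f] (n : ℕ) :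
    ((𝟙 P) ^ n) ≫ f = f ^ n := by
  rw [MonObj.pow_comp, Category.id_comp]

variable {E P V : C} [GrpObj E] [GrpObj P] [GrpObj V] (jE : E ⟶ P) [IsMonHom jE] (πV : P ⟶ V)
  [IsMonHom πV] (hker : IsPullback jE (toUnit E) πV η[V])

include hker

theorem mono_of_isKernel : Mono jE :=
  ⟨fun a b h => hker.hom_ext h (toUnit_unique _ _)⟩

theorem exists_lift {T : C} (t : T ⟶ P) (ht : t ≫ πV = 1) : ∃ s : T ⟶ E, s ≫ jE = t :=
  ⟨hker.lift t (toUnit T) (by rw [ht]; rfl), hker.lift_fst _ _ _⟩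

/-- The homomorphism `P ⟶ E` factoring multiplication by an integer killing `V`. -/
theorem exists_f (q : ℕ) (hV : (𝟙 V : V ⟶ V) ^ q = 1) :
    ∃ f : P ⟶ E, f ≫ jE = (𝟙 P) ^ q ∧ jE ≫ f = (𝟙 E) ^ q ∧ ∀ T : C, (1 : T ⟶ P) ≫ f = 1 := by
  have hm := mono_of_isKernel jE πV hker
  obtain ⟨f, hf⟩ := exists_lift jE πV hker ((𝟙 P) ^ q) (by
    rw [id_pow_comp, ← comp_id_pow, hV, MonObj.comp_one])
  refine ⟨f, hf, ?_, fun T => ?_⟩
  · rw [← cancel_mono jE, Category.assoc, hf, comp_id_pow, id_pow_comp]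
  · rw [← cancel_mono jE, Category.assoc, hf, comp_id_pow, one_pow, MonObj.one_comp]

/-- Torsion points of order prime to `q` lift. -/
theorem exists_lift_of_pow (q : ℕ) (hV : (𝟙 V : V ⟶ V) ^ q = 1) (n : ℕ) (hn : n.Coprime q) {T : C}
    (t : T ⟶ P) (ht : t ^ n = 1) : ∃ s : T ⟶ E, s ≫ jE = t ∧ s ^ n = 1 := by
  have hm := mono_of_isKernel jE πV hker
  have h1 : (t ≫ πV) ^ n = 1 := by rw [← MonObj.pow_comp, ht, MonObj.one_comp]
  have h2 : (t ≫ πV) ^ q = 1 := by rw [← comp_id_pow, hV, MonObj.comp_one]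
  have h3 : t ≫ πV = 1 := by
    have := K490.SecUnit.mem_of_coprime_pow (⊥ : Subgroup (T ⟶ V)) (x := t ≫ πV) hn
      (by rw [Subgroup.mem_bot]; exact h1) (by rw [Subgroup.mem_bot]; exact h2)
    exact Subgroup.mem_bot.mp this
  obtain ⟨s, hs⟩ := exists_lift jE πV hker t h3
  refine ⟨s, hs, ?_⟩
  rw [← cancel_mono jE, MonObj.pow_comp, hs, ht, MonObj.one_comp]

end cat

attribute [local instance] Functor.grpObjObj

section neron

variable {R K : Type u} [CommRing R] [IsDomain R] [Field K] [Algebra R K] [IsFractionRing R K]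

theorem map_pow' {X G : Over (Spec (CommRingCat.of R))} [GrpObj G] (x : X ⟶ G) (n : ℕ) :
    (SGA7.genFib R K).map (x ^ n) = ((SGA7.genFib R K).map x) ^ n :=
  map_pow (Functor.homMonoidHom (SGA7.genFib R K) (X := X) (M := G)) x n

theorem map_one' {X G : Over (Spec (CommRingCat.of R))} [GrpObj G] :
    (SGA7.genFib R K).map (1 : X ⟶ G) = 1 :=
  map_one (Functor.homMonoidHom (SGA7.genFib R K) (X := X) (M := G))

variable {E P V : Over (Spec (CommRingCat.of K))} [GrpObj E] [GrpObj P] [GrpObj V] (jE : E ⟶ P)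
  [IsMonHom jE] (πV : P ⟶ V) [IsMonHom πV] (hker : IsPullback jE (toUnit E) πV η[V])
  (q : ℕ) (hV : (𝟙 V : V ⟶ V) ^ q = 1)
  {B N : Over (Spec (CommRingCat.of R))} [GrpObj B] [GrpObj N]
  (hB : ∀ Y : Over (Spec (CommRingCat.of R)), Smooth Y.hom → Function.Bijective (fun g : Y ⟶ B => (SGA7.genFib R K).map g))
  (hN : ∀ Y : Over (Spec (CommRingCat.of R)), Smooth Y.hom → Function.Bijective (fun g : Y ⟶ N => (SGA7.genFib R K).map g))
  (eB : (SGA7.genFib R K).obj B ≅ E) [IsMonHom eB.hom] (eN : (SGA7.genFib R K).obj N ≅ P) [IsMonHom eN.hom]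

include hker hV hB hN eB eN

/-- The maps between Néron models of `E` and `P`. -/
theorem exists_neron (hBs : Smooth B.hom) (hNs : Smooth N.hom) (g : B ⟶ N)
    (hg : (SGA7.genFib R K).map g ≫ eN.hom = eB.hom ≫ jE) :
    ∃ F : N ⟶ B, η[N] ≫ F = η[B] ∧ η[B] ≫ g = η[N] ∧ g ≫ F = (𝟙 B) ^ q ∧ F ≫ g = (𝟙 N) ^ q := by
  have hm := mono_of_isKernel jE πV hker
  obtain ⟨f, hf1, hf2, hf3⟩ := exists_f jE πV hker q hV
  obtain ⟨F, hF⟩ := (hB N hNs).2 (eN.hom ≫ f ≫ eB.inv)
  have hF' : (SGA7.genFib R K).map F = eN.hom ≫ f ≫ eB.inv := hF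
  have hBinv : IsMonHom eB.inv := inferInstance
  have hNinv : IsMonHom eN.inv := inferInstance
  have hsmU : Smooth (𝟙_ (Over (Spec (CommRingCat.of R)))).hom := by
    rw [Over.tensorUnit_hom]
    exact (inferInstance : Smooth (𝟙 (Spec (CommRingCat.of R))))
  refine ⟨F, ?_, ?_, ?_, ?_⟩
  · apply (hB _ hsmU).1
    change (SGA7.genFib R K).map (η[N] ≫ F) = (SGA7.genFib R K).map η[B]
    rw [MonObj.one_eq_one, MonObj.one_eq_one, Functor.map_comp, hF', map_one', map_one',
      MonObj.one_comp_assoc, ← Category.assoc, hf3, MonObj.one_comp]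
  · apply (hN _ hsmU).1
    change (SGA7.genFib R K).map (η[B] ≫ g) = (SGA7.genFib R K).map η[N]
    rw [← cancel_mono eN.hom, MonObj.one_eq_one, MonObj.one_eq_one, Functor.map_comp, Category.assoc, hg,
      map_one', map_one', MonObj.one_comp_assoc, MonObj.one_comp, MonObj.one_comp]
  · apply (hB _ hBs).1
    change (SGA7.genFib R K).map (g ≫ F) = (SGA7.genFib R K).map ((𝟙 B) ^ q)
    rw [Functor.map_comp, hF', map_pow', CategoryTheory.Functor.map_id, reassoc_of% hg, reassoc_of% hf2, id_pow_comp]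
    rw [MonObj.comp_pow, Iso.hom_inv_id]
  · apply (hN _ hNs).1
    change (SGA7.genFib R K).map (F ≫ g) = (SGA7.genFib R K).map ((𝟙 N) ^ q)
    rw [← cancel_mono eN.hom, Functor.map_comp, hF', map_pow', CategoryTheory.Functor.map_id, Category.assoc, Category.assoc,
      Category.assoc, hg, Iso.inv_hom_id_assoc, hf1, id_pow_comp, comp_id_pow]

end neron

section sections

open K490.SecUnit

variable {R K : Type u} [CommRing R] [IsDomain R] [IsDiscreteValuationRing R] [HenselianLocalRing R]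
  [IsSepClosed (IsLocalRing.ResidueField R)] [Field K] [Algebra R K] [IsFractionRing R K]

variable {E P V : Over (Spec (CommRingCat.of K))} [GrpObj E] [GrpObj P] [GrpObj V] (jE : E ⟶ P)
  [IsMonHom jE] (πV : P ⟶ V) [IsMonHom πV] (hker : IsPullback jE (toUnit E) πV η[V])
  (q : ℕ) (hV : (𝟙 V : V ⟶ V) ^ q = 1)
  {B N : Over (Spec (CommRingCat.of R))} [GrpObj B] [GrpObj N]
  (hB : ∀ Y : Over (Spec (CommRingCat.of R)), Smooth Y.hom →
    Function.Bijective (fun g : Y ⟶ B => (SGA7.genFib R K).map g))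
  (hN : ∀ Y : Over (Spec (CommRingCat.of R)), Smooth Y.hom →
    Function.Bijective (fun g : Y ⟶ N => (SGA7.genFib R K).map g))
  (eB : (SGA7.genFib R K).obj B ≅ E) [IsMonHom eB.hom] (eN : (SGA7.genFib R K).obj N ≅ P) [IsMonHom eN.hom]

include hker hV hB hN

/-- `S17702`: if the special fibre of the Néron model of `E` is connected then the component group of
that of `P` is killed by `q`. -/
theorem pow_mem_secUnitComp (hBs : Smooth B.hom) (hNs : Smooth N.hom) (g : B ⟶ N)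
    (hg : (SGA7.genFib R K).map g ≫ eN.hom = eB.hom ≫ jE)
    (hconn : ∀ x : 𝟙_ (Over (Spec (CommRingCat.of R))) ⟶ B, x ∈ SGA7.secUnitComp R B)
    (x : 𝟙_ (Over (Spec (CommRingCat.of R))) ⟶ N) : x ^ q ∈ SGA7.secUnitComp R N := by
  obtain ⟨F, hF1, hg1, hgF, hFg⟩ := exists_neron jE πV hker q hV hB hN eB eN hBs hNs g hg
  rw [← comp_id_pow, ← hFg, ← Category.assoc]
  exact map_mem g hg1 (hconn _)

/-- `S17705` (a) -/
theorem mem_of_map_mem (hBs : Smooth B.hom) (hNs : Smooth N.hom) (g : B ⟶ N)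
    (hg : (SGA7.genFib R K).map g ≫ eN.hom = eB.hom ≫ jE) (l : ℕ) (hl : l.Coprime q)
    (x : 𝟙_ (Over (Spec (CommRingCat.of R))) ⟶ B) (hx : x ^ l ∈ SGA7.secUnitComp R B)
    (hx' : x ≫ g ∈ SGA7.secUnitComp R N) : x ∈ SGA7.secUnitComp R B := by
  obtain ⟨F, hF1, hg1, hgF, hFg⟩ := exists_neron jE πV hker q hV hB hN eB eN hBs hNs g hg
  have h1 : x ^ q ∈ SGA7.secUnitComp R B := by
    rw [← comp_id_pow, ← hgF, ← Category.assoc]
    exact map_mem F hF1 hx'
  exact mem_of_coprime_pow (unitSub B) hl hx h1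

/-- `S17705` (b) -/
theorem exists_of_pow_mem (hNs : Smooth N.hom) (hNq : QuasiCompact N.hom) (hNc : IsCommMonObj N) (g : B ⟶ N)
    (hg : (SGA7.genFib R K).map g ≫ eN.hom = eB.hom ≫ jE) (l : ℕ) (hl : l.Coprime q)
    (hlu : IsUnit (l : R))
    (y : 𝟙_ (Over (Spec (CommRingCat.of R))) ⟶ N) (hy : y ^ l ∈ SGA7.secUnitComp R N) :
    ∃ x : 𝟙_ (Over (Spec (CommRingCat.of R))) ⟶ B, x ^ l = 1 ∧ y * (x ≫ g)⁻¹ ∈ SGA7.secUnitComp R N := by
  have hm := mono_of_isKernel jE πV hker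
  have hR : EtCoh.IsStrictlyHenselianLocalRing R := ⟨inferInstance, inferInstance⟩
  have het : Etale (𝟙 N ^ l).left := Groth.Agent.Sga7.H751.PowEtale.etale_pow N l fun s =>
    K490.DualIsog.natCast_residueField_ne_zero hlu s
  obtain ⟨w, hw, hwl⟩ := Groth.Agent.Sga7.H751.SecRoot.exists_root_mem_secUnitComp N hR l _ hy
  let t := y * w⁻¹
  have ht : t ^ l = 1 := by
    have hc : Commute y w⁻¹ := by
      have : y * w⁻¹ = w⁻¹ * y := Hom.commGroup.mul_comm _ _
      exact this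
    change (y * w⁻¹) ^ l = 1
    rw [hc.mul_pow, inv_pow, hwl, mul_inv_cancel]
  have hsmU : Smooth (𝟙_ (Over (Spec (CommRingCat.of R)))).hom := by
    rw [Over.tensorUnit_hom]
    exact (inferInstance : Smooth (𝟙 (Spec (CommRingCat.of R))))
  let tK := (SGA7.genFib R K).map t ≫ eN.hom
  have htK : tK ^ l = 1 := by
    change ((SGA7.genFib R K).map t ≫ eN.hom) ^ l = 1
    rw [← MonObj.pow_comp, ← map_pow', ht, map_one', MonObj.one_comp]
  obtain ⟨s, hs1, hs2⟩ := exists_lift_of_pow jE πV hker q hV l hl tK htK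
  obtain ⟨x, hx⟩ := (hB _ hsmU).2 (s ≫ eB.inv)
  have hx' : (SGA7.genFib R K).map x = s ≫ eB.inv := hx
  have hBinv : IsMonHom eB.inv := inferInstance
  refine ⟨x, ?_, ?_⟩
  · apply (hB _ hsmU).1
    change (SGA7.genFib R K).map (x ^ l) = (SGA7.genFib R K).map 1
    rw [map_pow', hx', map_one', ← MonObj.pow_comp, hs2, MonObj.one_comp]
  · have h1 : x ≫ g = t := by
      apply (hN _ hsmU).1
      change (SGA7.genFib R K).map (x ≫ g) = (SGA7.genFib R K).map t
      rw [← cancel_mono eN.hom, CategoryTheory.Functor.map_comp, hx', Category.assoc, Category.assoc, hg,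
        Iso.inv_hom_id_assoc, hs1]
    rw [h1]
    have h2 : y * t⁻¹ = w := by
      have hc : y * w⁻¹ = w⁻¹ * y := Hom.commGroup.mul_comm _ _
      change y * (y * w⁻¹)⁻¹ = w
      rw [hc, _root_.mul_inv_rev, _root_.inv_inv, mul_inv_cancel_left]
    rw [h2]
    exact hw

end sections

end K490.PseudoNeron
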