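import Groth.Agent.Neron.K490.TorsNeron
import Groth.Agent.Sga7.H761.BaseChg
import Groth.Agent.Dix.NeronEllPts
import Groth.Agent.Etrest.SHPoint

/-!
# Torsion points over separably closed and algebraically closed fields
-/

set_option autoImplicit false
universe v u
open CategoryTheory MonoidalCategory CartesianMonoidalCategory MonObj GrpObj AlgebraicGeometry Limits

namespace K490.PtsBc

open K490.PseudoNeron K490.TorsNeron

attribute [local instance] Functor.grpObjObj

section general

variable {S S' : Scheme.{u}} (f : S' ⟶ S) (A : Over S) [GrpObj A]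

/-- Points of the base change. -/
noncomputable def ptsEquiv (T : Over S') : (T ⟶ (Over.pullback f).obj A) ≃* ((Over.map f).obj T ⟶ A) :=
  MulEquiv.mk' ((Over.mapPullbackAdj f).homEquiv T A).symm
    (fun a b => Groth.Agent.Sga67.TorsionLift.homEquiv_symm_mul _ a b)

/-- Precomposition with an isomorphism. -/
def preEquiv {X Y : Over S} (e : X ≅ Y) : (Y ⟶ A) ≃* (X ⟶ A) where
  toFun f := e.hom ≫ f
  invFun f := e.inv ≫ f
  left_inv f := e.inv_hom_id_assoc f
  right_inv f := e.hom_inv_id_assoc f
  map_mul' a b := MonObj.comp_mul e.hom a b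

theorem card_congr {X : Type u} {Y : Type u} [Group X] [Group Y] (e : X ≃* Y) (n : ℕ) :
    Nat.card {x : X // x ^ n = 1} = Nat.card {y : Y // y ^ n = 1} := by
  refine Nat.card_congr (Equiv.subtypeEquiv e.toEquiv fun w => ?_)
  change w ^ n = 1 ↔ (e w) ^ n = 1
  rw [← map_pow, MulEquiv.map_eq_one_iff]

theorem card_bc (n : ℕ) (T : Over S') (T₀ : Over S) (e : T₀ ≅ (Over.map f).obj T) :
    Nat.card {x : T ⟶ (Over.pullback f).obj A // x ^ n = 1} = Nat.card {y : T₀ ⟶ A // y ^ n = 1} :=
  card_congr ((ptsEquiv f A T).trans (preEquiv A e)) n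

end general

/-- Torsion of order invertible on the base does not change under universal homeomorphisms of the base. -/
theorem card_univHomeo {S S' : Scheme.{u}} (f : S' ⟶ S) [IsIntegralHom f] [UniversallyInjective f]
    [Surjective f] (G : Over S) [GrpObj G] [IsCommMonObj G] [Smooth G.hom] (n : ℕ)
    (hn : ∀ s : S, (n : S.residueField s) ≠ 0) (T : Over S) :
    Nat.card {x : T ⟶ G // x ^ n = 1} =
      Nat.card {x : (Over.pullback f).obj T ⟶ (Over.pullback f).obj G // x ^ n = 1} := by
  obtain ⟨D, j, hD, hjn, hjm, hjk, hjl⟩ := exists_torsion G n hn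
  have hb := Groth.Agent.S0076.result f D T
  have hk := (Groth.Agent.Sga7.H760.KerBc.isKernel_iff _ _).mp (Groth.Agent.Sga7.H760.KerBc.isKernel_bc f hjk)
  have hmono : Mono ((Over.pullback f).map j) := inferInstance
  refine Nat.card_congr (Equiv.ofBijective (fun x => ⟨(Over.pullback f).map x.1, ?_⟩) ⟨?_, ?_⟩)
  · rw [← map_pow_pb, x.2, map_one_pb]
  · intro x y hxy
    have h1 : (Over.pullback f).map x.1 = (Over.pullback f).map y.1 := congrArg Subtype.val hxy
    obtain ⟨u, hu⟩ := hjl T x.1 x.2
    obtain ⟨v, hv⟩ := hjl T y.1 y.2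
    have h2 : u = v := by
      apply hb.1
      change (Over.pullback f).map u = (Over.pullback f).map v
      rw [← cancel_mono ((Over.pullback f).map j), ← Functor.map_comp, ← Functor.map_comp, hu, hv, h1]
    exact Subtype.ext (by rw [← hu, ← hv, h2])
  · intro y
    obtain ⟨w, hw, -⟩ := hk.2 _ y.1 (by
      have := map_pow_pb f (𝟙 G) n
      rw [CategoryTheory.Functor.map_id] at this
      erw [this]
      rw [comp_id_pow]
      exact y.2)
    obtain ⟨t, ht⟩ := hb.2 w
    have ht' : (Over.pullback f).map t = w := ht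
    refine ⟨⟨t ≫ j, by rw [← MonObj.comp_pow, hjn, MonObj.comp_one]⟩, Subtype.ext ?_⟩
    change (Over.pullback f).map (t ≫ j) = y.1
    rw [Functor.map_comp, ht', hw]

end K490.PtsBc
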