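import Groth.Agent.Neron.K491.AsQuot
import Mathlib.CategoryTheory.Monoidal.Cartesian.Grp

/-!
# Algebraic space quotients by translations: the étale equivalence relation

`Data S`: a commutative smooth group scheme `AA` over `S`, a subterminal `US` (an open subscheme), an étale cover `E`
of `S` with a section `a` of `AA` over `E ×_S US`, the part `V` of `E ×_S E` over which the difference of the two
pullbacks of `a` extends to a section `c` of `AA`. The pairs `(x, e)` of a point of `AA` and a point of `E` modulo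
`(x, e) ~ (x c(e, e'), e')` form an étale equivalence relation.
-/

set_option autoImplicit false
universe u

open CategoryTheory CategoryTheory.Limits AlgebraicGeometry Opposite AlgSp K613.Basic K613.Cover
open scoped MonObj

namespace K490.Quo

/-- The formal data. -/
structure Data (S : Scheme.{u}) where
  US : Over S
  et_US : Etale US.hom
  sub : ∀ {T : Over S} (a b : T ⟶ US), a = b
  AA : Over S
  [grp : GrpObj AA]
  [comm : IsCommMonObj AA]
  smooth_AA : Smooth AA.hom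
  E : Over S
  et : Etale E.hom
  surj : Surjective E.hom
  a : E ⨯ US ⟶ AA
  V : Over S
  et_V : Etale V.hom
  v1 : V ⟶ E
  v2 : V ⟶ E
  c : V ⟶ AA
  v_inj : ∀ {T : Over S} (p q : T ⟶ V), p ≫ v1 = q ≫ v1 → p ≫ v2 = q ≫ v2 → p = q
  c_spec : (prod.fst ≫ c : V ⨯ US ⟶ AA) * (prod.lift (prod.fst ≫ v2) prod.snd ≫ a) =
    prod.lift (prod.fst ≫ v1) prod.snd ≫ a
  key : ∀ (T : Over S) (_ : Smooth T.hom) (e e' : T ⟶ E) (g : T ⟶ AA),
    (prod.fst ≫ g : T ⨯ US ⟶ AA) * (prod.lift (prod.fst ≫ e') prod.snd ≫ a) =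
      prod.lift (prod.fst ≫ e) prod.snd ≫ a → ∃ p : T ⟶ V, p ≫ v1 = e ∧ p ≫ v2 = e'
  dense : ∀ (T : Over S) (_ : Smooth T.hom) (g g' : T ⟶ AA),
    (prod.fst ≫ g : T ⨯ US ⟶ AA) = prod.fst ≫ g' → g = g'
  univ : ∀ (T : Over S) (_ : Smooth T.hom) (φ : T ⨯ US ⟶ AA),
    ∃ (T' : Over S) (t : T' ⟶ T) (_ : EtC t) (e : T' ⟶ E) (ψ : T' ⟶ AA),
      prod.map t (𝟙 US) ≫ φ = (prod.fst ≫ ψ) * (prod.map e (𝟙 US) ≫ a)
  closed : IsClosedImmersion (prod.lift c (prod.lift v1 v2)).left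

namespace Data

variable {S : Scheme.{u}} (D : Data S)

attribute [local instance] grp comm smooth_AA et surj et_V closed

/-- The section `a` on points. -/
noncomputable def α {T : Over S} (e : T ⟶ D.E) (u : T ⟶ D.US) : T ⟶ D.AA := prod.lift e u ≫ D.a

lemma comp_α {T T' : Over S} (t : T' ⟶ T) (e : T ⟶ D.E) (u : T ⟶ D.US) :
    t ≫ D.α e u = D.α (t ≫ e) (t ≫ u) := by
  rw [α, α, ← Category.assoc, prod.comp_lift]

lemma c_α {T : Over S} (p : T ⟶ D.V) (u : T ⟶ D.US) :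
    (p ≫ D.c) * D.α (p ≫ D.v2) u = D.α (p ≫ D.v1) u := by
  have h := congrArg (fun w => prod.lift p u ≫ w) D.c_spec
  simp only [MonObj.comp_mul, ← Category.assoc, prod.comp_lift, prod.lift_fst, prod.lift_snd] at h
  exact h

lemma isPullback_prod (X Y : Over S) :
    IsPullback (prod.fst : X ⨯ Y ⟶ X).left (prod.snd : X ⨯ Y ⟶ Y).left X.hom Y.hom :=
  K491.AsData.Data.isPullback_prod X Y

lemma isPullback_id_map {C : Type*} [Category* C] [HasBinaryProducts C] (A : C) {X Y : C} (f : X ⟶ Y) :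
    IsPullback (prod.snd : A ⨯ X ⟶ X) (prod.map (𝟙 A) f) f prod.snd :=
  (IsPullback.of_prod_fst_with_id f A).of_iso (prod.braiding _ _) (Iso.refl _)
      (prod.braiding _ _) (Iso.refl _) (by simp [prod.lift_snd]) (by simp) (by simp) (by simp [prod.lift_snd])

lemma etale_of_etale {X Y : Over S} (f : X ⟶ Y) (hX : Etale X.hom) (hY : Etale Y.hom) : Etale f.left := by
  have h : Etale (f.left ≫ Y.hom) := by rwa [Over.w f]
  exact Etale.of_comp f.left Y.hom

instance : Etale D.v1.left := etale_of_etale _ D.et_V D.et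
instance : Etale D.v2.left := etale_of_etale _ D.et_V D.et

lemma etale_prod {X Y : Over S} (hX : Etale X.hom) (hY : Etale Y.hom) : Etale (X ⨯ Y).hom := by
  have h : Etale (prod.fst : X ⨯ Y ⟶ X).left :=
    MorphismProperty.of_isPullback (P := @Etale) (isPullback_prod X Y).flip hY
  rw [← Over.w (prod.fst : X ⨯ Y ⟶ X)]
  infer_instance

lemma smooth_prod {X Y : Over S} (hX : Smooth X.hom) (hY : Smooth Y.hom) : Smooth (X ⨯ Y).hom := by
  have h : Smooth (prod.fst : X ⨯ Y ⟶ X).left :=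
    MorphismProperty.of_isPullback (P := @Smooth) (isPullback_prod X Y).flip hY
  rw [← Over.w (prod.fst : X ⨯ Y ⟶ X)]
  infer_instance

lemma etale_fst (X : Over S) : Etale (prod.fst : X ⨯ D.E ⟶ X).left :=
  MorphismProperty.of_isPullback (P := @Etale) (isPullback_prod X D.E).flip D.et

lemma surjective_fst (X : Over S) : Surjective (prod.fst : X ⨯ D.E ⟶ X).left :=
  MorphismProperty.of_isPullback (P := @Surjective) (isPullback_prod X D.E).flip D.surj

/-- The key lemma, with the value of `c`. -/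
lemma exists_V {T : Over S} (hT : Smooth T.hom) (e e' : T ⟶ D.E) (g : T ⟶ D.AA)
    (h : (prod.fst ≫ g : T ⨯ D.US ⟶ D.AA) * D.α (prod.fst ≫ e') prod.snd = D.α (prod.fst ≫ e) prod.snd) :
    ∃ p : T ⟶ D.V, p ≫ D.v1 = e ∧ p ≫ D.v2 = e' ∧ p ≫ D.c = g := by
  obtain ⟨p, hp1, hp2⟩ := D.key T hT e e' g h
  refine ⟨p, hp1, hp2, D.dense T hT _ _ ?_⟩
  have h1 := D.c_α ((prod.fst : T ⨯ D.US ⟶ T) ≫ p) prod.snd
  rw [Category.assoc, Category.assoc, Category.assoc, hp1, hp2, ← h] at h1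
  exact mul_right_cancel h1

lemma exists_refl {T : Over S} (e : T ⟶ D.E) :
    ∃ p : T ⟶ D.V, p ≫ D.v1 = e ∧ p ≫ D.v2 = e ∧ p ≫ D.c = 1 := by
  obtain ⟨p, h1, h2, h3⟩ := D.exists_V (T := D.E) (by have := D.et; infer_instance) (𝟙 _) (𝟙 _) 1 (by
    rw [MonObj.comp_one, one_mul])
  refine ⟨e ≫ p, ?_, ?_, ?_⟩
  · rw [Category.assoc, h1, Category.comp_id]
  · rw [Category.assoc, h2, Category.comp_id]
  · rw [Category.assoc, h3, MonObj.comp_one]

lemma exists_symm {T : Over S} (p : T ⟶ D.V) :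
    ∃ q : T ⟶ D.V, q ≫ D.v1 = p ≫ D.v2 ∧ q ≫ D.v2 = p ≫ D.v1 ∧ q ≫ D.c = (p ≫ D.c)⁻¹ := by
  obtain ⟨q, h1, h2, h3⟩ := D.exists_V (T := D.V) (by have := D.et_V; infer_instance) D.v2 D.v1 (D.c)⁻¹ (by
    rw [← D.c_α, GrpObj.comp_inv, inv_mul_cancel_left])
  refine ⟨p ≫ q, ?_, ?_, ?_⟩
  · rw [Category.assoc, h1]
  · rw [Category.assoc, h2]
  · rw [Category.assoc, h3, GrpObj.comp_inv]

lemma exists_trans {T : Over S} (p q : T ⟶ D.V) (h : p ≫ D.v2 = q ≫ D.v1) :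
    ∃ r : T ⟶ D.V, r ≫ D.v1 = p ≫ D.v1 ∧ r ≫ D.v2 = q ≫ D.v2 ∧ r ≫ D.c = (p ≫ D.c) * (q ≫ D.c) := by
  have hc : (pullback.fst D.v2 D.v1) ≫ D.v2 = pullback.snd D.v2 D.v1 ≫ D.v1 := pullback.condition
  have h0 : Etale (pullback.fst D.v2 D.v1).left :=
    MorphismProperty.of_isPullback (P := @Etale)
      ((IsPullback.of_hasPullback D.v2 D.v1).map (Over.forget S)).flip
      (inferInstanceAs (Etale D.v1.left))
  have hT : Smooth (pullback D.v2 D.v1).hom := by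
    rw [← Over.w (pullback.fst D.v2 D.v1)]
    have := D.et_V
    infer_instance
  obtain ⟨r, h1, h2, h3⟩ := D.exists_V hT (pullback.fst _ _ ≫ D.v1) (pullback.snd _ _ ≫ D.v2)
    ((pullback.fst _ _ ≫ D.c) * (pullback.snd _ _ ≫ D.c)) (by
      have e1 := D.c_α ((prod.fst : (pullback D.v2 D.v1) ⨯ D.US ⟶ _) ≫ pullback.snd _ _) prod.snd
      have e2 := D.c_α ((prod.fst : (pullback D.v2 D.v1) ⨯ D.US ⟶ _) ≫ pullback.fst _ _) prod.snd
      simp only [Category.assoc] at e1 e2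
      rw [MonObj.comp_mul, mul_assoc, e1, ← hc, e2])
  refine ⟨pullback.lift p q h ≫ r, ?_, ?_, ?_⟩
  · rw [Category.assoc, h1, pullback.lift_fst_assoc]
  · rw [Category.assoc, h2, pullback.lift_snd_assoc]
  · rw [Category.assoc, h3, MonObj.comp_mul, pullback.lift_fst_assoc, pullback.lift_snd_assoc]

/-- Over `US` the relation is everything. -/
lemma exists_res {T : Over S} (u : T ⟶ D.US) (e e' : T ⟶ D.E) :
    ∃ p : T ⟶ D.V, p ≫ D.v1 = e ∧ p ≫ D.v2 = e' ∧ (p ≫ D.c) * D.α e' u = D.α e u := by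
  have h0 : Etale (D.E ⨯ D.E).hom := etale_prod D.et D.et
  have h1 : Smooth ((D.E ⨯ D.E) ⨯ D.US).hom := by
    have := etale_prod h0 D.et_US
    infer_instance
  obtain ⟨r, h1, h2, h3⟩ := D.exists_V h1 (prod.fst ≫ prod.fst) (prod.fst ≫ prod.snd)
    (D.α (prod.fst ≫ prod.fst) prod.snd * (D.α (prod.fst ≫ prod.snd) prod.snd)⁻¹) (by
      rw [MonObj.comp_mul, GrpObj.comp_inv, comp_α, comp_α,
        D.sub (prod.fst ≫ prod.snd : ((D.E ⨯ D.E) ⨯ D.US) ⨯ D.US ⟶ _) prod.snd, inv_mul_cancel_right])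
  refine ⟨prod.lift (prod.lift e e') u ≫ r, ?_, ?_, ?_⟩
  · rw [Category.assoc, h1, prod.lift_fst_assoc, prod.lift_fst]
  · rw [Category.assoc, h2, prod.lift_fst_assoc, prod.lift_snd]
  · rw [Category.assoc, h3, MonObj.comp_mul, GrpObj.comp_inv, comp_α, comp_α, prod.lift_fst_assoc,
      prod.lift_fst_assoc, prod.lift_snd, prod.lift_fst, prod.lift_snd, inv_mul_cancel_right]

/-- The chart. -/
noncomputable abbrev X : Over S := D.AA ⨯ D.E

/-- The relation. -/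
noncomputable abbrev R : Over S := D.AA ⨯ D.V

/-- The source. -/
noncomputable def s : D.R ⟶ D.X := prod.map (𝟙 _) D.v1

/-- The target. -/
noncomputable def t : D.R ⟶ D.X := prod.lift (prod.fst * (prod.snd ≫ D.c)) (prod.snd ≫ D.v2)

lemma lift_s {T : Over S} (x : T ⟶ D.AA) (p : T ⟶ D.V) : prod.lift x p ≫ D.s = prod.lift x (p ≫ D.v1) := by
  rw [s, prod.lift_map, Category.comp_id]

lemma lift_t {T : Over S} (x : T ⟶ D.AA) (p : T ⟶ D.V) :
    prod.lift x p ≫ D.t = prod.lift (x * (p ≫ D.c)) (p ≫ D.v2) := by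
  rw [t, prod.comp_lift, MonObj.comp_mul, prod.lift_fst, prod.lift_snd_assoc, prod.lift_snd_assoc]

/-- Two points of the chart are related. -/
def Rel {T : Over S} (a b : T ⟶ D.X) : Prop :=
  ∃ p : T ⟶ D.V, p ≫ D.v1 = a ≫ prod.snd ∧ p ≫ D.v2 = b ≫ prod.snd ∧
    (a ≫ prod.fst) * (p ≫ D.c) = b ≫ prod.fst

lemma rel_iff {T : Over S} (a b : T ⟶ D.X) : D.Rel a b ↔ ∃ r : T ⟶ D.R, r ≫ D.s = a ∧ r ≫ D.t = b := by
  constructor
  · rintro ⟨p, h1, h2, h3⟩
    refine ⟨prod.lift (a ≫ prod.fst) p, ?_, ?_⟩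
    · rw [lift_s, h1]
      exact K491.AsData.prod_eta a
    · rw [lift_t, h2, h3]
      exact K491.AsData.prod_eta b
  · rintro ⟨r, rfl, rfl⟩
    obtain ⟨x, p, rfl⟩ : ∃ (x : T ⟶ D.AA) (p : T ⟶ D.V), r = prod.lift x p :=
      ⟨r ≫ prod.fst, r ≫ prod.snd, (K491.AsData.prod_eta r).symm⟩
    refine ⟨p, ?_, ?_, ?_⟩
    · rw [lift_s, prod.lift_snd]
    · rw [lift_t, prod.lift_snd]
    · rw [lift_s, lift_t, prod.lift_fst, prod.lift_fst]

lemma Rel.comp {T T' : Over S} {a b : T ⟶ D.X} (h : D.Rel a b) (t : T' ⟶ T) : D.Rel (t ≫ a) (t ≫ b) := by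
  obtain ⟨p, h1, h2, h3⟩ := h
  refine ⟨t ≫ p, ?_, ?_, ?_⟩
  · rw [Category.assoc, h1, Category.assoc]
  · rw [Category.assoc, h2, Category.assoc]
  · rw [Category.assoc, Category.assoc, ← MonObj.comp_mul, h3, Category.assoc]

lemma Rel.refl {T : Over S} (a : T ⟶ D.X) : D.Rel a a := by
  obtain ⟨p, h1, h2, h3⟩ := D.exists_refl (a ≫ prod.snd)
  exact ⟨p, h1, h2, by rw [h3, mul_one]⟩

lemma Rel.symm {T : Over S} {a b : T ⟶ D.X} (h : D.Rel a b) : D.Rel b a := by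
  obtain ⟨p, h1, h2, h3⟩ := h
  obtain ⟨q, h4, h5, h6⟩ := D.exists_symm p
  exact ⟨q, h4.trans h2, h5.trans h1, by rw [h6, ← h3, mul_inv_cancel_right]⟩

lemma Rel.trans {T : Over S} {a b c : T ⟶ D.X} (h : D.Rel a b) (h' : D.Rel b c) : D.Rel a c := by
  obtain ⟨p, h1, h2, h3⟩ := h
  obtain ⟨q, h4, h5, h6⟩ := h'
  obtain ⟨r, h7, h8, h9⟩ := D.exists_trans p q (h2.trans h4.symm)
  exact ⟨r, h7.trans h1, h8.trans h5, by rw [h9, ← mul_assoc, h3, h6]⟩

theorem isEqvRel : AlgSp.IsEqvRel D.t D.s where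
  injective T r r' h h' := by
    obtain ⟨x, p, rfl⟩ : ∃ (x : T ⟶ D.AA) (p : T ⟶ D.V), r = prod.lift x p :=
      ⟨r ≫ prod.fst, r ≫ prod.snd, (K491.AsData.prod_eta r).symm⟩
    obtain ⟨x', p', rfl⟩ : ∃ (x : T ⟶ D.AA) (p : T ⟶ D.V), r' = prod.lift x p :=
      ⟨r' ≫ prod.fst, r' ≫ prod.snd, (K491.AsData.prod_eta r').symm⟩
    rw [lift_s, lift_s] at h
    rw [lift_t, lift_t] at h'
    have e1 := congrArg (fun w => w ≫ prod.fst) h
    have e2 := congrArg (fun w => w ≫ prod.snd) h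
    have e3 := congrArg (fun w => w ≫ prod.snd) h'
    simp only [prod.lift_fst, prod.lift_snd] at e1 e2 e3
    rw [e1, D.v_inj p p' e2 e3]
  equivalence T :=
    { refl := fun a => (D.rel_iff a a).1 (Rel.refl D a)
      symm := fun {a b} h => (D.rel_iff b a).1 (Rel.symm D ((D.rel_iff a b).2 h))
      trans := fun {a b c} h h' =>
        (D.rel_iff a c).1 (Rel.trans D ((D.rel_iff a b).2 h) ((D.rel_iff b c).2 h')) }

/-- The symmetry of `V`. -/
noncomputable def inv : D.V ⟶ D.V := (D.exists_symm (𝟙 D.V)).choose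

lemma inv_v1 : D.inv ≫ D.v1 = D.v2 := by
  rw [inv, (D.exists_symm (𝟙 D.V)).choose_spec.1, Category.id_comp]

lemma inv_v2 : D.inv ≫ D.v2 = D.v1 := by
  rw [inv, (D.exists_symm (𝟙 D.V)).choose_spec.2.1, Category.id_comp]

lemma inv_c : D.inv ≫ D.c = (D.c)⁻¹ := by
  rw [inv, (D.exists_symm (𝟙 D.V)).choose_spec.2.2, Category.id_comp]

lemma inv_inv : D.inv ≫ D.inv = 𝟙 _ := by
  refine D.v_inj _ _ ?_ ?_
  · rw [Category.assoc, inv_v1, inv_v2, Category.id_comp]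
  · rw [Category.assoc, inv_v2, inv_v1, Category.id_comp]

/-- The symmetry of the relation. -/
noncomputable def τ : D.R ⟶ D.R := prod.lift (prod.fst * (prod.snd ≫ D.c)) (prod.snd ≫ D.inv)

lemma τ_s : D.τ ≫ D.s = D.t := by
  rw [τ, lift_s, Category.assoc, inv_v1, t]

lemma τ_τ : D.τ ≫ D.τ = 𝟙 _ := by
  apply Limits.prod.hom_ext
  · rw [Category.assoc, Category.id_comp]
    conv_lhs => rw [show D.τ ≫ prod.fst = prod.fst * (prod.snd ≫ D.c) from prod.lift_fst _ _]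
    rw [MonObj.comp_mul, show D.τ ≫ prod.fst = prod.fst * (prod.snd ≫ D.c) from prod.lift_fst _ _, ← Category.assoc,
      show D.τ ≫ prod.snd = prod.snd ≫ D.inv from prod.lift_snd _ _, Category.assoc, inv_c, GrpObj.comp_inv,
      mul_inv_cancel_right]
  · rw [Category.assoc, Category.id_comp]
    conv_lhs => rw [show D.τ ≫ prod.snd = prod.snd ≫ D.inv from prod.lift_snd _ _]
    rw [← Category.assoc, show D.τ ≫ prod.snd = prod.snd ≫ D.inv from prod.lift_snd _ _, Category.assoc, inv_inv,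
      Category.comp_id]

instance etale_s : Etale D.s.left :=
  MorphismProperty.of_isPullback (P := @Etale) ((isPullback_id_map D.AA D.v1).map (Over.forget S))
    (inferInstanceAs (Etale D.v1.left))

theorem isEtaleEqvRel : AlgSp.IsEtaleEqvRel D.t D.s where
  toIsEqvRel := D.isEqvRel
  etale_right := D.etale_s
  etale_left := by
    have hτ : IsIso D.τ := ⟨D.τ, D.τ_τ, D.τ_τ⟩
    have h1 : IsIso D.τ.left := (Over.forget S).map_isIso D.τ
    rw [← D.τ_s, Over.comp_left]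
    infer_instance

end Data

end K490.Quo
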