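import Groth.Agent.Neron.K490.QData

/-!
# Algebraic space quotients by translations: the quotient and its mapping property
-/

set_option autoImplicit false
universe u

open CategoryTheory CategoryTheory.Limits AlgebraicGeometry Opposite AlgSp K613.Basic K613.Cover
open scoped MonObj

namespace K490.Quo

open K491.AsData (prod_eta)

namespace Data

variable {S : Scheme.{u}} (D : Data S)

attribute [local instance] grp comm smooth_AA et surj et_V closed

/-- The quotient algebraic space. -/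
noncomputable def N : Sp S := QuotSh.quot Scheme.fppfPrecoverage D.t D.s

lemma isAlgSpace : IsAlgSpace D.N := Groth.Agent.S9868.result S _ _ D.isEtaleEqvRel

noncomputable def p : (yon S).obj D.X ⟶ D.N :=
  (QuotSh.repIsoUliftYoneda Scheme.fppfPrecoverage D.X).inv ≫
    QuotSh.quotπ Scheme.fppfPrecoverage D.t D.s

lemma pres : IsPresentation D.t D.s D.p :=
  Groth.Agent.S9869.result S _ _ D.isEtaleEqvRel D.isAlgSpace

lemma p_eq_iff {T : Over S} (a b : T ⟶ D.X) :
    (yon S).map a ≫ D.p = (yon S).map b ≫ D.p ↔ D.Rel a b := by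
  rw [rel_iff]
  constructor
  · intro h
    obtain ⟨r, hr⟩ := (yon S).map_surjective (D.pres.isPullback.lift _ _ h)
    refine ⟨r, (yon S).map_injective ?_, (yon S).map_injective ?_⟩
    · rw [Functor.map_comp, hr, D.pres.isPullback.lift_fst]
    · rw [Functor.map_comp, hr, D.pres.isPullback.lift_snd]
  · rintro ⟨r, rfl, rfl⟩
    rw [Functor.map_comp, Functor.map_comp, Category.assoc, Category.assoc, D.pres.isPullback.w]

lemma eSurj_p : ESurj D.p := ESurj.of_repWith D.pres.etale D.pres.surjective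

/-- Lifting a section of the quotient étale locally. -/
lemma exists_lift {T : Over S} (φ : (yon S).obj T ⟶ D.N) :
    ∃ (T' : Over S) (c : T' ⟶ T) (x : T' ⟶ D.X), EtC c ∧ (yon S).map x ≫ D.p = (yon S).map c ≫ φ := by
  obtain ⟨T', c, h, hc, hh⟩ := D.eSurj_p T φ
  obtain ⟨x, rfl⟩ := (yon S).map_surjective h
  exact ⟨T', c, x, hc, hh⟩

/-- Lifting two sections of the quotient étale locally. -/
lemma exists_lift₂ {T : Over S} (φ φ' : (yon S).obj T ⟶ D.N) :
    ∃ (T' : Over S) (c : T' ⟶ T) (x x' : T' ⟶ D.X), EtC c ∧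
      (yon S).map x ≫ D.p = (yon S).map c ≫ φ ∧ (yon S).map x' ≫ D.p = (yon S).map c ≫ φ' := by
  obtain ⟨T', c, x, hc, hx⟩ := D.exists_lift φ
  obtain ⟨T'', c', x', hc', hx'⟩ := D.exists_lift ((yon S).map c ≫ φ')
  refine ⟨T'', c' ≫ c, c' ≫ x, x', hc.comp hc', ?_, ?_⟩
  · rw [Functor.map_comp, Functor.map_comp, Category.assoc, Category.assoc, hx]
  · rw [hx', Functor.map_comp, Category.assoc]

lemma etC_fst (X : Over S) : EtC (prod.fst : X ⨯ D.E ⟶ X) := ⟨D.etale_fst X, D.surjective_fst X⟩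

/-- Maps to a subterminal object agree. -/
lemma yon_sub {F : Sp S} (a b : F ⟶ (yon S).obj D.US) : a = b := by
  refine K613.Basic.hom_ext fun T x => ?_
  obtain ⟨a', ha⟩ := (yon S).map_surjective (x ≫ a)
  obtain ⟨b', hb⟩ := (yon S).map_surjective (x ≫ b)
  rw [← ha, ← hb, D.sub a' b']

/-- The object `AA ×_S US`. -/
structure ASData where
  AS : Over S
  sA : AS ⟶ D.AA
  sU : AS ⟶ D.US
  inj : ∀ {T : Over S} (y y' : T ⟶ AS), y ≫ sA = y' ≫ sA → y = y'
  lift : ∀ {T : Over S} (_ : T ⟶ D.AA) (_ : T ⟶ D.US), (T ⟶ AS)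
  lift_sA : ∀ {T : Over S} (x : T ⟶ D.AA) (u : T ⟶ D.US), lift x u ≫ sA = x

variable (P : D.ASData)

/-- The point of `AS` defined by a point of the chart and a point of `US`. -/
noncomputable def rho {T : Over S} (u : T ⟶ D.US) (z : T ⟶ D.X) : T ⟶ P.AS :=
  P.lift ((z ≫ prod.fst) * D.α (z ≫ prod.snd) u) u

@[simp] lemma rho_sA {T : Over S} (u : T ⟶ D.US) (z : T ⟶ D.X) :
    D.rho P u z ≫ P.sA = (z ≫ prod.fst) * D.α (z ≫ prod.snd) u := P.lift_sA _ _

lemma comp_rho {T T' : Over S} (t : T' ⟶ T) (u : T ⟶ D.US) (z : T ⟶ D.X) :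
    t ≫ D.rho P u z = D.rho P (t ≫ u) (t ≫ z) := by
  apply P.inj
  rw [Category.assoc, rho_sA, rho_sA, MonObj.comp_mul, comp_α, Category.assoc, Category.assoc]

lemma rho_eq_iff {T : Over S} (u : T ⟶ D.US) (z z' : T ⟶ D.X) :
    D.rho P u z = D.rho P u z' ↔
      (z ≫ prod.fst) * D.α (z ≫ prod.snd) u = (z' ≫ prod.fst) * D.α (z' ≫ prod.snd) u := by
  rw [← rho_sA D P, ← rho_sA D P]
  exact ⟨fun h => by rw [h], fun h => P.inj _ _ h⟩

lemma rho_eq_of_rel {T : Over S} (u : T ⟶ D.US) {z z' : T ⟶ D.X} (h : D.Rel z z') :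
    D.rho P u z = D.rho P u z' := by
  obtain ⟨p, h1, h2, h3⟩ := h
  rw [rho_eq_iff, ← h1, ← h2, ← h3, ← D.c_α p u, mul_assoc]

lemma rel_of_rho_eq {T : Over S} (u : T ⟶ D.US) {z z' : T ⟶ D.X} (h : D.rho P u z = D.rho P u z') :
    D.Rel z z' := by
  obtain ⟨p, h1, h2, h3⟩ := D.exists_res u (z ≫ prod.snd) (z' ≫ prod.snd)
  refine ⟨p, h1, h2, ?_⟩
  rw [rho_eq_iff, ← h3, ← mul_assoc] at h
  exact mul_right_cancel h

lemma rel_of_smooth {T : Over S} (hT : Smooth T.hom) {z z' : T ⟶ D.X}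
    (h : D.rho P (prod.snd : T ⨯ D.US ⟶ D.US) (prod.fst ≫ z) = D.rho P prod.snd (prod.fst ≫ z')) :
    D.Rel z z' := by
  rw [rho_eq_iff, Category.assoc, Category.assoc, Category.assoc, Category.assoc] at h
  obtain ⟨p, h1, h2, h3⟩ := D.exists_V hT (z ≫ prod.snd) (z' ≫ prod.snd) ((z ≫ prod.fst)⁻¹ * (z' ≫ prod.fst)) (by
    rw [MonObj.comp_mul, GrpObj.comp_inv, mul_assoc, ← h, inv_mul_cancel_left])
  exact ⟨p, h1, h2, by rw [h3, mul_inv_cancel_left]⟩

/-- The chart of `N × h_U`. -/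
noncomputable def cc : (yon S).obj (D.X ⨯ D.US) ⟶ D.N ⨯ (yon S).obj D.US :=
  prod.lift ((yon S).map prod.fst ≫ D.p) ((yon S).map prod.snd)

/-- The morphism from the chart. -/
noncomputable def b : D.X ⨯ D.US ⟶ P.AS := D.rho P prod.snd prod.fst

lemma lift_b {T : Over S} (x : T ⟶ D.X) (u : T ⟶ D.US) : prod.lift x u ≫ D.b P = D.rho P u x := by
  rw [b, D.comp_rho, prod.lift_snd, prod.lift_fst]

lemma map_lift_cc {T : Over S} (x : T ⟶ D.X) (u : T ⟶ D.US) :
    (yon S).map (prod.lift x u) ≫ D.cc = prod.lift ((yon S).map x ≫ D.p) ((yon S).map u) := by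
  apply Limits.prod.hom_ext
  · rw [Category.assoc, cc, prod.lift_fst, prod.lift_fst, ← Category.assoc, ← Functor.map_comp,
      prod.lift_fst]
  · rw [Category.assoc, cc, prod.lift_snd, prod.lift_snd, ← Functor.map_comp, prod.lift_snd]

lemma eSurj_cc : ESurj D.cc := by
  intro T g
  obtain ⟨T', c', x, hc', hx⟩ := D.exists_lift (g ≫ prod.fst)
  obtain ⟨v, hv⟩ := (yon S).map_surjective (g ≫ prod.snd)
  refine ⟨T', c', (yon S).map (prod.lift x (c' ≫ v)), hc', ?_⟩
  rw [map_lift_cc]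
  apply Limits.prod.hom_ext
  · rw [prod.lift_fst, hx, Category.assoc]
  · rw [prod.lift_snd, Functor.map_comp, hv, Category.assoc]

lemma exists_eHom : ∃! y : D.N ⨯ (yon S).obj D.US ⟶ (yon S).obj P.AS, D.cc ≫ y = (yon S).map (D.b P) := by
  refine D.eSurj_cc.fSurj.desc _ fun R v v' h => ?_
  obtain ⟨v, rfl⟩ := (yon S).map_surjective v
  obtain ⟨v', rfl⟩ := (yon S).map_surjective v'
  obtain ⟨x, w, rfl⟩ : ∃ (x : R ⟶ D.X) (w : R ⟶ D.US), v = prod.lift x w :=
    ⟨v ≫ prod.fst, v ≫ prod.snd, (prod_eta v).symm⟩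
  obtain ⟨x', w', rfl⟩ : ∃ (x : R ⟶ D.X) (w : R ⟶ D.US), v' = prod.lift x w :=
    ⟨v' ≫ prod.fst, v' ≫ prod.snd, (prod_eta v').symm⟩
  rw [map_lift_cc, map_lift_cc] at h
  have h1 := congrArg (fun t => t ≫ prod.fst) h
  simp only [prod.lift_fst] at h1
  rw [p_eq_iff] at h1
  rw [← Functor.map_comp, ← Functor.map_comp, lift_b, lift_b, D.sub w w', D.rho_eq_of_rel P w' h1]

noncomputable def eHom : D.N ⨯ (yon S).obj D.US ⟶ (yon S).obj P.AS := (D.exists_eHom P).choose

lemma c_eHom : D.cc ≫ D.eHom P = (yon S).map (D.b P) := (D.exists_eHom P).choose_spec.1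

lemma lift_eHom {T : Over S} (x : T ⟶ D.X) (u : T ⟶ D.US) :
    prod.lift ((yon S).map x ≫ D.p) ((yon S).map u) ≫ D.eHom P = (yon S).map (D.rho P u x) := by
  rw [← map_lift_cc, Category.assoc, c_eHom, ← Functor.map_comp, lift_b]

lemma eSurj_eHom : ESurj (D.eHom P) := by
  intro T g
  obtain ⟨y, rfl⟩ := (yon S).map_surjective g
  let x : T ⨯ D.E ⟶ D.X := prod.lift ((prod.fst ≫ y ≫ P.sA) * (D.α prod.snd (prod.fst ≫ y ≫ P.sU))⁻¹) prod.snd
  refine ⟨T ⨯ D.E, prod.fst, prod.lift ((yon S).map x ≫ D.p) ((yon S).map (prod.fst ≫ y ≫ P.sU)), D.etC_fst T, ?_⟩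
  rw [lift_eHom, ← Functor.map_comp]
  congr 1
  apply P.inj
  rw [rho_sA, prod.lift_fst, prod.lift_snd, inv_mul_cancel_right, Category.assoc]

instance mono_eHom : Mono (D.eHom P) := by
  refine mono_of_injective fun T x y h => ?_
  have hx : x ≫ prod.snd = y ≫ prod.snd := D.yon_sub _ _
  refine Limits.prod.hom_ext ?_ hx
  obtain ⟨T', c', a, a', hc', ha, ha'⟩ := D.exists_lift₂ (x ≫ prod.fst) (y ≫ prod.fst)
  obtain ⟨v, hv⟩ := (yon S).map_surjective (x ≫ prod.snd)
  have := hc'.fpC.epi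
  rw [← cancel_epi ((yon S).map c'), ← ha, ← ha', p_eq_iff]
  refine D.rel_of_rho_eq P (c' ≫ v) ?_
  apply (yon S).map_injective
  rw [← lift_eHom, ← lift_eHom, ha, ha', Functor.map_comp, hv, ← prod.comp_lift, prod_eta, hx,
    ← prod.comp_lift, prod_eta, Category.assoc, Category.assoc, h]

instance isIso_eHom : IsIso (D.eHom P) := (D.eSurj_eHom P).fSurj.isIso_of_mono

/-- The isomorphism over `US`. -/
noncomputable def e : D.N ⨯ (yon S).obj D.US ≅ (yon S).obj P.AS := asIso (D.eHom P)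

@[simp] lemma e_hom : (D.e P).hom = D.eHom P := rfl

/-- The restriction of a section to `US`. -/
lemma map_lift_map_eHom {T T' : Over S} (φ : (yon S).obj T ⟶ D.N) (t : T' ⟶ T) (x : T' ⟶ D.X)
    (u : T' ⟶ D.US) (h : (yon S).map x ≫ D.p = (yon S).map t ≫ φ) :
    prod.lift ((yon S).map t) ((yon S).map u) ≫ prod.map φ (𝟙 _) ≫ D.eHom P =
      (yon S).map (D.rho P u x) := by
  rw [← lift_eHom, ← Category.assoc, prod.lift_map, Category.comp_id, h]

lemma smooth_of_etC {T T' : Over S} (c : T' ⟶ T) (hc : EtC c) (hT : Smooth T.hom) : Smooth T'.hom := by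
  have hc1 := hc.etale
  rw [← Over.w c]
  infer_instance

/-- Uniqueness. -/
theorem uniq_of_smooth {T : Over S} (hT : Smooth T.hom) (φ φ' : (yon S).obj T ⟶ D.N)
    (h : prod.map φ (𝟙 ((yon S).obj D.US)) ≫ D.eHom P = prod.map φ' (𝟙 ((yon S).obj D.US)) ≫ D.eHom P) :
    φ = φ' := by
  obtain ⟨T', c, x, x', hc, hx, hx'⟩ := D.exists_lift₂ φ φ'
  have := hc.fpC.epi
  have hT' : Smooth T'.hom := smooth_of_etC c hc hT
  rw [← cancel_epi ((yon S).map c), ← hx, ← hx', p_eq_iff]
  refine D.rel_of_smooth P hT' ?_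
  apply (yon S).map_injective
  rw [← D.map_lift_map_eHom P φ (prod.fst ≫ c) (prod.fst ≫ x) prod.snd (by
      rw [Functor.map_comp, Functor.map_comp, Category.assoc, Category.assoc, hx]),
    ← D.map_lift_map_eHom P φ' (prod.fst ≫ c) (prod.fst ≫ x') prod.snd (by
      rw [Functor.map_comp, Functor.map_comp, Category.assoc, Category.assoc, hx']), h]

/-- Existence. -/
theorem exists_of_smooth {T : Over S} (hT : Smooth T.hom)
    (γ : (yon S).obj T ⨯ (yon S).obj D.US ⟶ (yon S).obj P.AS) :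
    ∃ φ : (yon S).obj T ⟶ D.N, prod.map φ (𝟙 ((yon S).obj D.US)) ≫ D.eHom P = γ := by
  obtain ⟨f, hf⟩ := (yon S).map_surjective
    (prod.lift ((yon S).map (prod.fst : T ⨯ D.US ⟶ T)) ((yon S).map prod.snd) ≫ γ)
  have hf' : ∀ (R : Over S) (t : R ⟶ T) (v : R ⟶ D.US), (yon S).map (prod.lift t v ≫ f) =
      prod.lift ((yon S).map t) ((yon S).map v) ≫ γ := by
    intro R t v
    rw [Functor.map_comp, hf, ← Category.assoc, prod.comp_lift, ← Functor.map_comp,
      ← Functor.map_comp, prod.lift_fst, prod.lift_snd]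
  obtain ⟨T', c, hc, e, ψ, hψ⟩ := D.univ T hT (f ≫ P.sA)
  have hT' : Smooth T'.hom := smooth_of_etC c hc hT
  let z : T' ⟶ D.X := prod.lift ψ e
  have hz : ∀ (R : Over S) (t : R ⟶ T') (v : R ⟶ D.US), D.rho P v (t ≫ z) = prod.lift (t ≫ c) v ≫ f := by
    intro R t v
    have := congrArg (fun w => prod.lift t v ≫ w) hψ
    simp only [MonObj.comp_mul, ← Category.assoc, prod.lift_map, Category.comp_id, prod.lift_fst] at this
    apply P.inj
    rw [rho_sA, this, Category.assoc, Category.assoc, prod.lift_fst, prod.lift_snd]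
    rfl
  obtain ⟨φ, hφ, -⟩ := hc.fpC.glue ((yon S).map z ≫ D.p) (fun R a b h => by
    have hR : ∃ (r : R ⟶ pullback c c), a = r ≫ pullback.fst c c ∧ b = r ≫ pullback.snd c c :=
      ⟨pullback.lift a b h, (pullback.lift_fst _ _ _).symm, (pullback.lift_snd _ _ _).symm⟩
    obtain ⟨r, rfl, rfl⟩ := hR
    have h0 : Smooth (pullback c c).hom := by
      have h1 : Etale (pullback.fst c c).left :=
        MorphismProperty.of_isPullback (P := @Etale)
          ((IsPullback.of_hasPullback c c).map (Over.forget S)).flip hc.etale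
      rw [← Over.w (pullback.fst c c)]
      infer_instance
    rw [Functor.map_comp, Functor.map_comp, Category.assoc, Category.assoc]
    congr 1
    rw [← Category.assoc, ← Category.assoc, ← Functor.map_comp, ← Functor.map_comp, p_eq_iff]
    refine D.rel_of_smooth P h0 ?_
    rw [← Category.assoc, ← Category.assoc, hz, hz, Category.assoc, Category.assoc, pullback.condition])
  refine ⟨φ, ?_⟩
  refine K613.Basic.hom_ext fun R x => ?_
  obtain ⟨t, ht⟩ := (yon S).map_surjective (x ≫ prod.fst)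
  obtain ⟨v, hv⟩ := (yon S).map_surjective (x ≫ prod.snd)
  have hRc : EtC (pullback.fst t c) :=
    ⟨MorphismProperty.of_isPullback (P := @Etale)
      ((IsPullback.of_hasPullback t c).map (Over.forget S)).flip hc.etale,
     MorphismProperty.of_isPullback (P := @Surjective)
      ((IsPullback.of_hasPullback t c).map (Over.forget S)).flip hc.surj⟩
  have hR := hRc.fpC.epi
  rw [← cancel_epi ((yon S).map (pullback.fst t c)), ← prod_eta x, ← ht, ← hv,
    ← Category.assoc, ← Category.assoc, prod.comp_lift, ← Functor.map_comp, ← Functor.map_comp,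
    ← hf', Category.assoc, D.map_lift_map_eHom P φ (pullback.fst t c ≫ t) (pullback.snd t c ≫ z) _ (by
      rw [pullback.condition, Functor.map_comp, Category.assoc, ← hφ, ← Category.assoc, ← Functor.map_comp]), hz,
    ← pullback.condition, ← Functor.map_comp, ← Category.assoc, prod.comp_lift]

/-- The structure morphism. -/
noncomputable def π : D.N ⟶ (yon S).obj (Over.mk (𝟙 S)) :=
  (IsTerminal.isTerminalObj (yon S) _ Over.mkIdTerminal).from D.N

lemma locP_smooth_π : LocP @Smooth D.π := by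
  refine K597.locP_of_chart K597.etLoc_smooth D.π D.p (𝟙 _) (Over.mkIdTerminal.from D.X)
    D.pres.etale D.pres.surjective (repWith_id _ _) ?_ ?_
  · exact (IsTerminal.isTerminalObj (yon S) _ Over.mkIdTerminal).hom_ext _ _
  · have : (Over.mkIdTerminal.from D.X).left = D.X.hom := by
      simp
    rw [this]
    exact smooth_prod D.smooth_AA (by have := D.et; infer_instance)

/-- The shearing isomorphism. -/
noncomputable def shear : D.X ⨯ D.X ⟶ D.AA ⨯ (D.AA ⨯ (D.E ⨯ D.E)) :=
  prod.lift (prod.fst ≫ prod.fst) (prod.lift ((prod.fst ≫ prod.fst)⁻¹ * (prod.snd ≫ prod.fst))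
    (prod.lift (prod.fst ≫ prod.snd) (prod.snd ≫ prod.snd)))

noncomputable def shearInv : D.AA ⨯ (D.AA ⨯ (D.E ⨯ D.E)) ⟶ D.X ⨯ D.X :=
  prod.lift (prod.lift prod.fst (prod.snd ≫ prod.snd ≫ prod.fst))
    (prod.lift (prod.fst * (prod.snd ≫ prod.fst)) (prod.snd ≫ prod.snd ≫ prod.snd))

lemma shear_shearInv : D.shear ≫ D.shearInv = 𝟙 _ := by
  have k1 : D.shear ≫ prod.fst = prod.fst ≫ prod.fst := prod.lift_fst _ _
  have k2 : D.shear ≫ prod.snd ≫ prod.fst = (prod.fst ≫ prod.fst)⁻¹ * (prod.snd ≫ prod.fst) := by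
    rw [shear, prod.lift_snd_assoc, prod.lift_fst]
  have k3 : D.shear ≫ prod.snd ≫ prod.snd ≫ prod.fst = prod.fst ≫ prod.snd := by
    rw [shear, prod.lift_snd_assoc, prod.lift_snd_assoc, prod.lift_fst]
  have k4 : D.shear ≫ prod.snd ≫ prod.snd ≫ prod.snd = prod.snd ≫ prod.snd := by
    rw [shear, prod.lift_snd_assoc, prod.lift_snd_assoc, prod.lift_snd]
  rw [shearInv, prod.comp_lift, prod.comp_lift, prod.comp_lift, MonObj.comp_mul, k1, k2, k3, k4,
    mul_inv_cancel_left, prod_eta, prod_eta, ← prod_eta (𝟙 (D.X ⨯ D.X)), Category.id_comp, Category.id_comp]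

lemma shearInv_shear : D.shearInv ≫ D.shear = 𝟙 _ := by
  have h1 : D.shearInv ≫ prod.fst ≫ prod.fst = prod.fst := by
    rw [shearInv, prod.lift_fst_assoc, prod.lift_fst]
  have h2 : D.shearInv ≫ prod.snd ≫ prod.fst = prod.fst * (prod.snd ≫ prod.fst) := by
    rw [shearInv, prod.lift_snd_assoc, prod.lift_fst]
  have h3 : D.shearInv ≫ prod.fst ≫ prod.snd = prod.snd ≫ prod.snd ≫ prod.fst := by
    rw [shearInv, prod.lift_fst_assoc, prod.lift_snd]
  have h4 : D.shearInv ≫ prod.snd ≫ prod.snd = prod.snd ≫ prod.snd ≫ prod.snd := by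
    rw [shearInv, prod.lift_snd_assoc, prod.lift_snd]
  rw [shear]
  apply Limits.prod.hom_ext
  · rw [Category.assoc, prod.lift_fst, h1, Category.id_comp]
  · rw [Category.assoc, prod.lift_snd, Category.id_comp, prod.comp_lift, MonObj.comp_mul, GrpObj.comp_inv, h1, h2,
      inv_mul_cancel_left, prod.comp_lift, h3, h4]
    apply Limits.prod.hom_ext
    · rw [prod.lift_fst]
    · rw [prod.lift_snd]
      apply Limits.prod.hom_ext
      · rw [prod.lift_fst, Category.assoc]
      · rw [prod.lift_snd, Category.assoc]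

lemma st_shear : prod.lift D.s D.t ≫ D.shear =
    prod.map (𝟙 D.AA) (prod.lift D.c (prod.lift D.v1 D.v2)) := by
  have h1 : prod.lift D.s D.t ≫ prod.fst ≫ prod.fst = prod.fst := by
    rw [prod.lift_fst_assoc, s, prod.map_fst, Category.comp_id]
  have h2 : prod.lift D.s D.t ≫ prod.snd ≫ prod.fst = prod.fst * (prod.snd ≫ D.c) := by
    rw [prod.lift_snd_assoc, t, prod.lift_fst]
  have h3 : prod.lift D.s D.t ≫ prod.fst ≫ prod.snd = prod.snd ≫ D.v1 := by
    rw [prod.lift_fst_assoc, s, prod.map_snd]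
  have h4 : prod.lift D.s D.t ≫ prod.snd ≫ prod.snd = prod.snd ≫ D.v2 := by
    rw [prod.lift_snd_assoc, t, prod.lift_snd]
  rw [shear]
  apply Limits.prod.hom_ext
  · rw [Category.assoc, prod.lift_fst, h1, prod.map_fst, Category.comp_id]
  · rw [Category.assoc, prod.lift_snd, prod.map_snd, prod.comp_lift, MonObj.comp_mul, GrpObj.comp_inv, h1, h2,
      inv_mul_cancel_left, prod.comp_lift, h3, h4, prod.comp_lift, prod.comp_lift]

lemma isClosedImmersion_st : IsClosedImmersion (prod.lift D.s D.t).left := by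
  have hi : IsIso D.shear := ⟨D.shearInv, D.shear_shearInv, D.shearInv_shear⟩
  have h1 : IsIso (CategoryTheory.inv D.shear).left := (Over.forget S).map_isIso (CategoryTheory.inv D.shear)
  have h2 : prod.lift D.s D.t = prod.map (𝟙 D.AA) (prod.lift D.c (prod.lift D.v1 D.v2)) ≫ CategoryTheory.inv D.shear := by
    rw [← D.st_shear, Category.assoc, IsIso.hom_inv_id, Category.comp_id]
  have h3 : IsClosedImmersion (prod.map (𝟙 D.AA) (prod.lift D.c (prod.lift D.v1 D.v2))).left :=
    MorphismProperty.of_isPullback (P := @IsClosedImmersion)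
      ((isPullback_id_map D.AA (prod.lift D.c (prod.lift D.v1 D.v2))).map (Over.forget S)) D.closed
  rw [h2, Over.comp_left]
  infer_instance

lemma isClosedImmersion_lift : IsClosedImmersion
    (pullback.lift D.s.left D.t.left ((Over.w _).trans (Over.w D.t).symm) :
      D.R.left ⟶ pullback D.X.hom D.X.hom) := by
  have h4 := D.isClosedImmersion_st
  rw [← K609.Diag.lift_left_comp_prodLeftIsoPullback]
  infer_instance

lemma isSeparatedMor_π : IsSeparatedMor D.π := by
  refine K595.DiagRel.repWith_diagonal_of_diag D.π ?_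
  refine K609.Sep.repWith_diag_of_chart @IsClosedImmersion D.isAlgSpace.diag
    (K609.Sep.repWith_fppf_of_etale D.pres.etale D.pres.surjective) D.pres.isPullback
    D.isClosedImmersion_lift

end Data

end K490.Quo
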