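import Groth.Agent.Ega4dB.SchDense
import Groth.Agent.Ega4late.H537.SchDensePull
import Mathlib.AlgebraicGeometry.Morphisms.OpenImmersion
import Mathlib.AlgebraicGeometry.Restrict

/-!
# A section of a morphism which is birational in a schematic sense is a local isomorphism

`exists_nhd_isOpenImmersion`: if `f : E ⟶ S` is a monomorphism over the open `U` of `S`, the preimage
of `U` is schematically dense in `E` and `σ` is a section of `f` over the open `V`, then `f` is an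
open immersion on some open neighbourhood of `σ s` for every point `s` of `V`.
-/

set_option autoImplicit false
universe u
open CategoryTheory CategoryTheory.Limits AlgebraicGeometry TopologicalSpace

namespace K490.SecNhd

/-- Restriction of schematic density to an open subscheme. -/
lemma isSchematicallyDense_restrict {E : Scheme.{u}} (W U : E.Opens) (hU : CInt.IsSchematicallyDense U) :
    CInt.IsSchematicallyDense (W.ι ⁻¹ᵁ U) :=
  Groth.Agent.Ega4late.H537.SchDensePull.isSchematicallyDense_preimage W.ι U hU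

/-- Two morphisms into `E` which land in `f ⁻¹ U` and agree after `f` are equal, when `f` is a monomorphism
over `U`. -/
lemma eq_of_comp_eq_of_mono_restrict {T E S : Scheme.{u}} (f : E ⟶ S) (U : S.Opens) [Mono (f ∣_ U)]
    (a b : T ⟶ E) (h : a ≫ f = b ≫ f) (ha : ∀ t : T, f (a t) ∈ U) : a = b := by
  have hb : ∀ t : T, f (b t) ∈ U := by
    intro t
    have h1 := ha t
    rw [← Scheme.Hom.comp_apply, h, Scheme.Hom.comp_apply] at h1
    exact h1
  have ha' : Set.range a ⊆ Set.range (f ⁻¹ᵁ U).ι := by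
    rintro _ ⟨t, rfl⟩
    rw [Scheme.Opens.range_ι]
    exact ha t
  have hb' : Set.range b ⊆ Set.range (f ⁻¹ᵁ U).ι := by
    rintro _ ⟨t, rfl⟩
    rw [Scheme.Opens.range_ι]
    exact hb t
  rw [← IsOpenImmersion.lift_fac (f ⁻¹ᵁ U).ι a ha', ← IsOpenImmersion.lift_fac (f ⁻¹ᵁ U).ι b hb']
  congr 1
  rw [← cancel_mono (f ∣_ U), ← cancel_mono U.ι]
  simp only [Category.assoc, morphismRestrict_ι]
  rw [IsOpenImmersion.lift_fac_assoc, IsOpenImmersion.lift_fac_assoc, h]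

theorem exists_nhd_isOpenImmersion {E S : Scheme.{u}} (f : E ⟶ S) (U : S.Opens) [Mono (f ∣_ U)]
    (hdense : CInt.IsSchematicallyDense (f ⁻¹ᵁ U)) (V : S.Opens) (σ : (V : Scheme.{u}) ⟶ E)
    (hσ : σ ≫ f = V.ι) (s : (V : Scheme.{u})) :
    ∃ W : E.Opens, σ s ∈ W ∧ IsOpenImmersion (W.ι ≫ f) := by
  have hσv : ∀ v : (V : Scheme.{u}), f (σ v) = v.1 := by
    intro v
    rw [← Scheme.Hom.comp_apply, hσ]
    rfl
  -- affine neighbourhoods
  obtain ⟨V₀, hV₀, hsV₀, hV₀V⟩ := exists_isAffineOpen_mem_and_subset (x := f (σ s)) (U := V)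
    (by rw [hσv]; exact s.2)
  obtain ⟨W₀, hW₀, hsW₀, hW₀V⟩ := exists_isAffineOpen_mem_and_subset (x := σ s) (U := f ⁻¹ᵁ V₀) hsV₀
  have hW₀V' : W₀ ≤ f ⁻¹ᵁ V₀ := hW₀V
  -- the open set of points of `V` mapped to `W₀`
  let V₁ : S.Opens := V.ι ''ᵁ (σ ⁻¹ᵁ W₀)
  let V₂ : S.Opens := V₁ ⊓ V₀
  have hV₂V : V₂ ≤ V := inf_le_right.trans hV₀V
  let W : E.Opens := W₀ ⊓ f ⁻¹ᵁ V₂
  have hmemV₂ : f (σ s) ∈ V₂ := by
    refine ⟨⟨s, hsW₀, ?_⟩, hsV₀⟩
    rw [hσv]; rfl
  have hWf : W ≤ f ⁻¹ᵁ V₂ := inf_le_right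
  -- `W ⟶ S` is separated
  have hsep : IsSeparated (W.ι ≫ f) := by
    have : IsAffine W₀ := hW₀
    have : IsAffine V₀ := hV₀
    have h0 : W.ι ≫ f = E.homOfLE (inf_le_left : W ≤ W₀) ≫ f.resLE V₀ W₀ hW₀V' ≫ V₀.ι := by
      rw [Scheme.Hom.resLE_comp_ι, Scheme.homOfLE_ι_assoc]
    rw [h0]
    infer_instance
  -- the restricted section
  let φ : (W : Scheme.{u}) ⟶ V₂ := f.resLE V₂ W hWf
  have hφ : φ ≫ V₂.ι = W.ι ≫ f := Scheme.Hom.resLE_comp_ι _ _
  have hrange : Set.range (S.homOfLE hV₂V ≫ σ) ⊆ Set.range W.ι := by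
    rintro _ ⟨v, rfl⟩
    rw [Scheme.Opens.range_ι]
    have hv : (S.homOfLE hV₂V v).1 = v.1 := by
      have := Scheme.homOfLE_ι S hV₂V
      have h1 := congr($this v)
      exact h1
    have h2 := v.2.1
    obtain ⟨w, hw, hwv⟩ := h2
    have hwv' : w.1 = v.1 := hwv
    have hw' : S.homOfLE hV₂V v = w := Subtype.ext (hv.trans hwv'.symm)
    refine ⟨?_, ?_⟩
    · change σ (S.homOfLE hV₂V v) ∈ W₀
      rw [hw']; exact hw
    · change f (σ (S.homOfLE hV₂V v)) ∈ V₂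
      rw [hσv, hv]; exact v.2
  let τ : (V₂ : Scheme.{u}) ⟶ W := IsOpenImmersion.lift W.ι (S.homOfLE hV₂V ≫ σ) hrange
  have hτ : τ ≫ W.ι = S.homOfLE hV₂V ≫ σ := IsOpenImmersion.lift_fac _ _ _
  have h1 : τ ≫ φ = 𝟙 _ := by
    rw [← cancel_mono V₂.ι, Category.assoc, hφ, ← Category.assoc, hτ, Category.assoc, hσ,
      Scheme.homOfLE_ι, Category.id_comp]
  have h2 : φ ≫ τ = 𝟙 _ := by
    refine Groth.Agent.Ega4dB.SchDense.ext_of_isSchematicallyDense (W.ι ≫ f) ?_ (W.ι ⁻¹ᵁ (f ⁻¹ᵁ U))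
      (isSchematicallyDense_restrict W _ hdense) ?_
    · rw [Category.id_comp, ← hφ, Category.assoc, reassoc_of% h1]
    · rw [← cancel_mono W.ι]
      have h3 : (φ ≫ τ ≫ W.ι) ≫ f = W.ι ≫ f := by
        rw [← hφ, Category.assoc, Category.assoc, ← hφ, reassoc_of% h1]
      apply eq_of_comp_eq_of_mono_restrict f U
      · simp only [Category.assoc, Category.id_comp]
        rw [show φ ≫ τ ≫ W.ι ≫ f = W.ι ≫ f by simpa only [Category.assoc] using h3]
      · intro t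
        have ht : f (W.ι t.1) ∈ U := t.2
        have h4 := congr($h3 t.1)
        change f ((φ ≫ τ ≫ W.ι) t.1) ∈ U
        have h5 : f ((φ ≫ τ ≫ W.ι) t.1) = f (W.ι t.1) := h4
        rw [h5]; exact ht
  have hiso : IsIso φ := ⟨τ, h2, h1⟩
  refine ⟨W, ⟨hsW₀, hmemV₂⟩, ?_⟩
  rw [← hφ]
  infer_instance

end K490.SecNhd
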