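import Groth.Agent.Sga7.H751.SecRoot
import Mathlib.Algebra.Group.Subgroup.Basic
import Mathlib.Data.Int.GCD

/-!
# The subgroup of sections through the identity component of the special fibre
-/

set_option autoImplicit false
universe u
open CategoryTheory MonoidalCategory CartesianMonoidalCategory MonObj GrpObj AlgebraicGeometry Limits

namespace K490.SecUnit

open Groth.Agent.Sga7.H750.SecComp Groth.Agent.Sga7.H751.SecRoot

variable {R : Type u} [CommRing R] [IsLocalRing R]

theorem one_mem (N : Over (Spec (CommRingCat.of R))) [GrpObj N] :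
    (1 : 𝟙_ (Over (Spec (CommRingCat.of R))) ⟶ N) ∈ SGA7.secUnitComp R N := by
  rw [mem_secUnitComp_iff]

theorem inv_mem (N : Over (Spec (CommRingCat.of R))) [GrpObj N]
    {x : 𝟙_ (Over (Spec (CommRingCat.of R))) ⟶ N} (hx : x ∈ SGA7.secUnitComp R N) :
    x⁻¹ ∈ SGA7.secUnitComp R N := by
  have h1 := (secComp_eq_iff N 1 x).mp ((mem_secUnitComp_iff N x).mp hx).symm
  rwa [_root_.one_mul] at h1

/-- The sections through the identity component of the special fibre. -/
def unitSub (N : Over (Spec (CommRingCat.of R))) [GrpObj N] :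
    Subgroup (𝟙_ (Over (Spec (CommRingCat.of R))) ⟶ N) where
  carrier := SGA7.secUnitComp R N
  mul_mem' := mul_mem_secUnitComp N
  one_mem' := one_mem N
  inv_mem' := inv_mem N

@[simp]
theorem mem_unitSub (N : Over (Spec (CommRingCat.of R))) [GrpObj N]
    (x : 𝟙_ (Over (Spec (CommRingCat.of R))) ⟶ N) : x ∈ unitSub N ↔ x ∈ SGA7.secUnitComp R N := Iff.rfl

theorem mem_of_coprime_pow {G : Type*} [Group G] (H : Subgroup G) {x : G} {a b : ℕ} (hab : a.Coprime b)
    (ha : x ^ a ∈ H) (hb : x ^ b ∈ H) : x ∈ H := by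
  have h1 := Nat.gcd_eq_gcd_ab a b
  rw [Nat.Coprime] at hab
  rw [hab] at h1
  have h2 : x = (x ^ a) ^ (Nat.gcdA a b) * (x ^ b) ^ (Nat.gcdB a b) := by
    rw [← zpow_natCast, ← zpow_mul, ← zpow_natCast x b, ← zpow_mul, ← zpow_add, ← h1]
    simp
  rw [h2]
  exact H.mul_mem (H.zpow_mem ha _) (H.zpow_mem hb _)

/-- A morphism preserving the unit section maps sections through the identity component to such. -/
theorem map_mem {M N : Over (Spec (CommRingCat.of R))} [GrpObj M] [GrpObj N] (g : M ⟶ N)
    (hg : η[M] ≫ g = η[N]) {x : 𝟙_ (Over (Spec (CommRingCat.of R))) ⟶ M}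
    (hx : x ∈ SGA7.secUnitComp R M) : x ≫ g ∈ SGA7.secUnitComp R N := by
  change (x ≫ g).left (IsLocalRing.closedPoint R) ∈
    connectedComponentIn (SGA7.specialFibreSet R N) (η[N].left (IsLocalRing.closedPoint R))
  have hx' : x.left (IsLocalRing.closedPoint R) ∈
    connectedComponentIn (SGA7.specialFibreSet R M) (η[M].left (IsLocalRing.closedPoint R)) := hx
  have hη : η[M].left (IsLocalRing.closedPoint R) ∈ SGA7.specialFibreSet R M :=
    section_mem_specialFibreSet M η[M]
  have h1 : g.left '' connectedComponentIn (SGA7.specialFibreSet R M) (η[M].left (IsLocalRing.closedPoint R)) ⊆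
      connectedComponentIn (SGA7.specialFibreSet R N) (η[N].left (IsLocalRing.closedPoint R)) := by
    refine IsPreconnected.subset_connectedComponentIn
      (isPreconnected_connectedComponentIn.image _ g.left.continuous.continuousOn)
      ⟨η[M].left (IsLocalRing.closedPoint R), mem_connectedComponentIn hη, ?_⟩ ?_
    · rw [← Scheme.Hom.comp_apply, ← Over.comp_left, hg]
    · rintro _ ⟨w, hw, rfl⟩
      have h2' : w ∈ SGA7.specialFibreSet R M := connectedComponentIn_subset _ _ hw
      have h2 : M.hom w = IsLocalRing.closedPoint R := h2'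
      change N.hom (g.left w) = IsLocalRing.closedPoint R
      rw [← Scheme.Hom.comp_apply, Over.w g, h2]
  exact h1 ⟨_, hx', by rw [Over.comp_left, Scheme.Hom.comp_apply]⟩

end K490.SecUnit
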