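import Groth.Agent.Neron.K490.WeilNeron

/-!
# The comparison isomorphism of the two base changes along a commutative square
-/

set_option autoImplicit false
universe v u
open CategoryTheory MonoidalCategory CartesianMonoidalCategory MonObj GrpObj AlgebraicGeometry Limits

namespace K490.SqIso

open K490.WeilNeron

variable {S S' S'' : Scheme.{u}} {f : S' ⟶ S}

lemma pullbackComp_hom_fst (q : S'' ⟶ S') (X : Over S) :
    ((Over.pullbackComp q f).hom.app X).left ≫ pullback.fst (pullback.snd X.hom f) q ≫
      pullback.fst X.hom f = pullback.fst X.hom (q ≫ f) := by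
  have h := conjugateEquiv_counit (Over.mapPullbackAdj (q ≫ f))
    ((Over.mapPullbackAdj q).comp (Over.mapPullbackAdj f)) (Over.mapComp q f).inv X
  have h2 := congrArg (fun z => z.left) h
  simp at h2
  exact h2

lemma pullbackComp_inv_fst (q : S'' ⟶ S') (X : Over S) :
    ((Over.pullbackComp q f).inv.app X).left ≫ pullback.fst X.hom (q ≫ f) =
      pullback.fst (pullback.snd X.hom f) q ≫ pullback.fst X.hom f := by
  have h : ((Over.pullbackComp q f).inv.app X).left ≫ ((Over.pullbackComp q f).hom.app X).left =
      𝟙 _ := congrArg (fun z => z.left) ((Over.pullbackComp q f).inv_hom_id_app X)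
  rw [← pullbackComp_hom_fst, ← Category.assoc, h]
  exact Category.id_comp _

lemma pbCongr_fst {f g : S' ⟶ S} (h : f = g) (X : Over S) :
    ((pbCongr h).hom.app X).left ≫ pullback.fst X.hom g = pullback.fst X.hom f := by
  subst h
  exact Category.id_comp _

lemma sqIso_fst {S R L K : Scheme.{u}} {f : S ⟶ R} {b : L ⟶ S} {g : L ⟶ K} {a : K ⟶ R}
    (h : b ≫ f = g ≫ a) (X : Over R) :
    ((sqIso f b g a h).hom.app X).left ≫ pullback.fst (pullback.snd X.hom a) g ≫ pullback.fst X.hom a =
      pullback.fst (pullback.snd X.hom f) b ≫ pullback.fst X.hom f := by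
  change (((Over.pullbackComp b f).inv.app X).left ≫ ((pbCongr h).hom.app X).left ≫
    ((Over.pullbackComp g a).hom.app X).left) ≫ _ = _
  rw [Category.assoc, Category.assoc, pullbackComp_hom_fst, pbCongr_fst, pullbackComp_inv_fst]

/-- Morphisms to the two-step base change are determined by the composite with the projections. -/
theorem ext_fst {R L K : Scheme.{u}} {g : L ⟶ K} {a : K ⟶ R} {X : Over R} {Y : Over L}
    {u v : Y ⟶ (Over.pullback g).obj ((Over.pullback a).obj X)}
    (h : u.left ≫ pullback.fst (pullback.snd X.hom a) g ≫ pullback.fst X.hom a =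
      v.left ≫ pullback.fst (pullback.snd X.hom a) g ≫ pullback.fst X.hom a) : u = v := by
  have h1 : u.left ≫ pullback.snd (pullback.snd X.hom a) g = v.left ≫ pullback.snd (pullback.snd X.hom a) g :=
    (Over.w u).trans (Over.w v).symm
  ext1
  apply pullback.hom_ext
  · apply pullback.hom_ext
    · rw [Category.assoc, Category.assoc]
      exact h
    · rw [Category.assoc, Category.assoc]
      change u.left ≫ pullback.fst (pullback.snd X.hom a) g ≫ pullback.snd X.hom a =
        v.left ≫ pullback.fst (pullback.snd X.hom a) g ≫ pullback.snd X.hom a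
      rw [pullback.condition, reassoc_of% h1]
  · exact h1

theorem eq_sqIso {S R L K : Scheme.{u}} {f : S ⟶ R} {b : L ⟶ S} {g : L ⟶ K} {a : K ⟶ R}
    (h : b ≫ f = g ≫ a) {N : Over R} {P : Over K} (e : (Over.pullback a).obj N ≅ P)
    (c : (Over.pullback b).obj ((Over.pullback f).obj N) ⟶ (Over.pullback g).obj P)
    (hc : c.left ≫ ((Over.pullback g).map e.inv).left ≫
        pullback.fst (pullback.snd N.hom a) g ≫ pullback.fst N.hom a =
      pullback.fst (pullback.snd N.hom f) b ≫ pullback.fst N.hom f) :
    c = (sqIso f b g a h).hom.app N ≫ (Over.pullback g).map e.hom := by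
  have h1 : c ≫ (Over.pullback g).map e.inv = (sqIso f b g a h).hom.app N := by
    apply ext_fst
    rw [sqIso_fst, Over.comp_left, Category.assoc]
    exact hc
  rw [← h1, Category.assoc, ← Functor.map_comp, Iso.inv_hom_id, CategoryTheory.Functor.map_id]
  exact (Category.comp_id _).symm

end K490.SqIso
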