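import Groth.Agent.Neron.K490.PtsBc
import Groth.Agent.Neron.K489.UnipField
import Groth.Agent.Etcore.AbTors
import Groth.Agent.Etcore.DimBaseChange
import Groth.Agent.AbVar.K510.TateMod
import Groth.Agent.Etcore.SepClosedRed

/-!
# Torsion points of an extension of an abelian variety by a unipotent group

`0 → H → P_L → A → 0` over a finite purely inseparable extension `L / k`, `H` unipotent: counting the
torsion points of `P` over a separable closure of `k`.
-/

set_option autoImplicit false
universe v u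
open CategoryTheory MonoidalCategory CartesianMonoidalCategory MonObj GrpObj AlgebraicGeometry Limits

namespace K490.TatePts

open K490.PseudoNeron K490.TorsNeron K490.PtsBc SGA7

attribute [local instance] Functor.grpObjObj

/-- Divisibility of the group of points over a separably closed field. -/
theorem exists_root {K Ω : Type u} [Field K] [Field Ω] [Algebra K Ω] [IsSepClosed Ω]
    (A : Over (Spec (CommRingCat.of K))) [GrpObj A] [IsCommMonObj A] [LocallyOfFiniteType A.hom]
    [QuasiCompact A.hom] [ConnectedSpace ↥A.left]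
    (n : ℕ) (hn : (n : K) ≠ 0) (x : Pts Ω A) : ∃ y : Pts Ω A, y ^ n = x := by
  have hsurj := K490.TorsIso.surjective_pow A hn
  have het : Etale ((𝟙 A : A ⟶ A) ^ n).left := K490.TorsIso.etale_pow A hn
  let p : pullback ((𝟙 A : A ⟶ A) ^ n).left x.left ⟶ Spec (CommRingCat.of Ω) := pullback.snd _ _
  obtain ⟨c, hc⟩ := hsurj.surj (x.left (IsLocalRing.closedPoint Ω))
  obtain ⟨y, hy1, hy2⟩ := Scheme.Pullback.exists_preimage_pullback (f := ((𝟙 A : A ⟶ A) ^ n).left) (g := x.left) c
    (IsLocalRing.closedPoint Ω) hc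
  have hΩ : EtCoh.IsStrictlyHenselianLocalRing Ω :=
    ⟨inferInstance, Groth.Agent.Etrest.SHPoint.isSepClosed_residueField Ω⟩
  obtain ⟨a, ha, -⟩ := Groth.Agent.Dix.NeronEllPts.exists_section hΩ p y hy2 Set.univ isOpen_univ trivial
  have hw : (a ≫ pullback.fst ((𝟙 A : A ⟶ A) ^ n).left x.left) ≫ A.hom = (pt (K := K) Ω).hom := by
    have h1 := Over.w ((𝟙 A : A ⟶ A) ^ n)
    have h2 := Over.w x
    rw [← h1, Category.assoc, pullback.condition_assoc, ← Category.assoc a, ha, Category.id_comp]
    exact h2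
  let z : Pts Ω A := Over.homMk (a ≫ pullback.fst ((𝟙 A : A ⟶ A) ^ n).left x.left) hw
  refine ⟨z, ?_⟩
  rw [← comp_id_pow]
  ext1
  show (a ≫ pullback.fst _ _) ≫ ((𝟙 A : A ⟶ A) ^ n).left = x.left
  rw [Category.assoc, pullback.condition, ← Category.assoc, ha, Category.id_comp]

/-- `Spec Ω` as a scheme over the base of a tower. -/
noncomputable def ptIso' {k L Ω : Type u} [Field k] [Field L] [Field Ω] [Algebra k L] [Algebra L Ω] [Algebra k Ω]
    [IsScalarTower k L Ω] :
    pt (K := k) Ω ≅ (Over.map (Spec.map (CommRingCat.ofHom (algebraMap k L)))).obj (pt (K := L) Ω) :=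
  Over.isoMk (Iso.refl _) (by
    change 𝟙 _ ≫ (Spec.map (CommRingCat.ofHom (algebraMap L Ω)) ≫ Spec.map (CommRingCat.ofHom (algebraMap k L))) =
      Spec.map (CommRingCat.ofHom (algebraMap k Ω))
    rw [Category.id_comp, ← Spec.map_comp, ← CommRingCat.ofHom_comp, ← IsScalarTower.algebraMap_eq])

/-- Points of the base change in a tower of fields. -/
theorem card_tower {k L Ω : Type u} [Field k] [Field L] [Field Ω] [Algebra k L] [Algebra L Ω] [Algebra k Ω]
    [IsScalarTower k L Ω] (P : Over (Spec (CommRingCat.of k))) [GrpObj P] (n : ℕ) :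
    Nat.card {x : pt (K := L) Ω ⟶ (Over.pullback (Spec.map (CommRingCat.ofHom (algebraMap k L)))).obj P // x ^ n = 1} =
      Nat.card {y : pt (K := k) Ω ⟶ P // y ^ n = 1} :=
  card_bc _ P n _ _ ptIso'

/-- Torsion points over a separably closed field and over an algebraic extension of it. -/
theorem card_purInsep {k Ω Ω' : Type u} [Field k] [Field Ω] [Field Ω'] [Algebra k Ω] [Algebra Ω Ω'] [Algebra k Ω']
    [IsScalarTower k Ω Ω'] [IsPurelyInseparable Ω Ω']
    (P : Over (Spec (CommRingCat.of k))) [GrpObj P] [IsCommMonObj P] [Smooth P.hom] (n : ℕ) (hn : (n : k) ≠ 0) :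
    Nat.card {x : pt (K := k) Ω ⟶ P // x ^ n = 1} = Nat.card {x : pt (K := k) Ω' ⟶ P // x ^ n = 1} := by
  let w : Spec (CommRingCat.of Ω') ⟶ Spec (CommRingCat.of Ω) := Spec.map (CommRingCat.ofHom (algebraMap Ω Ω'))
  let f : Spec (CommRingCat.of Ω) ⟶ Spec (CommRingCat.of k) := Spec.map (CommRingCat.ofHom (algebraMap k Ω))
  have hw1 : IsIntegralHom w := by
    rw [IsIntegralHom.SpecMap_iff]
    exact algebraMap_isIntegral_iff.mpr inferInstance
  have hw2 : UniversallyInjective w := Groth.Agent.Etcore.SepClosedRed.universallyInjective_spec Ω Ω'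
  have hw3 : Surjective w := inferInstance
  let G := (Over.pullback f).obj P
  have hGc : IsCommMonObj G := inferInstance
  have hGs : Smooth G.hom := by
    change Smooth (pullback.snd P.hom f)
    infer_instance
  have hnΩ : (n : Ω) ≠ 0 := by
    have := (algebraMap k Ω).injective.ne hn
    rwa [map_natCast, map_zero] at this
  have h1 : Nat.card {x : 𝟙_ (Over (Spec (CommRingCat.of Ω))) ⟶ G // x ^ n = 1} =
      Nat.card {y : pt (K := k) Ω ⟶ P // y ^ n = 1} :=
    card_bc f P n _ _ (Over.isoMk (Iso.refl _) (by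
      change 𝟙 _ ≫ 𝟙 _ ≫ f = f
      rw [Category.id_comp, Category.id_comp]))
  have h2 := card_univHomeo w G n
    (fun s => K490.DualIsog.natCast_residueField_ne_zero (IsUnit.mk0 _ hnΩ) s) (𝟙_ (Over (Spec (CommRingCat.of Ω))))
  have h3 : Nat.card {x : (Over.pullback w).obj (𝟙_ (Over (Spec (CommRingCat.of Ω)))) ⟶ (Over.pullback w).obj G // x ^ n = 1} =
      Nat.card {y : pt (K := Ω) Ω' ⟶ G // y ^ n = 1} := by
    refine card_bc w G n _ _ ?_
    refine Over.isoMk (asIso (pullback.snd (𝟙 (Spec (CommRingCat.of Ω))) w)).symm ?_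
    change inv (pullback.snd (𝟙 (Spec (CommRingCat.of Ω))) w) ≫ pullback.snd (𝟙 (Spec (CommRingCat.of Ω))) w ≫ w = w
    rw [IsIso.inv_hom_id_assoc]
  have h4 := card_tower (k := k) (L := Ω) (Ω := Ω') P n
  rw [← h1, h2, h3]
  exact h4

/-- Torsion points of an abelian variety over a separably closed extension. -/
theorem card_av {K : Type u} [Field K] (A : Over (Spec (CommRingCat.of K))) [GrpObj A] [IsProper A.hom]
    [GeometricallyIntegral A.hom] (Ω : Type u) [Field Ω] [Algebra K Ω] [IsSepClosed Ω] (g : ℕ)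
    (hg : topologicalKrullDim A.left = g) (n : ℕ) (hn : (n : K) ≠ 0) :
    Nat.card {x : Pts Ω A // x ^ n = 1} = n ^ (2 * g) := by
  have hnΩ : (n : Ω) ≠ 0 := by
    have := (algebraMap K Ω).injective.ne hn
    rwa [map_natCast, map_zero] at this
  have h1 : IsProper (Groth.Agent.Sga7.H761.BaseChg.bcA Ω A).hom := by
    change IsProper (pullback.snd A.hom _)
    infer_instance
  have h2 : GeometricallyIntegral (Groth.Agent.Sga7.H761.BaseChg.bcA Ω A).hom := by
    change GeometricallyIntegral (pullback.snd A.hom _)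
    infer_instance
  have h3 : topologicalKrullDim (Groth.Agent.Sga7.H761.BaseChg.bcA Ω A).left = topologicalKrullDim A.left :=
    Groth.Agent.Etcore.DimBaseChange.topologicalKrullDim_eq (Field.toIsField K) (Field.toIsField Ω)
      A.hom (Groth.Agent.Sga7.H761.BaseChg.bcA Ω A).hom (pullback.fst _ _)
      (Groth.Agent.Sga7.H761.BaseChg.fKL K Ω) (IsPullback.of_hasPullback _ _)
  refine (Groth.Agent.Sga7.H761.BaseChg.card_torsion_bc Ω A n).symm.trans ?_
  exact Groth.Agent.Etcore.AbTors.card_torsion (Groth.Agent.Sga7.H761.BaseChg.bcA Ω A) g (h3.trans hg) n hnΩ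

/-- Torsion of `P_L` and of its abelian quotient, over the algebraic closure. -/
theorem card_quotient {L : Type u} [Field L] {H G A : Over (Spec (CommRingCat.of L))} [GrpObj H] [GrpObj G] [GrpObj A]
    [IsCommMonObj H] [IsCommMonObj G] [IsCommMonObj A] [Smooth G.hom] [LocallyOfFiniteType A.hom]
    (i : H ⟶ G) [IsMonHom i] (π : G ⟶ A) [IsMonHom π] (hker : AlgGrp.IsKernel i π) [Surjective π.left]
    [Smooth H.hom] [ConnectedSpace ↥H.left] [IsAffine H.left]
    (hH : Red.HasNoSubtorus (AlgebraicClosure L)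
      (Red.bc (Spec.map (CommRingCat.ofHom (algebraMap L (AlgebraicClosure L)))) H))
    (n : ℕ) (hn : (n : L) ≠ 0) :
    Nat.card {x : pt (K := L) (AlgebraicClosure L) ⟶ G // x ^ n = 1} =
      Nat.card {x : pt (K := L) (AlgebraicClosure L) ⟶ A // x ^ n = 1} := by
  have hmi : Mono i := mono_of_isKernel i π hker
  have hcl : ∀ y : pt (K := L) (AlgebraicClosure L) ⟶ H, y ^ n = 1 → y = 1 := by
    intro y hy
    let Hb := Red.bc (Spec.map (CommRingCat.ofHom (algebraMap L (AlgebraicClosure L)))) H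
    have hHc : ConnectedSpace ↥Hb.left := by
      have := K489.UnipField.irreducibleSpace_bc (AlgebraicClosure L) H
      change ConnectedSpace ↥(Red.bc (Spec.map (CommRingCat.ofHom (algebraMap L (AlgebraicClosure L)))) H).left
      infer_instance
    have hHs : Smooth Hb.hom := inferInstanceAs (Smooth (pullback.snd H.hom _))
    have hHa : IsAffine Hb.left := inferInstanceAs (IsAffine (pullback H.hom _))
    have hn' : (n : AlgebraicClosure L) ≠ 0 := by
      have := (algebraMap L (AlgebraicClosure L)).injective.ne hn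
      rwa [map_natCast, map_zero] at this
    let ε := Groth.Agent.Sga7.H761.BaseChg.ptEquiv (AlgebraicClosure L) H
    have h1 : (ε.symm y) ^ n = 1 := by rw [← map_pow, hy, map_one]
    have h2 : ε.symm y = 1 :=
      K489.Unip.eq_one_of_pow_eq_one_of_isAlgClosed (AlgebraicClosure L) Hb hH n hn' (ε.symm y) h1
    rw [← ε.apply_symm_apply y, h2, map_one]
  refine Nat.card_congr (Equiv.ofBijective (fun x => ⟨x.1 ≫ π, ?_⟩) ⟨?_, ?_⟩)
  · rw [← MonObj.pow_comp, x.2, MonObj.one_comp]
  · intro x x' hxx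
    have h1 : x.1 ≫ π = x'.1 ≫ π := congrArg Subtype.val hxx
    have hc : Commute x.1 x'.1⁻¹ := by
      have : x.1 * x'.1⁻¹ = x'.1⁻¹ * x.1 := Hom.commGroup.mul_comm _ _
      exact this
    have h4 : (x.1 * x'.1⁻¹) ≫ π = 1 := by rw [MonObj.mul_comp, GrpObj.inv_comp, h1, mul_inv_cancel]
    obtain ⟨y, hy⟩ := exists_lift i π hker (x.1 * x'.1⁻¹) h4
    have h5 : y ^ n = 1 := by
      rw [← cancel_mono i, MonObj.pow_comp, hy, hc.mul_pow, x.2, inv_pow, x'.2, inv_one, _root_.one_mul,
        MonObj.one_comp]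
    have h6 := hcl y h5
    rw [h6, MonObj.one_comp] at hy
    exact Subtype.ext (mul_inv_eq_one.mp hy.symm)
  · intro y
    obtain ⟨x, hx1, hx2⟩ := K490.TorsIso.exists_lift_geom i π hker hn _ y.1 y.2
    exact ⟨⟨x, hx2⟩, Subtype.ext hx1⟩

end K490.TatePts
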