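import Groth.Agent.Sga7.H760.KerBc
import Groth.Agent.Sga7.H751.PowEtale
import Groth.Agent.Grpsch.KerMul
import Groth.Agent.Neron.K490.PseudoNeron
import Groth.Agent.RedSub.H650.ValAC

/-!
# Torsion in an extension by a group without torsion

`0 → H → G → A → 0` over a field, `n` invertible, `H` smooth connected without `n`-torsion: then
`G[n] → A[n]` is an isomorphism.
-/

set_option autoImplicit false
universe v u
open CategoryTheory MonoidalCategory CartesianMonoidalCategory MonObj GrpObj AlgebraicGeometry Limits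

namespace K490.TorsIso

open Groth.Agent.Sga7.H760 Groth.Agent.Sga7.H760.Ker Groth.Agent.Sga7.H760.KerBc K490.PseudoNeron

variable {k : Type u} [Field k]

theorem etale_pow (G : Over (Spec (CommRingCat.of k))) [GrpObj G] [IsCommMonObj G]
    [LocallyOfFiniteType G.hom] {n : ℕ} (hn : (n : k) ≠ 0) : Etale ((𝟙 G : G ⟶ G) ^ n).left := by
  have hlfp : LocallyOfFinitePresentation G.hom := by
    have : IsNoetherianRing (CommRingCat.of k) := inferInstanceAs (IsNoetherianRing k)
    infer_instance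
  exact Groth.Agent.Sga7.H751.PowEtale.etale_pow G n fun s =>
    K490.DualIsog.natCast_residueField_ne_zero (IsUnit.mk0 _ hn) s

/-- Multiplication by `n` is surjective on a smooth connected commutative group. -/
theorem surjective_pow (H : Over (Spec (CommRingCat.of k))) [GrpObj H] [IsCommMonObj H] [LocallyOfFiniteType H.hom]
    [QuasiCompact H.hom] [ConnectedSpace ↥H.left] {n : ℕ} (hn : (n : k) ≠ 0) :
    Surjective ((𝟙 H : H ⟶ H) ^ n).left := by
  have het := etale_pow H hn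
  have hm : IsMonHom ((𝟙 H : H ⟶ H) ^ n) := Groth.Agent.Grpsch.KerMul.isMonHom_id_pow n
  have hqc := FieldHom.quasiCompact_left ((𝟙 H : H ⟶ H) ^ n)
  obtain ⟨D, _, p, i, h1, h2, h3, h4, h5, h6, h7, h8, h9⟩ := FieldHom.exists_fact ((𝟙 H : H ⟶ H) ^ n)
  have hr : Set.range ((𝟙 H : H ⟶ H) ^ n).left = Set.range i.left := by
    rw [← h3, Over.comp_left]
    ext y
    constructor
    · rintro ⟨x, rfl⟩
      exact ⟨p.left x, by rw [Scheme.Hom.comp_apply]⟩
    · rintro ⟨x, rfl⟩
      obtain ⟨z, rfl⟩ := p.left.surjective x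
      exact ⟨z, by rw [Scheme.Hom.comp_apply]⟩
  have hcl : IsClosed (Set.range ((𝟙 H : H ⟶ H) ^ n).left) := by
    rw [hr]; exact i.left.isClosedEmbedding.isClosed_range
  have hop : IsOpen (Set.range ((𝟙 H : H ⟶ H) ^ n).left) :=
    ((𝟙 H : H ⟶ H) ^ n).left.isOpenMap.isOpen_range
  have hne : (Set.range ((𝟙 H : H ⟶ H) ^ n).left).Nonempty := Set.range_nonempty _
  have := IsClopen.eq_univ ⟨hcl, hop⟩ hne
  exact ⟨Set.range_eq_univ.mp this⟩

variable {G A H : Over (Spec (CommRingCat.of k))} [GrpObj G] [GrpObj A] [GrpObj H]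
  [IsCommMonObj G] [IsCommMonObj A] [IsCommMonObj H]
  [LocallyOfFiniteType G.hom] [LocallyOfFiniteType A.hom] [LocallyOfFiniteType H.hom]
  [QuasiCompact H.hom] [ConnectedSpace ↥H.left]
  (i : H ⟶ G) [IsMonHom i] (π : G ⟶ A) [IsMonHom π] (hker : AlgGrp.IsKernel i π)
  [Surjective π.left] {n : ℕ} (hn : (n : k) ≠ 0)

include hker hn

/-- Geometric torsion points lift. -/
theorem exists_lift_geom {Ω : Type u} [Field Ω] [IsAlgClosed Ω]
    (t : Spec (CommRingCat.of Ω) ⟶ Spec (CommRingCat.of k))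
    (w : Over.mk t ⟶ A) (hw : w ^ n = 1) : ∃ x : Over.mk t ⟶ G, x ≫ π = w ∧ x ^ n = 1 := by
  have hlft : ∀ {X Y : Over (Spec (CommRingCat.of k))} (u : X ⟶ Y) [LocallyOfFiniteType X.hom]
      [LocallyOfFiniteType Y.hom], LocallyOfFiniteType u.left := by
    intro X Y u _ _
    have : LocallyOfFiniteType (u.left ≫ Y.hom) := by rw [Over.w]; infer_instance
    exact locallyOfFiniteType_of_comp u.left Y.hom
  have hlift : ∀ {X Y : Over (Spec (CommRingCat.of k))} (u : X ⟶ Y) [LocallyOfFiniteType X.hom]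
      [LocallyOfFiniteType Y.hom] [Surjective u.left] (y : Over.mk t ⟶ Y), ∃ x : Over.mk t ⟶ X, x ≫ u = y := by
    intro X Y u _ _ _ y
    have := hlft u
    obtain ⟨x, hx⟩ := Groth.Agent.RedSub.H650.ValAC.exists_lift_pt u.left Ω y.left
    refine ⟨Over.homMk x (by rw [← Over.w u, reassoc_of% hx]; exact Over.w y), ?_⟩
    ext1
    exact hx
  obtain ⟨x, hx⟩ := hlift π w
  have h1 : (x ^ n) ≫ π = 1 := by rw [MonObj.pow_comp, hx, hw]
  obtain ⟨y, hy⟩ := exists_lift i π hker (x ^ n) h1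
  have hs := surjective_pow H hn
  obtain ⟨z, hz⟩ := hlift ((𝟙 H : H ⟶ H) ^ n) y
  rw [comp_id_pow] at hz
  have h2 : (z ≫ i) ^ n = x ^ n := by rw [← MonObj.pow_comp, hz, hy]
  refine ⟨x * (z ≫ i)⁻¹, ?_, ?_⟩
  · have h3 : i ≫ π = 1 := hker.w
    rw [MonObj.mul_comp, GrpObj.inv_comp, Category.assoc, h3, MonObj.comp_one, hx, inv_one, _root_.mul_one]
  · have hc : Commute x (z ≫ i)⁻¹ := by
      have : x * (z ≫ i)⁻¹ = (z ≫ i)⁻¹ * x := Hom.commGroup.mul_comm _ _
      exact this
    rw [hc.mul_pow, inv_pow, h2, mul_inv_cancel]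

/-- `G[n] → A[n]` is an isomorphism if `H` has no `n`-torsion points. -/
theorem existsUnique_lift (hH : ∀ (T : Over (Spec (CommRingCat.of k))) (y : T ⟶ H), y ^ n = 1 → y = 1)
    {T : Over (Spec (CommRingCat.of k))} (w : T ⟶ A) (hw : w ^ n = 1) :
    ∃! x : T ⟶ G, x ≫ π = w ∧ x ^ n = 1 := by
  have hinj : ∀ {T : Over (Spec (CommRingCat.of k))} (x x' : T ⟶ G), x ≫ π = x' ≫ π → x ^ n = 1 →
      x' ^ n = 1 → x = x' := by
    intro T x x' h1 h2 h3
    have hc : Commute x x'⁻¹ := by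
      have : x * x'⁻¹ = x'⁻¹ * x := Hom.commGroup.mul_comm _ _
      exact this
    have h4 : (x * x'⁻¹) ≫ π = 1 := by rw [MonObj.mul_comp, GrpObj.inv_comp, h1, mul_inv_cancel]
    obtain ⟨y, hy⟩ := exists_lift i π hker (x * x'⁻¹) h4
    have hm : Mono i := mono_of_isKernel i π hker
    have h5 : y ^ n = 1 := by
      rw [← cancel_mono i, MonObj.pow_comp, hy, hc.mul_pow, h2, inv_pow, h3, inv_one, _root_.one_mul,
        MonObj.one_comp]
    have h6 := hH T y h5
    rw [h6, MonObj.one_comp] at hy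
    exact mul_inv_eq_one.mp hy.symm
  have hG := etale_pow G hn
  have hA := etale_pow A hn
  let uG := (𝟙 G : G ⟶ G) ^ n
  let uA := (𝟙 A : A ⟶ A) ^ n
  have hkG : Etale (ker uG).hom :=
    MorphismProperty.pullback_snd (P := @Etale) uG.left (unit G) hG
  have hkA : Etale (ker uA).hom :=
    MorphismProperty.pullback_snd (P := @Etale) uA.left (unit A) hA
  have iG := (isKernel_iff _ _).mp (isKernel_ker uG)
  have iA := (isKernel_iff _ _).mp (isKernel_ker uA)
  have hιG : kerι uG ^ n = 1 := by rw [← comp_id_pow]; exact iG.1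
  have hιA : kerι uA ^ n = 1 := by rw [← comp_id_pow]; exact iA.1
  obtain ⟨h, hh, -⟩ := iA.2 _ (kerι uG ≫ π) (by rw [comp_id_pow, ← MonObj.pow_comp, hιG, MonObj.one_comp])
  have hmonoG : Mono (kerι uG) := ⟨fun a b hab => by
    obtain ⟨c, -, hc⟩ := iG.2 _ (a ≫ kerι uG) (by rw [Category.assoc, iG.1, MonObj.comp_one])
    exact (hc a rfl).trans (hc b hab.symm).symm⟩
  have hmonoh : Mono h := ⟨fun a b hab => by
    rw [← cancel_mono (kerι uG)]
    refine hinj _ _ ?_ ?_ ?_
    · rw [Category.assoc, Category.assoc, ← hh, reassoc_of% hab]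
    · rw [← MonObj.comp_pow, hιG, MonObj.comp_one]
    · rw [← MonObj.comp_pow, hιG, MonObj.comp_one]⟩
  have hmono' : Mono h.left := inferInstance
  have hkill : ∀ {T : Over (Spec (CommRingCat.of k))} (c : T ⟶ ker uA), (c ≫ kerι uA) ≫ uA = 1 := by
    intro T c
    rw [Category.assoc, iA.1, MonObj.comp_one]
  have hy2 : ∀ {T : Over (Spec (CommRingCat.of k))} (y : T ⟶ ker uG), (y ≫ h) ≫ kerι uA = (y ≫ kerι uG) ≫ π := by
    intro T y
    rw [Category.assoc, hh, Category.assoc]
  have het : Etale h.left := by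
    have : Etale (h.left ≫ (ker uA).hom) := by rw [Over.w]; exact hkG
    exact Etale.of_comp h.left (ker uA).hom
  have hoi : IsOpenImmersion h.left := IsOpenImmersion.of_flat_of_mono h.left
  have hsurj : Surjective h.left := by
    constructor
    intro a
    let Ω := AlgebraicClosure ((ker uA).left.residueField a)
    let α : Spec (CommRingCat.of Ω) ⟶ (ker uA).left :=
      Spec.map (CommRingCat.ofHom (algebraMap ((ker uA).left.residueField a) Ω)) ≫
        (ker uA).left.fromSpecResidueField a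
    let α' : Over.mk (α ≫ (ker uA).hom) ⟶ ker uA := Over.homMk α rfl
    obtain ⟨x, hx1, hx2⟩ := exists_lift_geom i π hker hn (α ≫ (ker uA).hom) (α' ≫ kerι uA)
      (by rw [← MonObj.comp_pow, hιA, MonObj.comp_one])
    obtain ⟨y, hy, -⟩ := iG.2 _ x (by rw [comp_id_pow]; exact hx2)
    have h1 : y ≫ h = α' := by
      obtain ⟨c, -, hc⟩ := iA.2 _ (α' ≫ kerι uA) (hkill α')
      exact (hc _ ((hy2 y).trans ((congrArg (· ≫ π) hy).trans hx1))).trans (hc α' rfl).symm
    let o : ↥(Spec (CommRingCat.of Ω)) := IsLocalRing.closedPoint Ω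
    refine ⟨y.left o, ?_⟩
    rw [← Scheme.Hom.comp_apply, ← Over.comp_left, h1]
    change α o = a
    change ((ker uA).left.fromSpecResidueField a) _ = a
    exact Scheme.fromSpecResidueField_apply _ _
  have hiso : IsIso h.left := by
    exact (isIso_iff_isOpenImmersion_and_surjective h.left).mpr ⟨hoi, hsurj⟩
  have hiso' : IsIso h := by
    have : IsIso ((Over.forget _).map h) := hiso
    exact isIso_of_reflects_iso h (Over.forget _)
  obtain ⟨w', hw', -⟩ := iA.2 _ w (by rw [comp_id_pow]; exact hw)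
  refine ⟨w' ≫ inv h ≫ kerι uG, ⟨?_, ?_⟩, fun x' hx' => ?_⟩
  · rw [Category.assoc, Category.assoc, ← hh, IsIso.inv_hom_id_assoc, hw']
  · rw [← MonObj.comp_pow, ← MonObj.comp_pow, hιG, MonObj.comp_one, MonObj.comp_one]
  · refine hinj _ _ ?_ hx'.2 ?_
    · rw [hx'.1, Category.assoc, Category.assoc, ← hh, IsIso.inv_hom_id_assoc, hw']
    · rw [← MonObj.comp_pow, ← MonObj.comp_pow, hιG, MonObj.comp_one, MonObj.comp_one]

end K490.TorsIso
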