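import Groth.Agent.Neron.K490.EtExt
import Groth.Agent.Neron.K490.TorsIso

/-!
# Torsion of the base change of a Néron model along a universal homeomorphism

`b ≫ f = c ≫ a` a commutative square of schemes with `f`, `c` universal homeomorphisms (base change
from `S` to `S'` with generic points `T`, `T'`), `N` over `S` with étale mapping property, `P` its generic
fibre, `M` over `S'` with generic fibre `A`, and `π : P_{T'} ⟶ A` bijective on `n`-torsion points;
then any `g : N_{S'} ⟶ M` extending `π` is bijective on `n`-torsion points.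
-/

set_option autoImplicit false
universe v u
open CategoryTheory MonoidalCategory CartesianMonoidalCategory MonObj GrpObj AlgebraicGeometry Limits

namespace K490.TorsNeron

open K490.WeilNeron K490.PseudoNeron Groth.Agent.Sga7.H760 Groth.Agent.Sga7.H760.Ker
  Groth.Agent.Sga7.H760.KerBc

attribute [local instance] Functor.grpObjObj

theorem map_pow_pb {S S' : Scheme.{u}} (f : S' ⟶ S) {X A : Over S} [GrpObj A] (x : X ⟶ A) (n : ℕ) :
    (Over.pullback f).map (x ^ n) = ((Over.pullback f).map x) ^ n :=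
  map_pow (Functor.homMonoidHom (Over.pullback f) (X := X) (M := A)) x n

theorem map_one_pb {S S' : Scheme.{u}} (f : S' ⟶ S) {X A : Over S} [GrpObj A] :
    (Over.pullback f).map (1 : X ⟶ A) = 1 :=
  map_one (Functor.homMonoidHom (Over.pullback f) (X := X) (M := A))

theorem etale_pow' {S : Scheme.{u}} (G : Over S) [GrpObj G] [IsCommMonObj G] [Smooth G.hom] (n : ℕ)
    (hn : ∀ s : S, (n : S.residueField s) ≠ 0) : Etale ((𝟙 G : G ⟶ G) ^ n).left :=
  Groth.Agent.Sga7.H751.PowEtale.etale_pow G n hn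

section ker

variable {S : Scheme.{u}} (G : Over S) [GrpObj G] [IsCommMonObj G] [Smooth G.hom] (n : ℕ)
    (hn : ∀ s : S, (n : S.residueField s) ≠ 0)

/-- The `n`-torsion `G[n]` is an étale scheme. -/
theorem exists_torsion (hn : ∀ s : S, (n : S.residueField s) ≠ 0) :
    ∃ (D : Over S) (j : D ⟶ G), Etale D.hom ∧ j ^ n = 1 ∧ Mono j ∧ AlgGrp.IsKernel j ((𝟙 G : G ⟶ G) ^ n) ∧
      ∀ (T : Over S) (t : T ⟶ G), t ^ n = 1 → ∃ y : T ⟶ D, y ≫ j = t := by
  have hE := etale_pow' G n hn
  let uG := (𝟙 G : G ⟶ G) ^ n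
  have hkG : Etale (ker uG).hom :=
    MorphismProperty.pullback_snd (P := @Etale) uG.left (unit G) hE
  have iG := (isKernel_iff _ _).mp (isKernel_ker uG)
  refine ⟨ker uG, kerι uG, hkG, by rw [← comp_id_pow]; exact iG.1, ⟨fun a b hab => ?_⟩, isKernel_ker uG, ?_⟩
  · obtain ⟨c, -, hc⟩ := iG.2 _ (a ≫ kerι uG) (by rw [Category.assoc, iG.1, MonObj.comp_one])
    exact (hc a rfl).trans (hc b hab.symm).symm
  · intro T t ht
    obtain ⟨y, hy, -⟩ := iG.2 T t (by rw [comp_id_pow]; exact ht)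
    exact ⟨y, hy⟩

end ker

variable {S S' T T' : Scheme.{u}} {f : S' ⟶ S} {b : T' ⟶ S'} {c : T' ⟶ T} {a : T ⟶ S}

theorem bijOn (h : b ≫ f = c ≫ a) [IsIntegralHom f] [UniversallyInjective f] [Surjective f]
    [IsIntegralHom c] [UniversallyInjective c] [Surjective c]
    {N : Over S} [GrpObj N] [IsCommMonObj N] [Smooth N.hom]
    {P : Over T} [GrpObj P] [IsCommMonObj P] [Smooth P.hom]
    {M : Over S'} [GrpObj M] [IsCommMonObj M] [Smooth M.hom]
    {A : Over T'} [GrpObj A]
    (hN : ∀ Y : Over S, Etale Y.hom → Function.Surjective (fun y : Y ⟶ N => (Over.pullback a).map y))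
    (hinjN : ∀ (W : Over S') (y y' : W ⟶ (Over.pullback f).obj N), Etale W.hom →
      (Over.pullback b).map y = (Over.pullback b).map y' → y = y')
    (hinjM : ∀ (W : Over S') (y y' : W ⟶ M), Etale W.hom →
      (Over.pullback b).map y = (Over.pullback b).map y' → y = y')
    (e : (Over.pullback a).obj N ≅ P)
    (eM : (Over.pullback b).obj M ≅ A) [IsMonHom eM.hom]
    (π : (Over.pullback c).obj P ⟶ A) [IsMonHom π]
    (cc : (Over.pullback b).obj ((Over.pullback f).obj N) ≅ (Over.pullback c).obj P) [IsMonHom cc.hom]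
    (hcc : cc.hom = (sqIso f b c a h).hom.app N ≫ (Over.pullback c).map e.hom)
    (g : (Over.pullback f).obj N ⟶ M) [IsMonHom g]
    (hg : (Over.pullback b).map g ≫ eM.hom = cc.hom ≫ π)
    (n : ℕ) (hnS : ∀ s : S', (n : S'.residueField s) ≠ 0) (hnT : ∀ s : T, (n : T.residueField s) ≠ 0)
    (hl : ∀ (Y : Over T') (w : Y ⟶ A), w ^ n = 1 →
      ∃! x : Y ⟶ (Over.pullback c).obj P, x ≫ π = w ∧ x ^ n = 1)
    (Y : Over S') :
    Set.BijOn (fun x : Y ⟶ (Over.pullback f).obj N => x ≫ g)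
      {x : Y ⟶ (Over.pullback f).obj N | x ^ n = 1} {y : Y ⟶ M | y ^ n = 1} := by
  have hsm : Smooth ((Over.pullback f).obj N).hom := by
    change Smooth (pullback.snd N.hom f)
    infer_instance
  have hcomm : IsCommMonObj ((Over.pullback f).obj N) := inferInstance
  obtain ⟨W, jW, hWe, hWn, hWm, -, hWl⟩ := exists_torsion M n hnS
  obtain ⟨Z, jZ, hZe, hZn, hZm, -, hZl⟩ := exists_torsion ((Over.pullback f).obj N) n hnS
  obtain ⟨D, jD, hDe, hDn, hDm, hDk, hDl⟩ := exists_torsion P n hnT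
  have hDk' := isKernel_bc c hDk
  have hDk'' := (isKernel_iff _ _).mp hDk'
  -- the generic fibre of the inverse
  have hw1 : ((Over.pullback b).map jW ≫ eM.hom) ^ n = 1 := by
    rw [← MonObj.pow_comp, ← map_pow_pb, hWn, map_one_pb, MonObj.one_comp]
  obtain ⟨wL, ⟨hwL1, hwL2⟩, -⟩ := hl _ _ hw1
  obtain ⟨w, hw, -⟩ := hDk''.2 _ wL (by
    have := map_pow_pb c (𝟙 P) n
    rw [CategoryTheory.Functor.map_id] at this
    erw [this]
    rw [comp_id_pow]
    exact hwL2)
  obtain ⟨x, hx⟩ := K490.EtExt.exists_ext h hN e jD W w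
  have hx' : (Over.pullback b).map x ≫ cc.hom = wL := by rw [hcc, hx, hw]
  have hmono : Mono cc.hom := inferInstance
  have hxg : x ≫ g = jW := by
    apply hinjM _ _ _ hWe
    rw [← cancel_mono eM.hom, Functor.map_comp, Category.assoc, hg, reassoc_of% hx', hwL1]
  have hxn : x ^ n = 1 := by
    apply hinjN _ _ _ hWe
    rw [← cancel_mono cc.hom, map_pow_pb, map_one_pb, MonObj.pow_comp, hx', MonObj.one_comp, hwL2]
  obtain ⟨θ, hθ⟩ := hWl Z (jZ ≫ g) (by rw [← MonObj.pow_comp, hZn, MonObj.one_comp])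
  have hθx : θ ≫ x = jZ := by
    apply hinjN _ _ _ hZe
    rw [← cancel_mono cc.hom]
    have h3 : ((Over.pullback b).map (jZ ≫ g) ≫ eM.hom) ^ n = 1 := by
      rw [← MonObj.pow_comp, ← map_pow_pb, ← MonObj.pow_comp, hZn, MonObj.one_comp, map_one_pb, MonObj.one_comp]
    have h4 := hl _ _ h3
    apply h4.unique
    · constructor
      · rw [Category.assoc, ← hg, ← Functor.map_comp_assoc, Category.assoc, hxg, hθ]
      · rw [← MonObj.pow_comp, ← map_pow_pb, ← MonObj.comp_pow, hxn, MonObj.comp_one, map_one_pb,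
          MonObj.one_comp]
    · constructor
      · rw [Category.assoc, ← hg, ← Functor.map_comp_assoc]
      · rw [← MonObj.pow_comp, ← map_pow_pb, hZn, map_one_pb, MonObj.one_comp]
  refine ⟨fun y hy => ?_, fun y hy y' hy' hyy => ?_, fun y hy => ?_⟩
  · change (y ≫ g) ^ n = 1
    have hy0 : y ^ n = 1 := hy
    rw [← MonObj.pow_comp, hy0, MonObj.one_comp]
  · obtain ⟨z, hz⟩ := hZl Y y hy
    obtain ⟨z', hz'⟩ := hZl Y y' hy'
    have h5 : (z ≫ θ) ≫ jW = (z' ≫ θ) ≫ jW := by
      rw [Category.assoc, Category.assoc, hθ, reassoc_of% hz, reassoc_of% hz']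
      exact hyy
    rw [cancel_mono] at h5
    rw [← hz, ← hz', ← hθx, reassoc_of% h5]
  · obtain ⟨t, ht⟩ := hWl Y y hy
    refine ⟨t ≫ x, ?_, ?_⟩
    · change (t ≫ x) ^ n = 1
      rw [← MonObj.comp_pow, hxn, MonObj.comp_one]
    · change (t ≫ x) ≫ g = y
      rw [Category.assoc, hxg, ht]

end K490.TorsNeron
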