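import Groth.Agent.PrincBund.K826.Tors
import Groth.Agent.GrpQ.H776.DescFamily
import Groth.Prelude.Def_NonAbH2
import Mathlib.AlgebraicGeometry.Sites.Fpqc

/-!
# Properties of a group scheme are inherited by its fppf torsors

`prop_of_isTorsorFor`: for a property `P` of morphisms stable under base change, local on the target and
descending along flat, locally finitely presented surjections: if the group `G` has `P` then so does every
`G`-torsor for the fppf topology.
-/

set_option autoImplicit false
universe u

open CategoryTheory CategoryTheory.Limits MonoidalCategory CartesianMonoidalCategory MonObj GrpObj AlgebraicGeometry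

namespace K490.TorsorProp

variable {S : Scheme.{u}}

/-- A scheme which is locally trivial for the fppf topology acquires sections over flat, locally finitely
presented schemes whose images cover the base. -/
theorem exists_section {X : Over S} (h : NonAbH1.IsLocallyTrivialFor Scheme.fppfPrecoverage X) (s : S) :
    ∃ (V : Over S) (_ : V ⟶ X), Flat V.hom ∧ LocallyOfFinitePresentation V.hom ∧ s ∈ Set.range V.hom := by
  obtain ⟨R, hR, hsec⟩ := h
  obtain ⟨J, Z, g, rfl⟩ := R.exists_eq_ofArrows
  have h1 := hR
  rw [Scheme.fppfPrecoverage, Scheme.ofArrows_mem_precoverage_iff] at h1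
  obtain ⟨i, hi⟩ := h1.1 s
  obtain ⟨σ, hσ⟩ := hsec (g i) (Presieve.ofArrows.mk i)
  exact ⟨Over.mk (g i), Over.homMk σ hσ, (h1.2 i).1, (h1.2 i).2, hi⟩

variable {G X : Over S} [GrpObj G]

/-- A point `x : T ⟶ X` of a pseudo-torsor induces `G ×_S T ≅ X ×_S T`, `(g, t) ↦ (g x(t), t)`. -/
theorem isIso_of_point {a : AlgGrp.Action G X} (ha : NonAbH1.IsPseudoTorsorSch a) {T : Over S} (x : T ⟶ X) :
    IsIso (lift (lift (fst G T) (snd G T ≫ x) ≫ a.act) (snd G T)) := by
  obtain ⟨d, hd, -⟩ := K826.Tors.existsUnique_of_pseudo ha (snd X T ≫ x) (fst X T)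
  refine ⟨⟨lift d (snd X T), ?_, ?_⟩⟩
  · have h1 : lift (lift (fst G T) (snd G T ≫ x) ≫ a.act) (snd G T) ≫ d = fst G T := by
      obtain ⟨g, hg, hu⟩ := K826.Tors.existsUnique_of_pseudo ha (snd G T ≫ x)
        (lift (fst G T) (snd G T ≫ x) ≫ a.act)
      refine (hu _ ?_).trans (hu _ rfl).symm
      change lift _ (snd G T ≫ x) ≫ a.act = _
      have h2 := congrArg (lift (lift (fst G T) (snd G T ≫ x) ≫ a.act) (snd G T) ≫ ·) hd
      simp only [← Category.assoc, comp_lift, lift_snd, lift_fst] at h2
      simpa only [← Category.assoc] using h2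
    rw [comp_lift, h1, lift_snd, lift_fst_snd]
  · rw [comp_lift, lift_snd]
    have h1 : lift d (snd X T) ≫ lift (fst G T) (snd G T ≫ x) ≫ a.act = fst X T := by
      rw [← Category.assoc, comp_lift, lift_fst, lift_snd_assoc]
      exact hd
    rw [h1, lift_fst_snd]

/-- A property of the group passes to the base change of the torsor along a scheme with a point of the
torsor. -/
theorem prop_of_point (P : MorphismProperty Scheme.{u}) [P.IsStableUnderBaseChange]
    {a : AlgGrp.Action G X} (ha : NonAbH1.IsPseudoTorsorSch a) (hG : P G.hom) {T : Over S} (x : T ⟶ X) :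
    P (pullback.snd X.hom T.hom) := by
  have h1 := isIso_of_point ha x
  have h2 : P (snd G T).left := P.pullback_snd _ _ hG
  have h3 : (lift (lift (fst G T) (snd G T ≫ x) ≫ a.act) (snd G T)).left ≫ (snd X T).left =
      (snd G T).left := by
    rw [← Over.comp_left, lift_snd]
  rw [← h3] at h2
  have h4 : IsIso (lift (lift (fst G T) (snd G T ≫ x) ≫ a.act) (snd G T)).left :=
    inferInstanceAs (IsIso ((Over.forget S).map (lift (lift (fst G T) (snd G T ≫ x) ≫ a.act) (snd G T))))
  exact (P.cancel_left_of_respectsIso _ _).1 h2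

/-- Properties of `G` are inherited by torsors. -/
theorem prop_of_isTorsorFor (P : MorphismProperty Scheme.{u}) [P.IsStableUnderBaseChange]
    [IsZariskiLocalAtTarget P] [P.DescendsAlong (@Surjective ⊓ @Flat ⊓ @LocallyOfFinitePresentation)]
    {a : AlgGrp.Action G X} (ha : NonAbH1.IsTorsorFor Scheme.fppfPrecoverage a) (hG : P G.hom) :
    P X.hom := by
  choose V x hV1 hV2 hV3 using exists_section ha.2
  exact Groth.Agent.GrpQ.H776.DescFamily.of_family P X.hom (fun s => (V s).left)
    (fun s => pullback X.hom (V s).hom) (fun s => (V s).hom) (fun s => pullback.fst _ _)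
    (fun s => pullback.snd _ _) (fun s => IsPullback.of_hasPullback _ _) (fun s => ⟨s, hV3 s⟩)
    (fun s => prop_of_point P ha.1 hG (x s))

end K490.TorsorProp
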