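import Groth.Agent.Neron.K490.GenRes
import Groth.Agent.Neron.K490.TorsorProp
import Groth.Agent.PrincBund.K826.Descend
import Groth.Agent.Desc.MorDescent
import Mathlib.RingTheory.DedekindDomain.Basic

/-!
# Torsors under Néron models are Néron models

The proof does not use any base change of Néron models: a morphism from the generic fibre of a smooth
`Y` to the torsor `P` differs over `Y ×_S P` from the projection to `P` by a point of the group.
-/

set_option autoImplicit false
universe u

open CategoryTheory CategoryTheory.Limits MonoidalCategory CartesianMonoidalCategory AlgebraicGeometry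
open Groth.Agent.Dix.GenFibre K490.GenRes

namespace K490.TorsorNeron

variable {R : Type u} [CommRing R] [IsDomain R]

/-- The morphism `gen Y × P ⟶ gen (Y × P)`. -/
theorem exists_genProd (Y P : Over (Spec (CommRingCat.of R))) :
    ∃ w : gen Y ⊗ P ⟶ gen (Y ⊗ P), w ≫ genMap (fst Y P) = fst (gen Y) P := by
  obtain ⟨q, hq⟩ := exists_factor Y
  obtain ⟨w, hw⟩ := exists_lift_gen (gi Y ▷ P) ((fst (gen Y) P).left ≫ q) (by
    rw [← Over.w (fst (gen Y) P), hq, Category.assoc])
  refine ⟨w, ?_⟩
  rw [← cancel_mono (gi Y), Category.assoc, genMap_gi, ← Category.assoc, hw]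
  simp

/-- `genMap (fst Y P)` can be cancelled when `P` is locally trivial. -/
theorem cancel_genMap_fst {P : Over (Spec (CommRingCat.of R))}
    (hP : NonAbH1.IsLocallyTrivialFor Scheme.fppfPrecoverage P) {Y N : Over (Spec (CommRingCat.of R))}
    {f g : gen Y ⟶ N} (h : genMap (fst Y P) ≫ f = genMap (fst Y P) ≫ g) : f = g := by
  obtain ⟨w, hw⟩ := exists_genProd Y P
  refine K826.Descend.cancel_fst Scheme.fppfPrecoverage_le_fpqcPrecoverage hP ?_
  rw [← hw, Category.assoc, Category.assoc, h]

theorem isNeronModelOf_torsor (X : Over (Spec (CommRingCat.of R))) [GrpObj X]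
    (hX : Neron.IsNeronModelOf R X ((Neron.genericFibre R).obj X) (Iso.refl _))
    {P : Over (Spec (CommRingCat.of R))} (a : AlgGrp.Action X P)
    (ha : NonAbH1.IsTorsorFor Scheme.fppfPrecoverage a) :
    Neron.IsNeronModelOf R P ((Neron.genericFibre R).obj P) (Iso.refl _) := by
  have hsm : Smooth P.hom :=
    K490.TorsorProp.prop_of_isTorsorFor @Smooth ha hX.1
  have hsep : IsSeparated P.hom := by
    have := Groth.Agent.Desc.MorDescent.descendsAlong_isSeparated.{u}
    exact K490.TorsorProp.prop_of_isTorsorFor @IsSeparated ha hX.2.1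
  have hqc : QuasiCompact P.hom := by
    have := Groth.Agent.Desc.MorDescent.descendsAlong_quasiCompact.{u}
    exact K490.TorsorProp.prop_of_isTorsorFor @QuasiCompact ha hX.2.2.2.1
  refine isNeronModelOf_of hsm hsep hqc fun Y hY f => ?_
  -- the cover `Y ⊗ P` of `Y`
  have hfstsm : Smooth (snd Y P).left := inferInstanceAs (Smooth (pullback.snd Y.hom P.hom))
  have hYP : Smooth (Y ⊗ P).hom := by
    rw [← Over.w (snd Y P)]
    infer_instance
  obtain ⟨g₀, hg₀, -⟩ := K826.Tors.existsUnique_of_pseudo ha.1 (gi (Y ⊗ P) ≫ snd Y P)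
    (genMap (fst Y P) ≫ f)
  obtain ⟨g, hg⟩ := exists_extension hX hYP g₀
  let u' : Y ⊗ P ⟶ P := lift g (snd Y P) ≫ a.act
  have hu' : gi (Y ⊗ P) ≫ u' = genMap (fst Y P) ≫ f := by
    change gi (Y ⊗ P) ≫ lift g (snd Y P) ≫ a.act = _
    rw [← Category.assoc, comp_lift, hg]
    exact hg₀
  have hdesc : ∀ (T' : Over (Spec (CommRingCat.of R))) (t : T' ⟶ Y) (x x' : T' ⟶ P),
      lift t x ≫ u' = lift t x' ≫ u' := by
    have huniv : Y ◁ fst P P ≫ u' = Y ◁ snd P P ≫ u' := by
      have hPPs : Smooth (snd P P).left := inferInstanceAs (Smooth (pullback.snd P.hom P.hom))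
      have hPP : Smooth (P ⊗ P).hom := by rw [← Over.w (snd P P)]; infer_instance
      have hs2 : Smooth (snd Y (P ⊗ P)).left := inferInstanceAs (Smooth (pullback.snd Y.hom (P ⊗ P).hom))
      have hsm2 : Smooth (Y ⊗ (P ⊗ P)).hom := by rw [← Over.w (snd Y (P ⊗ P))]; infer_instance
      have hfl : Flat (Y ⊗ (P ⊗ P)).hom := inferInstance
      refine ext_gi ?_
      have hu1 : ∀ w : Y ⊗ (P ⊗ P) ⟶ Y ⊗ P, gi (Y ⊗ (P ⊗ P)) ≫ w ≫ u' = genMap (w ≫ fst Y P) ≫ f := by
        intro w
        rw [← genMap_gi_assoc, hu', genMap_comp, Category.assoc]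
      rw [hu1, hu1]
      congr 2
      simp
    intro T' t x x'
    have h1 := congrArg (lift t (lift x x') ≫ ·) huniv
    simpa using h1
  obtain ⟨u, hu, -⟩ := K826.Descend.existsUnique_descend Scheme.fppfPrecoverage_le_fpqcPrecoverage
    ha.2 u' hdesc
  refine ⟨u, ?_⟩
  apply cancel_genMap_fst ha.2
  rw [← hu', ← hu, genMap_gi_assoc]

end K490.TorsorNeron
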