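import Groth.Agent.WeilRes.K933.WRAlg
import Mathlib.RingTheory.Smooth.Basic
import Mathlib.RingTheory.FiniteType

/-!
# The Weil restriction of a smooth algebra along a finite free algebra is smooth
-/

set_option autoImplicit false
universe u

open TensorProduct

namespace K490.WeilSmAlg

open Groth.Agent.Sga3B.Hens.WeilRes

variable (A A' : Type u) [CommRing A] [CommRing A'] [Algebra A A'] (E : Type u) [CommRing E] [Algebra A' E]

/-- `π : E → P ⊗ A'` is the universal `A'`-homomorphism: `P` is the Weil restriction of `E`. -/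
structure IsUniv (P : Type u) [CommRing P] [Algebra A P] (π : E →+* P ⊗[A] A') : Prop where
  alg : ∀ a : A', π (algebraMap A' E a) = 1 ⊗ₜ[A] a
  univ : ∀ (B : Type u) [CommRing B] [Algebra A B] (e : E →+* B ⊗[A] A'),
    (∀ a : A', e (algebraMap A' E a) = 1 ⊗ₜ[A] a) →
      ∃! φ : P →ₐ[A] B, ∀ x, Algebra.TensorProduct.map φ (AlgHom.id A A') (π x) = e x

variable {A A' E} {P : Type u} [CommRing P] [Algebra A P] {π : E →+* P ⊗[A] A'}
  [Module.Finite A A'] [Module.Free A A']

/-- The kernel of `B ⊗ A' → B/I ⊗ A'` has square zero if `I` has. -/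
theorem mul_eq_zero_of_map {B : Type u} [CommRing B] [Algebra A B] (I : Ideal B) (hI : I ^ 2 = ⊥)
    (z w : B ⊗[A] A') (hz : Algebra.TensorProduct.map (Ideal.Quotient.mkₐ A I) (AlgHom.id A A') z = 0)
    (hw : Algebra.TensorProduct.map (Ideal.Quotient.mkₐ A I) (AlgHom.id A A') w = 0) : z * w = 0 := by
  have : Fintype (Module.Free.ChooseBasisIndex A A') := Module.Free.ChooseBasisIndex.fintype A A'
  let bb := Module.Free.chooseBasis A A'
  rw [map_eq_zero_iff bb] at hz hw
  rw [← (bas bb B).sum_repr z, ← (bas bb B).sum_repr w, Finset.sum_mul_sum]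
  refine Finset.sum_eq_zero fun k _ => Finset.sum_eq_zero fun l _ => ?_
  rw [smul_mul_smul_comm]
  have h1 : (bas bb B).repr z k ∈ I := Ideal.Quotient.eq_zero_iff_mem.mp (hz k)
  have h2 : (bas bb B).repr w l ∈ I := Ideal.Quotient.eq_zero_iff_mem.mp (hw l)
  have h3 : (bas bb B).repr z k * (bas bb B).repr w l ∈ I ^ 2 := by
    rw [pow_two]; exact Ideal.mul_mem_mul h1 h2
  rw [hI, Ideal.mem_bot] at h3
  rw [h3, zero_smul]

theorem formallySmooth (h : IsUniv A A' E P π) [Algebra.FormallySmooth A' E] :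
    Algebra.FormallySmooth A P := by
  refine Algebra.FormallySmooth.of_comp_surjective fun B _ _ I hI g => ?_
  let q := Algebra.TensorProduct.map (Ideal.Quotient.mkₐ A I) (AlgHom.id A A')
  have hq : Function.Surjective q :=
    Algebra.TensorProduct.map_surjective _ _ (Ideal.Quotient.mkₐ_surjective A I) Function.surjective_id
  let _ : Algebra A' (B ⊗[A] A') := Algebra.TensorProduct.rightAlgebra
  let _ : Algebra A' ((B ⧸ I) ⊗[A] A') := Algebra.TensorProduct.rightAlgebra
  let q' : B ⊗[A] A' →ₐ[A'] (B ⧸ I) ⊗[A] A' :=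
    { q.toRingHom with
      commutes' := fun a => by
        change q (1 ⊗ₜ[A] a) = 1 ⊗ₜ[A] a
        simp [q] }
  let e₀ : E →ₐ[A'] (B ⧸ I) ⊗[A] A' :=
    { (Algebra.TensorProduct.map g (AlgHom.id A A')).toRingHom.comp π with
      commutes' := fun a => by
        change Algebra.TensorProduct.map g (AlgHom.id A A') (π (algebraMap A' E a)) = 1 ⊗ₜ[A] a
        rw [h.alg]
        simp }
  have hnil : IsNilpotent (RingHom.ker (q' : B ⊗[A] A' →+* (B ⧸ I) ⊗[A] A')) := by
    refine ⟨2, ?_⟩
    rw [pow_two, Ideal.zero_eq_bot, eq_bot_iff, Ideal.mul_le]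
    intro z hz w hw
    exact mul_eq_zero_of_map I hI z w hz hw
  let e := Algebra.FormallySmooth.liftOfSurjective e₀ q' hq hnil
  have he : ∀ x, q (e x) = e₀ x := fun x => Algebra.FormallySmooth.liftOfSurjective_apply e₀ q' hq hnil x
  obtain ⟨φ, hφ, -⟩ := h.univ B e.toRingHom (fun a => e.commutes a)
  refine ⟨φ, ?_⟩
  obtain ⟨ψ, hψ, hψu⟩ := h.univ (B ⧸ I) e₀.toRingHom (fun a => e₀.commutes a)
  have h1 := hψu ((Ideal.Quotient.mkₐ A I).comp φ) (fun x => by
    have h2 : Algebra.TensorProduct.map ((Ideal.Quotient.mkₐ A I).comp φ) (AlgHom.id A A') (π x) =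
        q (Algebra.TensorProduct.map φ (AlgHom.id A A') (π x)) := by
      rw [← AlgHom.comp_apply, ← Algebra.TensorProduct.map_comp]
      rfl
    rw [h2, hφ]
    exact he x)
  have h3 := hψu g (fun x => rfl)
  exact h1.trans h3.symm

theorem finiteType (h : IsUniv A A' E P π) [Algebra.FiniteType A' E] : Algebra.FiniteType A P := by
  classical
  let κ := Module.Free.ChooseBasisIndex A A'
  let bb : Module.Basis κ A A' := Module.Free.chooseBasis A A'
  have : Fintype κ := Module.Free.ChooseBasisIndex.fintype A A'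
  obtain ⟨s, hs⟩ := (inferInstance : Algebra.FiniteType A' E)
  let T : Finset P := (s ×ˢ (Finset.univ : Finset κ)).image fun x => (bas bb P).repr (π x.1) x.2
  let P' : Subalgebra A P := Algebra.adjoin A (T : Set P)
  -- elements of `P ⊗ A'` with coordinates in `P'`
  let m : P' ⊗[A] A' →ₐ[A] P ⊗[A] A' := Algebra.TensorProduct.map P'.val (AlgHom.id A A')
  have hm : Function.Injective m := by
    rw [injective_iff_map_eq_zero]
    intro z hz
    have h1 := (map_eq_zero_iff bb P'.val z).mp hz
    apply (bas bb P').repr.injective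
    ext k
    rw [map_zero]
    exact congrArg Subtype.val (Subtype.ext (h1 k) : (bas bb P').repr z k = 0)
  have hr : ∀ x : E, π x ∈ m.range := by
    intro x
    have hx : x ∈ Algebra.adjoin A' (s : Set E) := by rw [hs]; trivial
    induction hx using Algebra.adjoin_induction with
    | mem x hx =>
      rw [← (bas bb P).sum_repr (π x)]
      refine sum_mem fun k _ => ?_
      have h1 : (bas bb P).repr (π x) k ∈ P' := Algebra.subset_adjoin (by
        simp only [T, Finset.coe_image, Set.mem_image]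
        exact ⟨(x, k), by simpa using hx, rfl⟩)
      refine ⟨(⟨_, h1⟩ : P') ⊗ₜ[A] bb k, ?_⟩
      change m _ = _
      rw [Algebra.TensorProduct.map_tmul, Algebra.TensorProduct.basis_apply, TensorProduct.smul_tmul',
        smul_eq_mul, mul_one]
      rfl
    | algebraMap a =>
      rw [h.alg]
      exact ⟨1 ⊗ₜ[A] a, by change m _ = _; rw [Algebra.TensorProduct.map_tmul, map_one]; rfl⟩
    | add x y _ _ hx hy => rw [map_add]; exact add_mem hx hy
    | mul x y _ _ hx hy => rw [map_mul]; exact mul_mem hx hy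
  let em : P' ⊗[A] A' ≃ₐ[A] m.range := AlgEquiv.ofInjective m hm
  let e : E →+* P' ⊗[A] A' := (em.symm : m.range →ₐ[A] P' ⊗[A] A').toRingHom.comp (π.codRestrict m.range.toSubring hr)
  have he : ∀ x, m (e x) = π x := fun x => congrArg Subtype.val (em.apply_symm_apply ⟨π x, hr x⟩)
  obtain ⟨φ, hφ, -⟩ := h.univ P' e (fun a => by
    apply hm
    rw [he, h.alg]
    change _ = m _
    rw [Algebra.TensorProduct.map_tmul, map_one]
    rfl)
  obtain ⟨ψ, hψ, hψu⟩ := h.univ P π h.alg
  have h1 := hψu (P'.val.comp φ) (fun x => by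
    have h2 : Algebra.TensorProduct.map (P'.val.comp φ) (AlgHom.id A A') (π x) =
        m (Algebra.TensorProduct.map φ (AlgHom.id A A') (π x)) := by
      rw [← AlgHom.comp_apply, ← Algebra.TensorProduct.map_comp]
      rfl
    rw [h2, hφ, he])
  have h3 := hψu (AlgHom.id A P) (fun x => by
    rw [Algebra.TensorProduct.map_id]
    rfl)
  have h4 : P'.val.comp φ = AlgHom.id A P := h1.trans h3.symm
  have h5 : P' = ⊤ := by
    rw [eq_top_iff]
    intro x _
    have := DFunLike.congr_fun h4 x
    change ((φ x : P') : P) = x at this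
    rw [← this]
    exact (φ x).2
  exact ⟨T, h5⟩

end K490.WeilSmAlg
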